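import Cfsg.Agent.H81.TorOrth
import Cfsg.Agent.H316.U6Model

/-!
# `CentRoot m p` for `p ∣ q² - 1`: the exceptional groups (hub H9, U5)
-/

set_option autoImplicit false

namespace Cfsg.Agent.H81.TorOrth

open Cfsg Cfsg.Lie Cfsg.Lie.ChevalleyDatum
open Cfsg.Agent.ChevalleyStructure Cfsg.Agent.ChevalleyStructure.Elts Cfsg.Agent.ChevalleyStructure.CoxeterGeomTypes
open Cfsg.Agent.Nodes Cfsg.Agent.Nodes.RGDChev
open Cfsg.Agent.H316.U6

universe v

variable {l : ℕ} {M : CoxeterMatrix (Fin l)} {r q : ℕ} [Fact r.Prime] {K₀ : Type v} [Group K₀] {p : ℕ} [Fact p.Prime]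

theorem centRoot_g2 {hp : IsType chevG2 l M} (m : MData hp r q K₀) (hg : m.g = AddEquiv.refl _) (hp2 : p ≠ 2)
    (hpr : p ≠ r) (hd : p ∣ q ^ 2 - 1) : CentRoot m p :=
  centRoot m hp2 hpr hd (s := 4) (by decide) (by rw [hg]; rfl) (by decide +kernel)

theorem centRoot_f4 {hp : IsType chevF4 l M} (m : MData hp r q K₀) (hg : m.g = AddEquiv.refl _) (hp2 : p ≠ 2)
    (hpr : p ≠ r) (hd : p ∣ q ^ 2 - 1) : CentRoot m p :=
  centRoot m hp2 hpr hd (s := 6) (by decide) (by rw [hg]; rfl) (by decide +kernel)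

theorem centRoot_e6 {hp : IsType chevE6 l M} (m : MData hp r q K₀) (hg : m.g = AddEquiv.refl _) (hp2 : p ≠ 2)
    (hpr : p ≠ r) (hd : p ∣ q ^ 2 - 1) : CentRoot m p :=
  centRoot m hp2 hpr hd (s := 11) (by decide) (by rw [hg]; rfl) (by decide +kernel)

theorem centRoot_e7 {hp : IsType chevE7 l M} (m : MData hp r q K₀) (hg : m.g = AddEquiv.refl _) (hp2 : p ≠ 2)
    (hpr : p ≠ r) (hd : p ∣ q ^ 2 - 1) : CentRoot m p :=
  centRoot m hp2 hpr hd (s := 33) (by decide) (by rw [hg]; rfl) (by decide +kernel)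

theorem centRoot_e8 {hp : IsType chevE8 l M} (m : MData hp r q K₀) (hg : m.g = AddEquiv.refl _) (hp2 : p ≠ 2)
    (hpr : p ≠ r) (hd : p ∣ q ^ 2 - 1) : CentRoot m p :=
  centRoot m hp2 hpr hd (s := 13) (by decide) (by rw [hg]; rfl) (by decide +kernel)

theorem centRoot_twE6 (m : MData Nodes.RGDTwE6.hp r q K₀) (hg : m.g = H720.TwFr.permE H720.TwFr.rho6) (hp2 : p ≠ 2)
    (hpr : p ≠ r) (hd : p ∣ q ^ 2 - 1) : CentRoot m p :=
  centRoot m hp2 hpr hd (s := 11) (by decide) (by rw [hg]; decide +kernel) (by decide +kernel)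

end Cfsg.Agent.H81.TorOrth
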