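import Cfsg.Agent.H81.DerSec
import Cfsg.Agent.OrdDiv.Main
import Cfsg.Agent.H439.Der.Tools

/-!
# `²E₆(2)`: every maximal subgroup misses two primes (S3500)
-/

set_option autoImplicit false

namespace Cfsg.Agent.H81.Der

open Cfsg Cfsg.Agent.OrdDiv Cfsg.Agent.H439.Der

universe u

/-- the order of `²E₆(2)` -/
def lT : List (ℕ × ℕ) := [(2, 36), (3, 9), (5, 2), (7, 2), (11, 1), (13, 1), (17, 1), (19, 1)]

/-- the order of `²E₆(2)` -/
def NT : ℕ := 76532479683774853939200

theorem vT : valid lT NT = true := by decide +kernel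

/-- the missing primes -/
def miss (n : ℕ) : List ℕ := [5, 7, 11, 13, 17, 19].filter fun p => n % p != 0

theorem cT : (cands lT NT).filter (fun g => Nat.blt (miss (ordN g)).length 2) = [.te6 2] := by decide +kernel

theorem cT' : (cands lT NT).filter (fun g => Nat.blt (miss (ordN g)).length 2 && !(Nat.beq (ordN g) NT)) = [] := by
  have h : (cands lT NT).filter (fun g => Nat.blt (miss (ordN g)).length 2 && !(Nat.beq (ordN g) NT)) =
      ((cands lT NT).filter (fun g => Nat.blt (miss (ordN g)).length 2)).filter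
        (fun g => !(Nat.beq (ordN g) NT)) := by
    rw [List.filter_filter]
    exact List.filter_congr fun g _ => by rw [Bool.and_comm]
  rw [h, cT]
  decide +kernel

theorem fpf_tab : ∀ v ∈ [17, 19], ∀ x ∈ lT, ∀ j ∈ List.range (x.2 + 1), 1 ≤ j → x.1 ^ j % v = 1 → x.1 = 2 := by
  decide

theorem fpf_two {v t : ℕ} (hv : v ∈ [17, 19]) (ht : t.Prime) {n : ℕ} (hn : n ∣ NT) (h : Fpf n v t) : t = 2 := by
  obtain ⟨k, hk, hd, hm⟩ := h
  obtain ⟨kk, hmem, hle⟩ := exists_pair vT ht hk (hd.trans hn)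
  refine fpf_tab v hv _ hmem k (List.mem_range.2 (by simp only; omega)) hk ?_
  have h1 : t ^ k % v = 1 % v := hm
  rw [h1]
  simp only [List.mem_cons, List.not_mem_nil, or_false] at hv
  rcases hv with rfl | rfl <;> rfl

theorem prime_tab : ∀ p ∈ [5, 7, 11, 13, 17, 19], p.Prime := by decide

theorem dvd_tab : ∀ p ∈ [5, 7, 11, 13, 17, 19], p ∣ NT := by decide +kernel

theorem cv_tab : ∀ p ∈ [5, 7, 11, 13, 17, 19], (p ∣ 3 * 17 * (17 - 1) → p = 17) ∧ (p ∣ 1 * 19 * (19 - 1) → p = 19) := by
  decide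

/-- two missing primes -/
def MissTwo (T : Type u) [Group T] (M : Subgroup T) : Prop :=
  ∃ a b : ℕ, a.Prime ∧ b.Prime ∧ a ≠ b ∧ a ∣ Nat.card T ∧ b ∣ Nat.card T ∧ ¬ a ∣ Nat.card M ∧ ¬ b ∣ Nat.card M

theorem MissTwo.two {T : Type u} [Group T] [Finite T] {M : Subgroup T} (h : MissTwo T M) : Two T M := by
  obtain ⟨a, b, ha, hb, hab, h1, h2, h3, h4⟩ := h
  exact Two.of_two_primes ha hb hab h1 h2 h3 h4

theorem MissTwo.pgap {T : Type u} [Group T] {M : Subgroup T} (h : MissTwo T M) :
    Cfsg.Agent.H938.Sax.PGap T M := by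
  obtain ⟨a, b, ha, hb, hab, h1, h2, h3, h4⟩ := h
  exact ⟨a, ha, h1, h3⟩

theorem two_of_miss {T : Type u} [Group T] [Finite T] (hT : Nat.card T = NT) {M : Subgroup T} {n : ℕ}
    (h2 : 2 ≤ (miss n).length) (hM : ∀ p ∈ miss n, ¬ p ∣ Nat.card M) : MissTwo T M := by
  obtain ⟨a, b, L, h⟩ : ∃ a b L, miss n = a :: b :: L := by
    match h : miss n with
    | [] => rw [h] at h2; simp at h2
    | [a] => rw [h] at h2; simp at h2
    | a :: b :: L => exact ⟨a, b, L, rfl⟩
  have ha : a ∈ miss n := by rw [h]; exact List.mem_cons_self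
  have hb : b ∈ miss n := by rw [h]; exact List.mem_cons_of_mem _ List.mem_cons_self
  have hnd : (miss n).Nodup := List.Nodup.filter _ (by decide)
  have hab : a ≠ b := by
    rw [h] at hnd
    have h3 := (List.nodup_cons.1 hnd).1
    intro h4
    exact h3 (h4 ▸ List.mem_cons_self)
  have ha' := (List.mem_filter.1 ha).1
  have hb' := (List.mem_filter.1 hb).1
  exact ⟨a, b, prime_tab a ha', prime_tab b hb', hab, hT ▸ dvd_tab a ha', hT ▸ dvd_tab b hb', hM a ha, hM b hb⟩

theorem not_dvd_of_miss {n p : ℕ} (h : p ∈ miss n) : ¬ p ∣ n := by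
  intro hd
  have h1 := (List.mem_filter.1 h).2
  rw [Nat.mod_eq_zero_of_dvd hd] at h1
  exact absurd h1 (by decide)

/-- a proper subgroup of order divisible by `v = 17` or `v = 19` -/
theorem two_of_section (tab : OrderTable.{u})
    (hS : ∀ (X : Type u) [Group X] [Finite X] [IsSimpleGroup X], IsKnownSimple' X)
    {T : Type u} [Group T] [Finite T] (hT : Nat.card T = NT) {M : Subgroup T} (hM : M ≠ ⊤) {v c : ℕ}
    (hv : v = 17 ∧ c = 3 ∨ v = 19 ∧ c = 1) (hvM : v ∣ Nat.card M)
    (hc : ∀ x : T, orderOf x = v → Nat.card (Subgroup.centralizer ({x} : Set T)) ∣ c * v) : MissTwo T M := by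
  have hvp : v.Prime := by rcases hv with ⟨rfl, -⟩ | ⟨rfl, -⟩ <;> norm_num
  have hvm : v ∈ [17, 19] := by rcases hv with ⟨rfl, -⟩ | ⟨rfl, -⟩ <;> simp
  have hMN : Nat.card M ∣ NT := hT ▸ Subgroup.card_subgroup_dvd_card M
  have hv2 : ¬ v ^ 2 ∣ Nat.card M := by
    intro h
    have h1 := h.trans hMN
    rcases hv with ⟨rfl, -⟩ | ⟨rfl, -⟩
    · exact absurd h1 (by decide +kernel)
    · exact absurd h1 (by decide +kernel)
  have hcM : ∀ x : M, orderOf x = v → Nat.card (Subgroup.centralizer ({x} : Set M)) ∣ c * v := by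
    intro x hx
    have hxo : orderOf (x : T) = v := by rw [Subgroup.orderOf_coe, hx]
    let f : Subgroup.centralizer ({x} : Set M) →* Subgroup.centralizer ({(x : T)} : Set T) :=
      (M.subtype.comp (Subgroup.subtype _)).codRestrict _ (fun z => by
        rw [Subgroup.mem_centralizer_singleton_iff]
        exact congrArg Subtype.val (Subgroup.mem_centralizer_singleton_iff.1 z.2))
    have hf : Function.Injective f := fun a b h =>
      Subtype.ext (Subtype.ext (congrArg (fun z : Subgroup.centralizer ({(x : T)} : Set T) => (z : T)) h))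
    exact (Subgroup.card_dvd_of_injective f hf).trans (hc _ hxo)
  obtain ⟨S, i1, i2, hSs, hvS, hSM, hpr⟩ := exists_section hvp hvM hv2 hcM
  have hlt : Nat.card S ≠ NT := by
    intro h
    apply hM
    apply Subgroup.eq_top_of_card_eq
    rw [hT]
    exact Nat.dvd_antisymm hMN (h ▸ hSM)
  -- the missing primes of `S` are missing
  have key : ∀ p ∈ miss (Nat.card S), ¬ p ∣ Nat.card M := by
    intro p hp hpM
    have hp' := (List.mem_filter.1 hp).1
    have hpS := not_dvd_of_miss hp
    rcases hpr p (prime_tab p hp') hpM with h | h | h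
    · exact hpS h
    · have h1 := cv_tab p hp'
      rcases hv with ⟨rfl, rfl⟩ | ⟨rfl, rfl⟩
      · exact hpS ((h1.1 h) ▸ hvS)
      · exact hpS ((h1.2 h) ▸ hvS)
    · have h1 := fpf_two hvm (prime_tab p hp') hMN h
      rw [h1] at hp'
      exact absurd hp' (by decide)
  by_cases hab : ∀ a b : S, a * b = b * a
  · -- `S` has prime order
    have h1 : Nat.card S = v := by
      have hcm : IsMulCommutative S := ⟨⟨hab⟩⟩
      let _ : CommGroup S := { (inferInstance : Group S) with mul_comm := hab }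
      have h2 : (Nat.card S).Prime := IsSimpleGroup.prime_card
      exact ((Nat.prime_dvd_prime_iff_eq hvp h2).1 hvS).symm
    refine two_of_miss hT (n := Nat.card S) ?_ key
    rw [h1]
    rcases hv with ⟨rfl, -⟩ | ⟨rfl, -⟩ <;> decide
  · by_contra hno
    have h2 : (miss (Nat.card S)).length < 2 := by
      by_contra h3
      exact hno (two_of_miss hT (not_lt.1 h3) key)
    obtain ⟨g, hg, -⟩ := exists_real_filter tab (hS S) hab vT (hSM.trans hMN)
      (fun n => Nat.blt (miss n).length 2 && !(Nat.beq n NT)) (by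
        have h3 : Nat.beq (Nat.card S) NT = false := by
          rw [Bool.eq_false_iff]
          exact fun h => hlt (Nat.eq_of_beq_eq_true h)
        show (Nat.blt (miss (Nat.card S)).length 2 && !(Nat.beq (Nat.card S) NT)) = true
        rw [h3, Bool.not_false, Bool.and_true]
        rw [Nat.blt_eq]
        exact h2)
    rw [cT'] at hg
    exact absurd hg (by simp)

/-- **Proper subgroups miss two primes.** -/
theorem two_TE6 (tab : OrderTable.{u})
    (hS : ∀ (X : Type u) [Group X] [Finite X] [IsSimpleGroup X], IsKnownSimple' X)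
    {T : Type u} [Group T] [Finite T] (hT : Nat.card T = NT)
    (h17 : ∀ x : T, orderOf x = 17 → Nat.card (Subgroup.centralizer ({x} : Set T)) ∣ 3 * 17)
    (h19 : ∀ x : T, orderOf x = 19 → Nat.card (Subgroup.centralizer ({x} : Set T)) ∣ 1 * 19)
    {M : Subgroup T} (hM : M ≠ ⊤) : MissTwo T M := by
  by_cases h1 : 17 ∣ Nat.card M
  · exact two_of_section tab hS hT hM (Or.inl ⟨rfl, rfl⟩) h1 h17
  · by_cases h2 : 19 ∣ Nat.card M
    · exact two_of_section tab hS hT hM (Or.inr ⟨rfl, rfl⟩) h2 h19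
    · exact ⟨17, 19, by norm_num, by norm_num, by norm_num, hT ▸ dvd_tab 17 (by simp), hT ▸ dvd_tab 19 (by simp),
        h1, h2⟩

end Cfsg.Agent.H81.Der
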