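import Mathlib

/-!
# A simple section from a Sylow subgroup of prime order with small centraliser

`exists_section` : `K` finite, `v` prime, `v ∣ |K|`, `v² ∤ |K|`, `|C(x)| ∣ c v` for all `x` of order `v`: there is a
simple section `S` of `K` with `v ∣ |S|`, `|S| ∣ |K|`, and every prime divisor `t` of `|K|` divides `|S|` or
`c v (v - 1)` or satisfies `t ^ k ≡ 1 (mod v)` for some `1 ≤ k`, `t ^ k ∣ |K|`.
-/

set_option autoImplicit false

namespace Cfsg.Agent.H81.Der

universe u

/-- `t ^ k ≡ 1 (mod v)` for some `1 ≤ k`, `t ^ k ∣ n` -/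
def Fpf (n v t : ℕ) : Prop := ∃ k, 1 ≤ k ∧ t ^ k ∣ n ∧ t ^ k ≡ 1 [MOD v]

variable {K : Type u} [Group K] [Finite K]

omit [Finite K] in
/-- primes dividing the order of the normaliser of `⟨x⟩` -/
theorem dvd_of_norm {v c t : ℕ} (hv : v.Prime) (ht : t.Prime) {x : K} (hx : orderOf x = v)
    (hc : Nat.card (Subgroup.centralizer ({x} : Set K)) ∣ c * v) {y : K} (hy : orderOf y = t)
    (hn : y * x * y⁻¹ ∈ Subgroup.zpowers x) : t ∣ c * v * (v - 1) := by
  have : Fact v.Prime := ⟨hv⟩
  by_cases hcom : Commute y x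
  · have h1 : y ∈ Subgroup.centralizer ({x} : Set K) := Subgroup.mem_centralizer_singleton_iff.2 hcom
    have h2 := orderOf_dvd_natCard (⟨y, h1⟩ : Subgroup.centralizer ({x} : Set K))
    rw [Subgroup.orderOf_mk, hy] at h2
    exact (h2.trans hc).mul_right _
  · obtain ⟨k, hk⟩ := Subgroup.mem_zpowers_iff.1 hn
    have key : ∀ n : ℕ, y ^ n * x * (y ^ n)⁻¹ = x ^ (k ^ n) := by
      intro n
      induction n with
      | zero => simp
      | succ n ih =>
        calc y ^ (n + 1) * x * (y ^ (n + 1))⁻¹ = y * (y ^ n * x * (y ^ n)⁻¹) * y⁻¹ := by rw [pow_succ']; group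
          _ = (y * x * y⁻¹) ^ (k ^ n) := by rw [ih, conj_zpow]
          _ = x ^ (k ^ (n + 1)) := by rw [← hk, ← zpow_mul, pow_succ']
    have h1 : x ^ (k ^ t) = x := by
      rw [← key t, ← hy, pow_orderOf_eq_one]
      group
    have h2 : ((k : ZMod v)) ^ t = 1 := by
      have h3 : x ^ (k ^ t - 1) = 1 := by rw [zpow_sub, h1, zpow_one, mul_inv_cancel]
      rw [← orderOf_dvd_iff_zpow_eq_one, hx] at h3
      have h4 := (ZMod.intCast_zmod_eq_zero_iff_dvd _ _).2 h3
      push_cast at h4
      exact sub_eq_zero.1 h4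
    have h3 : ((k : ZMod v)) ≠ 1 := by
      intro h3
      apply hcom
      have h4 : ((k - 1 : ℤ) : ZMod v) = 0 := by push_cast; rw [h3, sub_self]
      have h5 : (v : ℤ) ∣ k - 1 := (ZMod.intCast_zmod_eq_zero_iff_dvd _ _).1 h4
      rw [← hx, orderOf_dvd_iff_zpow_eq_one, zpow_sub, zpow_one, hk, mul_inv_eq_one] at h5
      show y * x = x * y
      calc y * x = y * x * y⁻¹ * y := by group
        _ = x * y := by rw [h5]
    have h0 : (k : ZMod v) ≠ 0 := by
      intro h4
      rw [h4, zero_pow ht.ne_zero] at h2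
      exact zero_ne_one h2
    have h6 : orderOf (Units.mk0 (k : ZMod v) h0) = t := by
      have : Fact t.Prime := ⟨ht⟩
      refine orderOf_eq_prime ?_ ?_
      · ext
        rw [Units.val_pow_eq_pow_val, Units.val_mk0, h2, Units.val_one]
      · intro h7
        exact h3 (congrArg Units.val h7)
    have h7 := orderOf_dvd_natCard (Units.mk0 (k : ZMod v) h0)
    rw [h6, Nat.card_eq_fintype_card, ZMod.card_units] at h7
    exact h7.mul_left _

/-- a normal subgroup and the normaliser of a Sylow subgroup -/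
theorem index_dvd_norm {t : ℕ} [Fact t.Prime] {L : Subgroup K} [hL : L.Normal] (P : Sylow t L) :
    L.index ∣ Nat.card (Subgroup.normalizer ((P : Subgroup L).map L.subtype : Set K)) := by
  have h1 := Sylow.normalizer_sup_eq_top (N := L) P
  have h2 := Subgroup.relIndex_sup_right (Subgroup.normalizer ((P : Subgroup L).map L.subtype : Set K)) L
  rw [h1, Subgroup.relIndex_top_right] at h2
  rw [h2]
  exact Subgroup.relIndex_dvd_card _ _

/-- Frattini: the index of a normal subgroup with order divisible by `v` -/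
theorem dvd_index {v c t : ℕ} (hv : v.Prime) (ht : t.Prime) (hv2 : ¬ v ^ 2 ∣ Nat.card K)
    (hc : ∀ x : K, orderOf x = v → Nat.card (Subgroup.centralizer ({x} : Set K)) ∣ c * v) {L : Subgroup K}
    [hL : L.Normal] (hvL : v ∣ Nat.card L) (hd : t ∣ L.index) : t ∣ c * v * (v - 1) := by
  have hvf : Fact v.Prime := ⟨hv⟩
  have htf : Fact t.Prime := ⟨ht⟩
  obtain ⟨x, hx⟩ := exists_prime_orderOf_dvd_card' v hvL
  have hxo : orderOf (x : K) = v := by rw [Subgroup.orderOf_coe, hx]
  have hsyl : Nat.card (Subgroup.zpowers x) = v ^ (Nat.card L).factorization v := by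
    have h1 : (Nat.card L).factorization v = 1 := by
      have h2 : ¬ v ^ 2 ∣ Nat.card L := fun h => hv2 (h.trans (Subgroup.card_subgroup_dvd_card L))
      have h3 : (Nat.card L).factorization v < 2 := by
        by_contra h4
        exact h2 ((hv.pow_dvd_iff_le_factorization Nat.card_pos.ne').2 (not_lt.1 h4))
      have h5 := (hv.dvd_iff_one_le_factorization Nat.card_pos.ne').1 hvL
      omega
    rw [h1, pow_one, Nat.card_zpowers, hx]
  let P : Sylow v L := Sylow.ofCard (Subgroup.zpowers x) hsyl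
  have h1 := hd.trans (index_dvd_norm P)
  obtain ⟨y, hy⟩ := exists_prime_orderOf_dvd_card' t h1
  have hyo : orderOf (y : K) = t := by rw [Subgroup.orderOf_coe, hy]
  have hP : (P : Subgroup L).map L.subtype = Subgroup.zpowers (x : K) := by
    show (Subgroup.zpowers x).map L.subtype = _
    rw [MonoidHom.map_zpowers]
    rfl
  refine dvd_of_norm hv ht hxo (hc _ hxo) hyo ?_
  have h2 := y.2
  rw [Subgroup.mem_normalizer_iff] at h2
  rw [← hP]
  exact (h2 x).1 (by rw [hP]; exact Subgroup.mem_zpowers _)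

/-- a normal subgroup of order prime to `v` -/
theorem fpf_of_dvd {v c t : ℕ} (hv : v.Prime) (ht : t.Prime) (hvK : v ∣ Nat.card K)
    (hc : ∀ x : K, orderOf x = v → Nat.card (Subgroup.centralizer ({x} : Set K)) ∣ c * v) {L : Subgroup K}
    [hL : L.Normal] (hvL : ¬ v ∣ Nat.card L) (htL : t ∣ Nat.card L) (htc : ¬ t ∣ c) : Fpf (Nat.card K) v t := by
  have hvf : Fact v.Prime := ⟨hv⟩
  have htf : Fact t.Prime := ⟨ht⟩
  obtain ⟨P⟩ := (inferInstance : Nonempty (Sylow t L))
  have hvi : v ∣ L.index := by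
    rw [← L.card_mul_index] at hvK
    exact (hv.dvd_mul.1 hvK).resolve_left hvL
  have h1 := hvi.trans (index_dvd_norm P)
  obtain ⟨Q, hQ⟩ : ∃ Q : Subgroup K, Q = (P : Subgroup L).map L.subtype := ⟨_, rfl⟩
  rw [← hQ] at h1
  obtain ⟨y, hy⟩ := exists_prime_orderOf_dvd_card' v h1
  have hyo : orderOf (y : K) = v := by rw [Subgroup.orderOf_coe, hy]
  have hyn : ∀ z : Subgroup.zpowers (y : K), ∀ g ∈ Q, (z : K) * g * (z : K)⁻¹ ∈ Q := by
    intro z g hg
    have h2 : (z : K) ∈ Subgroup.normalizer (Q : Set K) := (Subgroup.zpowers_le.2 y.2) z.2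
    rw [Subgroup.mem_normalizer_iff] at h2
    exact (h2 g).1 hg
  let _ : MulAction (Subgroup.zpowers (y : K)) Q :=
    { smul := fun z g => ⟨(z : K) * g * (z : K)⁻¹, hyn z g g.2⟩
      one_smul := fun g => Subtype.ext (by
        show ((1 : Subgroup.zpowers (y : K)) : K) * g * ((1 : Subgroup.zpowers (y : K)) : K)⁻¹ = g
        simp)
      mul_smul := fun a b g => Subtype.ext (by
        show ((a * b : Subgroup.zpowers (y : K)) : K) * g * ((a * b : Subgroup.zpowers (y : K)) : K)⁻¹ =
          (a : K) * ((b : K) * g * (b : K)⁻¹) * (a : K)⁻¹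
        rw [Subgroup.coe_mul]
        group) }
  have hyp : IsPGroup v (Subgroup.zpowers (y : K)) :=
    IsPGroup.of_card (n := 1) (by rw [Nat.card_zpowers, hyo, pow_one])
  have h2 := hyp.card_modEq_card_fixedPoints Q
  have hQc : Nat.card Q = Nat.card (P : Subgroup L) := by
    rw [hQ]
    exact (Nat.card_congr ((P : Subgroup L).equivMapOfInjective _ L.subtype_injective).toEquiv).symm
  obtain ⟨k, hk⟩ := IsPGroup.iff_card.1 P.isPGroup'
  have hQc' : Nat.card Q = t ^ k := by rw [hQc]; exact hk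
  have hfix : Nat.card (MulAction.fixedPoints (Subgroup.zpowers (y : K)) Q) = 1 := by
    rw [Nat.card_eq_one_iff_unique]
    refine ⟨⟨?_⟩, ⟨⟨1, fun z => Subtype.ext ?_⟩⟩⟩
    · have key : ∀ a : MulAction.fixedPoints (Subgroup.zpowers (y : K)) Q, ((a : Q) : K) = 1 := by
        rintro ⟨a, ha⟩
        by_contra hne
        have h3 := ha ⟨(y : K), Subgroup.mem_zpowers _⟩
        have h4 : (y : K) * a * (y : K)⁻¹ = a := congrArg Subtype.val h3
        have h5 : Commute (a : K) y := by
          have h6 : (y : K) * a = a * y := by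
            calc (y : K) * a = (y : K) * a * (y : K)⁻¹ * y := by group
              _ = a * y := by rw [h4]
          exact h6.symm
        have h6 : (a : K) ∈ Subgroup.centralizer ({(y : K)} : Set K) := Subgroup.mem_centralizer_singleton_iff.2 h5
        have h7 := orderOf_dvd_natCard (⟨(a : K), h6⟩ : Subgroup.centralizer ({(y : K)} : Set K))
        rw [Subgroup.orderOf_mk] at h7
        have h8 := h7.trans (hc _ hyo)
        have h9 : orderOf (a : K) ∣ t ^ k := by
          rw [Subgroup.orderOf_coe, ← hQc']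
          exact orderOf_dvd_natCard a
        obtain ⟨j, -, hj⟩ := (Nat.dvd_prime_pow ht).1 h9
        have hj0 : j ≠ 0 := by
          rintro rfl
          rw [pow_zero, orderOf_eq_one_iff] at hj
          exact hne hj
        have h10 : t ∣ c * v := (dvd_pow_self t hj0).trans (hj ▸ h8)
        rcases ht.dvd_mul.1 h10 with h11 | h11
        · exact htc h11
        · rw [(Nat.prime_dvd_prime_iff_eq ht hv).1 h11] at htL
          exact hvL htL
      intro a b
      exact Subtype.ext (Subtype.ext ((key a).trans (key b).symm))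
    · show (z : K) * ((1 : Q) : K) * (z : K)⁻¹ = ((1 : Q) : K)
      simp
  rw [hfix, hQc'] at h2
  refine ⟨k, ?_, ?_, h2⟩
  · by_contra hk0
    have hk0' : k = 0 := by omega
    rw [hk0', pow_zero] at hk
    have h3 := P.dvd_card_of_dvd_card htL
    rw [show Nat.card (P : Subgroup L) = 1 from hk] at h3
    exact ht.one_lt.ne' (Nat.dvd_one.1 h3)
  · rw [← hQc']
    exact Subgroup.card_subgroup_dvd_card Q

theorem exists_section_aux {v c : ℕ} (hv : v.Prime) : ∀ (n : ℕ) (K : Type u) [Group K] [Finite K], Nat.card K = n →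
    v ∣ Nat.card K → ¬ v ^ 2 ∣ Nat.card K →
    (∀ x : K, orderOf x = v → Nat.card (Subgroup.centralizer ({x} : Set K)) ∣ c * v) →
    ∃ (S : Type u) (_ : Group S) (_ : Finite S), IsSimpleGroup S ∧ v ∣ Nat.card S ∧ Nat.card S ∣ Nat.card K ∧
      ∀ t : ℕ, t.Prime → t ∣ Nat.card K → t ∣ Nat.card S ∨ t ∣ c * v * (v - 1) ∨ Fpf (Nat.card K) v t := by
  intro n
  induction n using Nat.strong_induction_on with
  | _ n ih =>
  intro K _ _ hn hvK hv2 hc
  classical
  have hnt : Nontrivial K := by
    rw [← Finite.one_lt_card_iff_nontrivial]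
    exact lt_of_lt_of_le hv.one_lt (Nat.le_of_dvd Nat.card_pos hvK)
  obtain ⟨L, hLn, hLt, hmax⟩ : ∃ L : Subgroup K, L.Normal ∧ L ≠ ⊤ ∧ ∀ L' : Subgroup K, L'.Normal → L ≤ L' → L' ≠ ⊤ →
      L' = L := by
    obtain ⟨L, ⟨hL1, hL2⟩, hL3⟩ := (wellFounded_gt (α := Subgroup K)).has_min
      {L : Subgroup K | L.Normal ∧ L ≠ ⊤} ⟨⊥, inferInstance, bot_ne_top⟩
    refine ⟨L, hL1, hL2, fun L' h1 h2 h3 => ?_⟩
    by_contra h4
    exact hL3 L' ⟨h1, h3⟩ (lt_of_le_of_ne h2 (Ne.symm h4))
  have hcL : ∀ x : L, orderOf x = v → Nat.card (Subgroup.centralizer ({x} : Set L)) ∣ c * v := by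
    intro x hx
    have hxo : orderOf (x : K) = v := by rw [Subgroup.orderOf_coe, hx]
    let f : Subgroup.centralizer ({x} : Set L) →* Subgroup.centralizer ({(x : K)} : Set K) :=
      (L.subtype.comp (Subgroup.subtype _)).codRestrict _ (fun z => by
        rw [Subgroup.mem_centralizer_singleton_iff]
        exact congrArg Subtype.val (Subgroup.mem_centralizer_singleton_iff.1 z.2))
    have hf : Function.Injective f := fun a b h =>
      Subtype.ext (Subtype.ext (congrArg (fun z : Subgroup.centralizer ({(x : K)} : Set K) => (z : K)) h))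
    exact (Subgroup.card_dvd_of_injective f hf).trans (hc _ hxo)
  by_cases hvL : v ∣ Nat.card L
  · have hlt : Nat.card L < n := by
      rw [← hn]
      refine lt_of_le_of_ne (Subgroup.card_le_card_group L) fun h => hLt ?_
      exact Subgroup.eq_top_of_card_eq L h
    obtain ⟨S, i1, i2, h1, h2, h3, h4⟩ := ih _ hlt L rfl hvL
      (fun h => hv2 (h.trans (Subgroup.card_subgroup_dvd_card L))) hcL
    refine ⟨S, i1, i2, h1, h2, h3.trans (Subgroup.card_subgroup_dvd_card L), fun t ht htK => ?_⟩
    rw [← L.card_mul_index] at htK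
    rcases ht.dvd_mul.1 htK with h5 | h5
    · rcases h4 t ht h5 with h6 | h6 | ⟨k, hk, hk1, hk2⟩
      · exact Or.inl h6
      · exact Or.inr (Or.inl h6)
      · exact Or.inr (Or.inr ⟨k, hk, hk1.trans (Subgroup.card_subgroup_dvd_card L), hk2⟩)
    · exact Or.inr (Or.inl (dvd_index hv ht hv2 hc hvL h5))
  · have hq : Nontrivial (K ⧸ L) := by
      rw [QuotientGroup.nontrivial_iff]
      exact hLt
    have hS : IsSimpleGroup (K ⧸ L) := by
      refine ⟨fun H hH => ?_⟩
      have h1 : (H.comap (QuotientGroup.mk' L)).Normal := inferInstance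
      by_cases h2 : H.comap (QuotientGroup.mk' L) = ⊤
      · right
        rw [← Subgroup.map_comap_eq_self_of_surjective (QuotientGroup.mk'_surjective L) H, h2,
          Subgroup.map_top_of_surjective _ (QuotientGroup.mk'_surjective L)]
      · left
        have h3 := hmax _ h1 (by
          intro z hz
          rw [Subgroup.mem_comap, show QuotientGroup.mk' L z = 1 from (QuotientGroup.eq_one_iff (N := L) z).2 hz]
          exact one_mem H) h2
        rw [← Subgroup.map_comap_eq_self_of_surjective (QuotientGroup.mk'_surjective L) H, h3]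
        rw [Subgroup.map_eq_bot_iff, QuotientGroup.ker_mk']
    have hi : Nat.card (K ⧸ L) = L.index := (Subgroup.index_eq_card L).symm
    refine ⟨K ⧸ L, inferInstance, inferInstance, hS, ?_, ?_, fun t ht htK => ?_⟩
    · rw [hi]
      rw [← L.card_mul_index] at hvK
      exact (hv.dvd_mul.1 hvK).resolve_left hvL
    · rw [hi]
      exact Subgroup.index_dvd_card L
    · by_cases htc : t ∣ c
      · exact Or.inr (Or.inl ((htc.mul_right v).mul_right _))
      have htK' := htK
      rw [← L.card_mul_index] at htK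
      rcases ht.dvd_mul.1 htK with h5 | h5
      · exact Or.inr (Or.inr (fpf_of_dvd hv ht hvK hc hvL h5 htc))
      · exact Or.inl (hi ▸ h5)

/-- **The simple section.** -/
theorem exists_section {v c : ℕ} (hv : v.Prime) (hvK : v ∣ Nat.card K) (hv2 : ¬ v ^ 2 ∣ Nat.card K)
    (hc : ∀ x : K, orderOf x = v → Nat.card (Subgroup.centralizer ({x} : Set K)) ∣ c * v) :
    ∃ (S : Type u) (_ : Group S) (_ : Finite S), IsSimpleGroup S ∧ v ∣ Nat.card S ∧ Nat.card S ∣ Nat.card K ∧
      ∀ t : ℕ, t.Prime → t ∣ Nat.card K → t ∣ Nat.card S ∨ t ∣ c * v * (v - 1) ∨ Fpf (Nat.card K) v t :=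
  exists_section_aux hv _ K rfl hvK hv2 hc

end Cfsg.Agent.H81.Der
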