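import Cfsg.Agent.H190.Exc.CycE6
import Cfsg.Agent.H439.Der.Tools

/-!
# The cyclic tori and `SC` (S3500): `E₆(q)`, `²E₆(q)`

* `not_SC_of_cyclic` : a cyclic subgroup of order different from `v`, divisible by `v`;
* `not_SC_of_exact` : `CycExact G v`, `|G| = v a`, `a ≡ 9 (mod v)`, `9 |Out G| < v - 1`;
* `not_SC_e6_8`, `not_SC_e6_12`, `not_SC_e6_9`, `not_SC_te6_8`, `not_SC_te6_12`, `not_SC_te6_18`.
-/

set_option autoImplicit false
set_option linter.unusedSectionVars false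

namespace Cfsg.Agent.H81.Der

open Cfsg Cfsg.Lie
open Cfsg.Agent.H129 Cfsg.Agent.H129.CycT Cfsg.Agent.H129.RealT Cfsg.Agent.H129.TorusTw Cfsg.Agent.H129.WData
open Cfsg.Agent.H436 (Prim)
open Cfsg.Agent.H439.Der Cfsg.Agent.H190.Exc

universe u

section Abs

variable {G : Type u} [Group G] [Finite G]

/-- a cyclic subgroup of order different from `v`, divisible by `v` -/
theorem not_SC_of_cyclic {T : Subgroup G} (h1 : IsCyclic ↥T) {v : ℕ} (hv : v.Prime) (hd : v ∣ Nat.card T)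
    (hne : Nat.card T ≠ v) : ¬ SC G v := by
  obtain ⟨g, hg⟩ := h1.exists_generator
  have h2 : orderOf (g : G) = Nat.card T := by
    rw [Subgroup.orderOf_coe]
    exact orderOf_eq_card_of_forall_mem_zpowers hg
  exact not_SC_of_orderOf hv (y := (g : G)) (h2 ▸ hd) (by rw [h2]; exact hne)

/-- from divisibilities -/
theorem not_SC_of_cyclic' {T : Subgroup G} (h1 : IsCyclic ↥T) {v N d : ℕ} (hv : v.Prime) (hvN : v ∣ N)
    (hvd : ¬ v ∣ d) (hN : N ∣ d * Nat.card T) (hne : ¬ N ∣ d * v) : ¬ SC G v := by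
  refine not_SC_of_cyclic h1 hv ?_ fun h => hne (h ▸ hN)
  exact (hv.dvd_mul.1 (hvN.trans hN)).resolve_left hvd

theorem card_conjPow_le {x : G} {v : ℕ} (hx : orderOf x = v) : Nat.card (conjPow x) ≤ v := by
  rw [← hx, ← Nat.card_zpowers]
  exact Nat.card_le_card_of_injective (fun y : conjPow x => (⟨y.1, y.2.1⟩ : Subgroup.zpowers x))
    fun a b h => Subtype.ext (congrArg (fun z : Subgroup.zpowers x => (z : G)) h)

/-- `CycExact G v`, `|G| = v a`, `a ≡ 9 (mod v)` -/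
theorem card_conjPow_nine {v a : ℕ} (hv : v.Prime) (hE : CycExact G v) (hG : Nat.card G = v * a)
    (ha : a ≡ 9 [MOD v]) (h9 : 9 < v) {x : G} (hx : orderOf x = v) : Nat.card (conjPow x) = 9 := by
  have hvf : Fact v.Prime := ⟨hv⟩
  obtain ⟨T, hT1, hT2, hT3⟩ := hE
  have hva : ¬ v ∣ a := by
    intro h
    have h1 : (0 : ℕ) ≡ 9 [MOD v] := ((Nat.modEq_zero_iff_dvd.2 h).symm).trans ha
    have h2 := (Nat.modEq_iff_dvd' (by norm_num)).1 h1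
    have := Nat.le_of_dvd (by norm_num) h2
    omega
  have hfac : (Nat.card G).factorization v = 1 := by
    have h0 : Nat.card G ≠ 0 := Nat.card_pos.ne'
    have h1 : v ^ 1 ∣ Nat.card G := by rw [pow_one, hG]; exact dvd_mul_right _ _
    have h2 : ¬ v ^ 2 ∣ Nat.card G := by
      rw [hG, sq]
      exact fun h => hva (Nat.dvd_of_mul_dvd_mul_left hv.pos h)
    have h3 := (hv.pow_dvd_iff_le_factorization h0).1 h1
    have h4 : ¬ 2 ≤ (Nat.card G).factorization v := fun h => h2 ((hv.pow_dvd_iff_le_factorization h0).2 h)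
    omega
  -- the centralizer of `x` has order `v`
  have hcen : Nat.card (Subgroup.centralizer ({x} : Set G)) = v := by
    have h1 := (cccd_of_exact hv dvd_rfl ⟨T, hT1, hT2, hT3⟩).2 x hx
    have h2 : v ∣ Nat.card (Subgroup.centralizer ({x} : Set G)) := by
      have h3 : x ∈ Subgroup.centralizer ({x} : Set G) := Subgroup.mem_centralizer_singleton_iff.2 rfl
      have h4 := orderOf_dvd_natCard (⟨x, h3⟩ : Subgroup.centralizer ({x} : Set G))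
      rwa [Subgroup.orderOf_mk, hx] at h4
    exact Nat.dvd_antisymm h1 h2
  let P : Sylow v G := Sylow.ofCard (Subgroup.zpowers x) (by rw [hfac, pow_one, Nat.card_zpowers, hx])
  have h1 := card_sylow_modEq_one v G
  have h2 : Nat.card (Sylow v G) = (Subgroup.normalizer ((Subgroup.zpowers x : Subgroup G) : Set G)).index := by
    have := P.card_eq_index_normalizer
    exact this
  have h3 := card_conjPow_mul x
  rw [hcen] at h3
  have h4 := (Subgroup.normalizer ((Subgroup.zpowers x : Subgroup G) : Set G)).card_mul_index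
  rw [← h3, ← h2, hG] at h4
  have h5 : Nat.card (conjPow x) * Nat.card (Sylow v G) = a := by
    apply Nat.eq_of_mul_eq_mul_left hv.pos
    rw [← h4]
    ring
  have h6 : Nat.card (conjPow x) ≡ 9 [MOD v] := by
    have h7 : Nat.card (conjPow x) * Nat.card (Sylow v G) ≡ Nat.card (conjPow x) * 1 [MOD v] := h1.mul_left _
    rw [h5, mul_one] at h7
    exact h7.symm.trans ha
  have h7 := card_conjPow_le hx
  rcases Nat.lt_or_ge (Nat.card (conjPow x)) v with h8 | h8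
  · have h9' := h6
    unfold Nat.ModEq at h9'
    rwa [Nat.mod_eq_of_lt h8, Nat.mod_eq_of_lt h9] at h9'
  · exfalso
    have h10 : Nat.card (conjPow x) = v := le_antisymm h7 h8
    rw [h10] at h6
    unfold Nat.ModEq at h6
    rw [Nat.mod_self, Nat.mod_eq_of_lt h9] at h6
    omega

theorem not_SC_of_exact {m v a : ℕ} (hv : v.Prime) (hvm : v ∣ m) (hE : CycExact G m) (hG : Nat.card G = m * a)
    (ha : a ≡ 9 [MOD m]) (h9 : 9 * Nat.card (Cfsg.Out G) < m - 1) : ¬ SC G v := by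
  by_cases hmv : m = v
  · subst hmv
    intro hs
    have hout : 0 < Nat.card (Cfsg.Out G) := by
      have : Finite (MulAut G) := Finite.of_injective (fun f : MulAut G => (f : G → G)) DFunLike.coe_injective
      exact Nat.card_pos
    obtain ⟨x, hx⟩ : ∃ x : G, orderOf x = m := by
      have : Fact m.Prime := ⟨hv⟩
      exact exists_prime_orderOf_dvd_card' m (by rw [hG]; exact dvd_mul_right _ _)
    have h1 := hs.sub_one_le hv hx
    rw [card_conjPow_nine hv hE hG ha (by omega) hx] at h1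
    omega
  · obtain ⟨T, hT1, hT2, -⟩ := hE
    exact not_SC_of_cyclic hT1 hv (hT2 ▸ hvm) (by rw [hT2]; exact hmv)

end Abs

theorem not_dvd_of_lt {N d v : ℕ} (h0 : 0 < d * v) (h : d * v < N) : ¬ N ∣ d * v := fun h1 => by
  have := Nat.le_of_dvd h0 h1
  omega

section Rows

variable {F : Type} [Field F] [Fintype F] {q : ℕ}

theorem exists_cube (h : (Fintype.card F - 1).Coprime 3) (a : F) : ∃ b : F, b ^ 3 = a := by
  by_cases ha : a = 0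
  · exact ⟨0, by rw [ha, zero_pow (by norm_num)]⟩
  · have h1 : (Nat.card Fˣ).Coprime 3 := by
      rw [Nat.card_units, Nat.card_eq_fintype_card]
      exact h
    obtain ⟨b, hb⟩ := (powCoprime h1).surjective (Units.mk0 a ha)
    refine ⟨b, ?_⟩
    have h2 := congrArg Units.val hb
    rw [powCoprime_apply, Units.val_pow_eq_pow_val] at h2
    exact h2

/-- **`E₆(q)`, class 8.** -/
theorem not_SC_e6_8 (hq : Fintype.card F = q) {v : ℕ} (h : Prim q 8 v) : ¬ SC ↥(chevE6.group F) v := by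
  have := TwT.finite_W6
  have hq2 : 2 ≤ q := by rw [← hq]; exact Fintype.one_lt_card
  have hle : 1 ≤ q ^ 2 := Nat.one_le_pow _ _ (by omega)
  have hN : ((q ^ 4 + 1 : ℕ) : ℤ) = 1 + (q : ℤ) ^ 4 := by push_cast; ring
  have hM : (((q ^ 4 + 1) * (q ^ 2 - 1) : ℕ) : ℤ) = -1 + (q : ℤ) ^ 2 - (q : ℤ) ^ 4 + (q : ℤ) ^ 6 := by
    push_cast [Nat.cast_sub hle]; ring
  have hvN := phi8 h (by omega) hN
  have hvle : v ≤ q ^ 4 + 1 := Nat.le_of_dvd (by positivity) hvN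
  have hg := prim_gt h (by omega)
  obtain ⟨d, hd, hdl⟩ : ∃ d, (d = 3 ∨ d = 1 ∧ ∀ a : F, ∃ b : F, b ^ 3 = a) ∧ (d = 1 ∨ 3 ≤ q) := by
    rcases Nat.lt_or_ge q 3 with h2 | h2
    · have h3 : q = 2 := by omega
      refine ⟨1, Or.inr ⟨rfl, exists_cube ?_⟩, Or.inl rfl⟩
      rw [hq, h3]
      decide
    · exact ⟨3, Or.inl rfl, Or.inr h2⟩
  have hd0 : 0 < d ∧ d ≤ 3 := by rcases hd with rfl | ⟨rfl, -⟩ <;> omega
  obtain ⟨T, h1, h2, h3, h4, -⟩ := UntwT.untw_T typeE6 CoxeterMatrix.E₆.toCoxeterSystem (by norm_num) hq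
    TorusChar.invC_E6 (by norm_num) DataE6e.hA DataE6e.chainOK DataE6e.cycOK DataE6e.rootOK
    (N := (q ^ 4 + 1) * (q ^ 2 - 1)) (by rw [DataE6e.fN_eq, hM])
    (coprime_of_neg (a := (q : ℤ) - (q : ℤ) ^ 3 + (q : ℤ) ^ 5) (by rw [hM]; ring)) (d := d) hd
  refine not_SC_of_cyclic' h1 h.prime (hvN.mul_right _) (fun h5 => ?_) h3
    (not_dvd_of_lt (Nat.mul_pos hd0.1 h.prime.pos) ?_)
  · have := Nat.le_of_dvd hd0.1 h5
    omega
  · have h6 : 4 ≤ q ^ 2 := by nlinarith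
    rcases hdl with rfl | h5
    · calc 1 * v ≤ q ^ 4 + 1 := by omega
        _ < (q ^ 4 + 1) * 2 := by omega
        _ ≤ (q ^ 4 + 1) * (q ^ 2 - 1) := Nat.mul_le_mul_left _ (by omega)
    · have h7 : 9 ≤ q ^ 2 := by nlinarith
      calc d * v ≤ 3 * (q ^ 4 + 1) := Nat.mul_le_mul hd0.2 hvle
        _ < (q ^ 4 + 1) * 8 := by omega
        _ ≤ (q ^ 4 + 1) * (q ^ 2 - 1) := Nat.mul_le_mul_left _ (by omega)

/-- **`E₆(q)`, class 12.** -/
theorem not_SC_e6_12 (hq : Fintype.card F = q) {v : ℕ} (h : Prim q 12 v) : ¬ SC ↥(chevE6.group F) v := by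
  have := TwT.finite_W6
  have hq2 : 2 ≤ q := by rw [← hq]; exact Fintype.one_lt_card
  have hle : q ^ 2 ≤ q ^ 4 := Nat.pow_le_pow_right (by omega) (by norm_num)
  have hN : ((q ^ 4 - q ^ 2 + 1 : ℕ) : ℤ) = 1 - (q : ℤ) ^ 2 + (q : ℤ) ^ 4 := by push_cast [Nat.cast_sub hle]; ring
  have hM : (((q ^ 4 - q ^ 2 + 1) * (q ^ 2 + q + 1) : ℕ) : ℤ) = 1 + (q : ℤ) - (q : ℤ) ^ 3 + (q : ℤ) ^ 5 +
      (q : ℤ) ^ 6 := by
    push_cast [Nat.cast_sub hle]; ring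
  have hvN := phi12 h (by omega) hN
  have hvle : v ≤ q ^ 4 - q ^ 2 + 1 := Nat.le_of_dvd (by omega) hvN
  have hg := prim_gt h (by omega)
  obtain ⟨T, h1, h2, h3, h4, -⟩ := UntwT.untw_T typeE6 CoxeterMatrix.E₆.toCoxeterSystem (by norm_num) hq
    TorusChar.invC_E6 (by norm_num) DataE6.hA DataE6.chainOK DataE6.cycOK DataE6.rootOK
    (N := (q ^ 4 - q ^ 2 + 1) * (q ^ 2 + q + 1)) (by rw [DataE6.fN_eq, hM])
    (UntwData.coprime_of_eq (a := 1 - (q : ℤ) ^ 2 + (q : ℤ) ^ 4 + (q : ℤ) ^ 5) (by rw [hM]; ring)) (d := 3) (Or.inl rfl)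
  refine not_SC_of_cyclic' h1 h.prime (hvN.mul_right _) (fun h5 => ?_) h3
    (not_dvd_of_lt (Nat.mul_pos (by norm_num) h.prime.pos) ?_)
  · have := Nat.le_of_dvd (by norm_num) h5
    omega
  · have h6 : 7 ≤ q ^ 2 + q + 1 := by nlinarith
    calc 3 * v ≤ 3 * (q ^ 4 - q ^ 2 + 1) := Nat.mul_le_mul_left _ hvle
      _ < (q ^ 4 - q ^ 2 + 1) * 7 := by omega
      _ ≤ (q ^ 4 - q ^ 2 + 1) * (q ^ 2 + q + 1) := Nat.mul_le_mul_left _ h6

/-- **`²E₆(q)`, class 12**, `q ≥ 3`. -/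
theorem not_SC_te6_12 (hq : IsPrimePow q) (hK : Fintype.card F = q ^ 2) (hq3 : 3 ≤ q) {v : ℕ} (h : Prim q 12 v) :
    ¬ SC ↥(twistedE6 F q) v := by
  have hle : q ^ 2 ≤ q ^ 4 := Nat.pow_le_pow_right (by omega) (by norm_num)
  have hle' : q ≤ q ^ 2 := by nlinarith
  have hN : ((q ^ 4 - q ^ 2 + 1 : ℕ) : ℤ) = 1 - (q : ℤ) ^ 2 + (q : ℤ) ^ 4 := by push_cast [Nat.cast_sub hle]; ring
  have hM : (((q ^ 4 - q ^ 2 + 1) * (q ^ 2 - q + 1) : ℕ) : ℤ) = 1 - (q : ℤ) + (q : ℤ) ^ 3 - (q : ℤ) ^ 5 +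
      (q : ℤ) ^ 6 := by
    push_cast [Nat.cast_sub hle, Nat.cast_sub hle']; ring
  have hvN := phi12 h (by omega) hN
  have hvle : v ≤ q ^ 4 - q ^ 2 + 1 := Nat.le_of_dvd (by omega) hvN
  have hg := prim_gt h (by omega)
  obtain ⟨T, h1, h2, h3, h4, -⟩ := TwT.flip_T hq hK DataTE6c.hA DataTE6c.chainOK DataTE6c.hd_pi DataTE6c.cycOK
    DataTE6c.rootOK DataTE6c.chain2OK DataTE6c.hd2_eq (N := (q ^ 4 - q ^ 2 + 1) * (q ^ 2 - q + 1))
    (by rw [DataTE6c.fN_eq, hM])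
    (UntwData.coprime_of_eq (a := -1 + (q : ℤ) ^ 2 - (q : ℤ) ^ 4 + (q : ℤ) ^ 5) (by rw [hM]; ring))
  have hd3 : Nat.gcd 3 (q + 1) ≤ 3 := Nat.le_of_dvd (by norm_num) (Nat.gcd_dvd_left _ _)
  have hd0 : 0 < Nat.gcd 3 (q + 1) := Nat.gcd_pos_of_pos_left _ (by norm_num)
  refine not_SC_of_cyclic' h1 h.prime (hvN.mul_right _) (fun h5 => ?_) h3
    (not_dvd_of_lt (Nat.mul_pos hd0 h.prime.pos) ?_)
  · have := Nat.le_of_dvd hd0 h5
    omega
  · have h6 : 7 ≤ q ^ 2 - q + 1 := by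
      have : q * 3 ≤ q ^ 2 := by nlinarith
      omega
    calc Nat.gcd 3 (q + 1) * v ≤ 3 * (q ^ 4 - q ^ 2 + 1) := Nat.mul_le_mul hd3 hvle
      _ < (q ^ 4 - q ^ 2 + 1) * 7 := by omega
      _ ≤ (q ^ 4 - q ^ 2 + 1) * (q ^ 2 - q + 1) := Nat.mul_le_mul_left _ h6

/-- **`²E₆(q)`, class 8**, `q ≥ 3`. -/
theorem not_SC_te6_8 (hq : IsPrimePow q) (hK : Fintype.card F = q ^ 2) (hq3 : 3 ≤ q) {v : ℕ} (h : Prim q 8 v) :
    ¬ SC ↥(twistedE6 F q) v := by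
  have hle : 1 ≤ q ^ 2 := Nat.one_le_pow _ _ (by omega)
  have hN : ((q ^ 4 + 1 : ℕ) : ℤ) = 1 + (q : ℤ) ^ 4 := by push_cast; ring
  have hM : (((q ^ 4 + 1) * (q ^ 2 - 1) : ℕ) : ℤ) = -1 + (q : ℤ) ^ 2 - (q : ℤ) ^ 4 + (q : ℤ) ^ 6 := by
    push_cast [Nat.cast_sub hle]; ring
  have hvN := phi8 h (by omega) hN
  have hvle : v ≤ q ^ 4 + 1 := Nat.le_of_dvd (by positivity) hvN
  have hg := prim_gt h (by omega)
  obtain ⟨T, h1, h2, h3, h4, -⟩ := TwT.flip_T hq hK DataTE6e.hA DataTE6e.chainOK DataTE6e.hd_pi DataTE6e.cycOK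
    DataTE6e.rootOK DataTE6e.chain2OK DataTE6e.hd2_eq (N := (q ^ 4 + 1) * (q ^ 2 - 1)) (by rw [DataTE6e.fN_eq, hM])
    (coprime_of_neg (a := (q : ℤ) - (q : ℤ) ^ 3 + (q : ℤ) ^ 5) (by rw [hM]; ring))
  have hd3 : Nat.gcd 3 (q + 1) ≤ 3 := Nat.le_of_dvd (by norm_num) (Nat.gcd_dvd_left _ _)
  have hd0 : 0 < Nat.gcd 3 (q + 1) := Nat.gcd_pos_of_pos_left _ (by norm_num)
  refine not_SC_of_cyclic' h1 h.prime (hvN.mul_right _) (fun h5 => ?_) h3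
    (not_dvd_of_lt (Nat.mul_pos hd0 h.prime.pos) ?_)
  · have := Nat.le_of_dvd hd0 h5
    omega
  · have h7 : 9 ≤ q ^ 2 := by nlinarith
    calc Nat.gcd 3 (q + 1) * v ≤ 3 * (q ^ 4 + 1) := Nat.mul_le_mul hd3 hvle
      _ < (q ^ 4 + 1) * 8 := by omega
      _ ≤ (q ^ 4 + 1) * (q ^ 2 - 1) := Nat.mul_le_mul_left _ (by omega)

end Rows

/-! ### the classes 9 and 18 -/

section Nine

/-- the congruence, abstractly -/
theorem nine_id {R : Type*} [CommRing R] {x : R} (h : x ^ 6 + x ^ 3 + 1 = 0) :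
    x ^ 36 * ((x ^ 2 - 1) * (x ^ 5 - 1) * (x ^ 6 - 1) * (x ^ 8 - 1) * (x ^ 3 - 1) * (x ^ 12 - 1)) = 9 := by
  have h9 : x ^ 9 = 1 := by linear_combination (x ^ 3 - 1) * h
  have h36 : x ^ 36 = 1 := by
    calc x ^ 36 = (x ^ 9) ^ 4 := by ring
      _ = 1 := by rw [h9]; norm_num
  have h12 : x ^ 12 = x ^ 3 := by
    calc x ^ 12 = x ^ 9 * x ^ 3 := by ring
      _ = x ^ 3 := by rw [h9, one_mul]
  have h1 : (x ^ 2 - 1) * (x ^ 5 - 1) * (x ^ 8 - 1) = x ^ 6 - 1 := by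
    have e : (x ^ 2 - 1) * (x ^ 5 - 1) * (x ^ 8 - 1) = x ^ 9 * x ^ 6 - x ^ 9 * x ^ 4 - x ^ 9 * x - x ^ 7 + x ^ 8 +
        x ^ 5 + x ^ 2 - 1 := by ring
    rw [e, h9]
    linear_combination (-x + x ^ 2) * h
  have h2 : (x ^ 6 - 1) * (x ^ 3 - 1) = 3 := by linear_combination (x ^ 3 - 2) * h
  rw [h36, h12, one_mul]
  calc (x ^ 2 - 1) * (x ^ 5 - 1) * (x ^ 6 - 1) * (x ^ 8 - 1) * (x ^ 3 - 1) * (x ^ 3 - 1) =
      ((x ^ 2 - 1) * (x ^ 5 - 1) * (x ^ 8 - 1)) * (x ^ 3 - 1) * ((x ^ 6 - 1) * (x ^ 3 - 1)) := by ring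
    _ = ((x ^ 6 - 1) * (x ^ 3 - 1)) * ((x ^ 6 - 1) * (x ^ 3 - 1)) := by rw [h1]
    _ = 9 := by rw [h2]; norm_num

variable {F : Type} [Field F] [Fintype F] {q : ℕ}

/-- **`E₆(q)`, class 9.** -/
theorem not_SC_e6_9 (hq : Fintype.card F = q) {v : ℕ} (h : Prim q 9 v)
    (hG : Nat.gcd 3 (q - 1) * Nat.card ↥(chevE6.group F) =
      q ^ 36 * (q ^ 2 - 1) * (q ^ 5 - 1) * (q ^ 6 - 1) * (q ^ 8 - 1) * (q ^ 9 - 1) * (q ^ 12 - 1))
    (hO : 9 * (Nat.gcd 3 (q - 1) * Nat.card (Cfsg.Out ↥(chevE6.group F))) + Nat.gcd 3 (q - 1) < q ^ 6 + q ^ 3 + 1) :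
    ¬ SC ↥(chevE6.group F) v := by
  have hq2 : 2 ≤ q := by rw [← hq]; exact Fintype.one_lt_card
  have hN : ((q ^ 6 + q ^ 3 + 1 : ℕ) : ℤ) = 1 + (q : ℤ) ^ 3 + (q : ℤ) ^ 6 := by push_cast; ring
  have hE := exact_E6_9 hq hN
  have hvN := phi9 h (by omega) hN
  have h2 : v ≠ 3 := by have := prim_gt h (by omega); omega
  have h3 : (q ^ 6 + q ^ 3 + 1) / Nat.gcd 3 (q - 1) * Nat.gcd 3 (q - 1) = q ^ 6 + q ^ 3 + 1 := by
    refine Nat.div_mul_cancel ?_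
    rcases (Nat.dvd_prime Nat.prime_three).1 (Nat.gcd_dvd_left 3 (q - 1)) with h4 | h4
    · rw [h4]; exact one_dvd _
    · rw [h4, ← ZMod.natCast_eq_zero_iff]
      have h5 : 3 ∣ q - 1 := h4 ▸ Nat.gcd_dvd_right 3 (q - 1)
      have h7 := (ZMod.natCast_eq_zero_iff (q - 1) 3).2 h5
      rw [Nat.cast_sub (by omega), Nat.cast_one, sub_eq_zero] at h7
      push_cast
      rw [h7]
      decide
  have hd0 : 0 < Nat.gcd 3 (q - 1) := Nat.gcd_pos_of_pos_left _ (by norm_num)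
  obtain ⟨n, hn⟩ : ∃ n, n = (q ^ 6 + q ^ 3 + 1) / Nat.gcd 3 (q - 1) := ⟨_, rfl⟩
  rw [← hn] at hE h3
  have hvn : v ∣ n := by
    rw [← h3] at hvN
    exact ((Nat.Prime.dvd_mul h.prime).1 hvN).resolve_right (not_dvd_gcd3 h.prime h2)
  have hp : ∀ k, 1 ≤ q ^ k := fun k => Nat.one_le_pow _ _ (by omega)
  have h9 : q ^ 9 - 1 = (q ^ 3 - 1) * (n * Nat.gcd 3 (q - 1)) := by
    rw [h3]
    zify [hp 9, hp 3]
    ring
  refine not_SC_of_exact (a := q ^ 36 * ((q ^ 2 - 1) * (q ^ 5 - 1) * (q ^ 6 - 1) * (q ^ 8 - 1) * (q ^ 3 - 1) *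
    (q ^ 12 - 1))) h.prime hvn hE ?_ ?_ ?_
  · apply Nat.eq_of_mul_eq_mul_left hd0
    rw [hG, h9]
    ring
  · rw [← ZMod.natCast_eq_natCast_iff]
    push_cast [Nat.cast_sub (hp 2), Nat.cast_sub (hp 5), Nat.cast_sub (hp 6), Nat.cast_sub (hp 8),
      Nat.cast_sub (hp 3), Nat.cast_sub (hp 12)]
    refine nine_id ?_
    have h4 : ((q ^ 6 + q ^ 3 + 1 : ℕ) : ZMod n) = 0 := by
      rw [← h3, Nat.cast_mul, ZMod.natCast_self, zero_mul]
    push_cast at h4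
    exact h4
  · rw [← h3] at hO
    have h5 : Nat.gcd 3 (q - 1) * (9 * Nat.card (Cfsg.Out ↥(chevE6.group F)) + 1) < Nat.gcd 3 (q - 1) * n := by
      calc Nat.gcd 3 (q - 1) * (9 * Nat.card (Cfsg.Out ↥(chevE6.group F)) + 1) =
          9 * (Nat.gcd 3 (q - 1) * Nat.card (Cfsg.Out ↥(chevE6.group F))) + Nat.gcd 3 (q - 1) := by ring
        _ < n * Nat.gcd 3 (q - 1) := hO
        _ = _ := mul_comm _ _
    have := Nat.lt_of_mul_lt_mul_left h5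
    omega

/-- **`²E₆(q)`, class 18.** -/
theorem not_SC_te6_18 (hq : IsPrimePow q) (hK : Fintype.card F = q ^ 2) {v : ℕ} (h : Prim q 18 v)
    (hG : Nat.gcd 3 (q + 1) * Nat.card ↥(twistedE6 F q) =
      q ^ 36 * (q ^ 2 - 1) * (q ^ 5 + 1) * (q ^ 6 - 1) * (q ^ 8 - 1) * (q ^ 9 + 1) * (q ^ 12 - 1))
    (hO : 9 * (Nat.gcd 3 (q + 1) * Nat.card (Cfsg.Out ↥(twistedE6 F q))) + Nat.gcd 3 (q + 1) < q ^ 6 - q ^ 3 + 1) :
    ¬ SC ↥(twistedE6 F q) v := by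
  have hq2 : 2 ≤ q := hq.two_le
  have hle : q ^ 3 ≤ q ^ 6 := Nat.pow_le_pow_right (by omega) (by norm_num)
  have hN : ((q ^ 6 - q ^ 3 + 1 : ℕ) : ℤ) = 1 - (q : ℤ) ^ 3 + (q : ℤ) ^ 6 := by push_cast [Nat.cast_sub hle]; ring
  have hE := exact_tE6_18 hq hK hN
  have hvN := phi18 h (by omega) hN
  have h2 : v ≠ 3 := by have := prim_gt h (by omega); omega
  have h3 : (q ^ 6 - q ^ 3 + 1) / Nat.gcd 3 (q + 1) * Nat.gcd 3 (q + 1) = q ^ 6 - q ^ 3 + 1 := by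
    refine Nat.div_mul_cancel ?_
    rcases (Nat.dvd_prime Nat.prime_three).1 (Nat.gcd_dvd_left 3 (q + 1)) with h4 | h4
    · rw [h4]; exact one_dvd _
    · rw [h4]
      refine prim_nat hN ?_
      have h5 : 3 ∣ q + 1 := h4 ▸ Nat.gcd_dvd_right 3 (q + 1)
      have h7 := (ZMod.natCast_eq_zero_iff (q + 1) 3).2 h5
      push_cast at h7
      have h8 : (q : ZMod 3) = -1 := eq_neg_of_add_eq_zero_left h7
      push_cast
      rw [h8]
      decide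
  have hd0 : 0 < Nat.gcd 3 (q + 1) := Nat.gcd_pos_of_pos_left _ (by norm_num)
  obtain ⟨n, hn⟩ : ∃ n, n = (q ^ 6 - q ^ 3 + 1) / Nat.gcd 3 (q + 1) := ⟨_, rfl⟩
  rw [← hn] at hE h3
  have hvn : v ∣ n := by
    rw [← h3] at hvN
    exact ((Nat.Prime.dvd_mul h.prime).1 hvN).resolve_right (not_dvd_gcd3 h.prime h2)
  have hp : ∀ k, 1 ≤ q ^ k := fun k => Nat.one_le_pow _ _ (by omega)
  have h9 : q ^ 9 + 1 = (q ^ 3 + 1) * (n * Nat.gcd 3 (q + 1)) := by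
    rw [h3]
    zify [hle]
    ring
  refine not_SC_of_exact (a := q ^ 36 * ((q ^ 2 - 1) * (q ^ 5 + 1) * (q ^ 6 - 1) * (q ^ 8 - 1) * (q ^ 3 + 1) *
    (q ^ 12 - 1))) h.prime hvn hE ?_ ?_ ?_
  · apply Nat.eq_of_mul_eq_mul_left hd0
    rw [hG, h9]
    ring
  · rw [← ZMod.natCast_eq_natCast_iff]
    push_cast [Nat.cast_sub (hp 2), Nat.cast_sub (hp 6), Nat.cast_sub (hp 8), Nat.cast_sub (hp 12)]
    have h4 : ((q ^ 6 - q ^ 3 + 1 : ℕ) : ZMod n) = 0 := by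
      rw [← h3, Nat.cast_mul, ZMod.natCast_self, zero_mul]
    push_cast [Nat.cast_sub hle] at h4
    have h5 := nine_id (x := -(q : ZMod n)) (by linear_combination h4)
    rw [← h5]
    ring
  · rw [← h3] at hO
    have h5 : Nat.gcd 3 (q + 1) * (9 * Nat.card (Cfsg.Out ↥(twistedE6 F q)) + 1) < Nat.gcd 3 (q + 1) * n := by
      calc Nat.gcd 3 (q + 1) * (9 * Nat.card (Cfsg.Out ↥(twistedE6 F q)) + 1) =
          9 * (Nat.gcd 3 (q + 1) * Nat.card (Cfsg.Out ↥(twistedE6 F q))) + Nat.gcd 3 (q + 1) := by ring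
        _ < n * Nat.gcd 3 (q + 1) := hO
        _ = _ := mul_comm _ _
    have := Nat.lt_of_mul_lt_mul_left h5
    omega

end Nine

end Cfsg.Agent.H81.Der
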