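import Cfsg.Agent.H81.DerCert
import Cfsg.Agent.H81.DerTor
import Cfsg.Agent.H81.DerTwo
import Cfsg.Agent.S1063
import Cfsg.Agent.S1066
import Cfsg.Agent.S2123
import Cfsg.Agent.S2130

/-!
# `E₆(q)` and `²E₆(q)` in S3500 (task 2399)

* `nsc_E6` : `NSC` for `E₆(q)`; `nsc_TE6` : `NSC` for `²E₆(q)`, `q ≥ 3`;
* `row_e6`, `row_2e6` : the rows; the input is `PGap` for the maximal subgroups (for `q ≥ 3` in the case of `²E₆(q)`).
-/

set_option autoImplicit false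
set_option linter.unusedSectionVars false

namespace Cfsg.Agent.H81.Der

open Cfsg Cfsg.Lie Cfsg.Lie.ChevalleyDatum
open Cfsg.Agent.ChevalleyStructure Cfsg.Agent.ChevalleyStructure.Elts Cfsg.Agent.ChevalleyStructure.CoxeterGeomTypes
open Cfsg.Agent.Nodes Cfsg.Agent.Nodes.RGDChev
open Cfsg.Agent.H436 (Prim exists_prim)
open Cfsg.Agent.H439.Der Cfsg.Agent.H938.Sax
open Cfsg.Agent.H316.U6 (MData CentRoot)

universe u

theorem prim_of {q v d : ℕ} (hv : v.Prime) (hq : 1 ≤ q) (hvq : ¬ v ∣ q) (hd : orderOf (q : ZMod v) = d) :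
    Prim q d v := by
  refine ⟨hv, fun m => ?_, hvq⟩
  rw [← hd, orderOf_dvd_iff_pow_eq_one, ← sub_eq_zero, ← ZMod.natCast_eq_zero_iff,
    Nat.cast_sub (Nat.one_le_pow _ _ hq)]
  push_cast
  rfl

theorem order_of_prim {q v d : ℕ} (h : Prim q d v) (hq : 1 ≤ q) : orderOf (q : ZMod v) = d := by
  apply Nat.dvd_antisymm
  · rw [orderOf_dvd_iff_pow_eq_one]
    exact (Cfsg.Agent.H190.Exc.prim_zmod h hq d).2 dvd_rfl
  · rw [← Cfsg.Agent.H190.Exc.prim_zmod h hq]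
    exact pow_orderOf_eq_one _

/-- the exponents -/
theorem order_dvd_of {q v k : ℕ} (hq : 1 ≤ q) (h : v ∣ q ^ k - 1) : orderOf (q : ZMod v) ∣ k := by
  rw [orderOf_dvd_iff_pow_eq_one, ← sub_eq_zero]
  have h1 := (ZMod.natCast_eq_zero_iff _ _).2 h
  rw [Nat.cast_sub (Nat.one_le_pow _ _ hq)] at h1
  push_cast at h1
  exact h1

theorem order_dvd_of_add {q v k : ℕ} [hv : Fact v.Prime] (hv2 : v ≠ 2) (h : v ∣ q ^ k + 1) :
    orderOf (q : ZMod v) ∣ 2 * k ∧ ¬ orderOf (q : ZMod v) ∣ k := by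
  have h1 := (ZMod.natCast_eq_zero_iff _ _).2 h
  push_cast at h1
  have h2 : (q : ZMod v) ^ k = -1 := eq_neg_of_add_eq_zero_left h1
  have h3 : (-1 : ZMod v) ≠ 1 := by
    have : Fact (2 < v) := ⟨lt_of_le_of_ne hv.out.two_le (Ne.symm hv2)⟩
    exact ZMod.neg_one_ne_one
  rw [orderOf_dvd_iff_pow_eq_one, orderOf_dvd_iff_pow_eq_one, mul_comm 2 k, pow_mul, h2]
  exact ⟨by norm_num, h3⟩

/-- `f < r ^ f` and the numerical bounds -/
theorem bound_e6 {r f : ℕ} (hr : 2 ≤ r) (hq1 : 2 ≤ r ^ f) : 9 * (Nat.gcd 3 (r ^ f - 1) * (2 * Nat.gcd 3 (r ^ f - 1) * f)) +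
    Nat.gcd 3 (r ^ f - 1) < (r ^ f) ^ 6 + (r ^ f) ^ 3 + 1 := by
  have hf : f < r ^ f := Nat.lt_pow_self (by omega)
  obtain ⟨q, hq⟩ : ∃ q, q = r ^ f := ⟨_, rfl⟩
  rw [← hq] at hf hq1 ⊢
  have hg : Nat.gcd 3 (q - 1) ≤ 3 := Nat.le_of_dvd (by norm_num) (Nat.gcd_dvd_left _ _)
  have hg0 : 0 < Nat.gcd 3 (q - 1) := Nat.gcd_pos_of_pos_left _ (by norm_num)
  have h3 : q ^ 3 ≤ q ^ 6 := Nat.pow_le_pow_right (by omega) (by norm_num)
  rcases Nat.lt_or_ge q 3 with h2 | h2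
  · have h4 : q = 2 := by omega
    rw [h4] at hf ⊢
    have h5 : f ≤ 1 := by omega
    have h6 : Nat.gcd 3 (2 - 1) = 1 := by decide
    rw [h6]
    omega
  · have h4 : Nat.gcd 3 (q - 1) * (2 * Nat.gcd 3 (q - 1) * f) ≤ 3 * (2 * 3 * f) :=
      Nat.mul_le_mul hg (Nat.mul_le_mul_right _ (Nat.mul_le_mul_left _ hg))
    have h5 : 3 ^ 5 * q ≤ q ^ 6 := by
      calc 3 ^ 5 * q ≤ q ^ 5 * q := Nat.mul_le_mul_right _ (Nat.pow_le_pow_left h2 5)
        _ = q ^ 6 := by ring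
    omega

theorem bound_te6 {r f : ℕ} (hr : 2 ≤ r) (h3 : 3 ≤ r ^ f) :
    9 * (Nat.gcd 3 (r ^ f + 1) * (2 * Nat.gcd 3 (r ^ f + 1) * f)) + Nat.gcd 3 (r ^ f + 1) <
      (r ^ f) ^ 6 - (r ^ f) ^ 3 + 1 := by
  have hf : f < r ^ f := Nat.lt_pow_self (by omega)
  obtain ⟨q, hq⟩ : ∃ q, q = r ^ f := ⟨_, rfl⟩
  rw [← hq] at hf h3 ⊢
  have hg : Nat.gcd 3 (q + 1) ≤ 3 := Nat.le_of_dvd (by norm_num) (Nat.gcd_dvd_left _ _)
  have h4 : Nat.gcd 3 (q + 1) * (2 * Nat.gcd 3 (q + 1) * f) ≤ 3 * (2 * 3 * f) :=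
    Nat.mul_le_mul hg (Nat.mul_le_mul_right _ (Nat.mul_le_mul_left _ hg))
  have h5 : 27 * q ^ 3 ≤ q ^ 6 := by
    calc 27 * q ^ 3 = 3 ^ 3 * q ^ 3 := by norm_num
      _ ≤ q ^ 3 * q ^ 3 := Nat.mul_le_mul_right _ (Nat.pow_le_pow_left h3 3)
      _ = q ^ 6 := by ring
  have h6 : 9 * q ≤ q ^ 3 := by
    calc 9 * q = 3 ^ 2 * q := by norm_num
      _ ≤ q ^ 2 * q := Nat.mul_le_mul_right _ (Nat.pow_le_pow_left h3 2)
      _ = q ^ 3 := by ring
  omega

section Untw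

variable {F : Type} [Field F] [Fintype F]

/-- **`NSC` for `E₆(q)`.** -/
theorem nsc_E6 : NSC ↥(chevE6.group F) := by
  obtain ⟨r, hch⟩ := CharP.exists F
  obtain ⟨⟨f, hf0⟩, hr, hqf⟩ := FiniteField.card F r
  have hqf' : Fintype.card F = r ^ f := hqf
  have hrf : Fact r.Prime := ⟨hr⟩
  have hq2 : 2 ≤ Fintype.card F := Fintype.one_lt_card
  obtain ⟨q, hqd⟩ : ∃ q, q = Fintype.card F := ⟨_, rfl⟩
  have hp : IsType chevE6 6 CoxeterMatrix.E₆ := by simp [IsType, typeList]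
  obtain ⟨m, hg, hdd⟩ := H316.U6.mdata_untw (r := r) hp
    (fun h => absurd (congrArg ChevalleyDatum.nroots h) (by decide))
    (fun h => absurd (congrArg ChevalleyDatum.nroots h) (by decide)) F
  have hdd3 : m.dd ∣ 3 := by
    rcases hdd with ⟨h, -⟩ | ⟨h, -⟩ | ⟨-, h⟩
    · rw [h]; exact one_dvd _
    · rw [h]; exact Nat.gcd_dvd_left _ _
    · exact absurd (congrArg ChevalleyDatum.nroots h) (by decide)
  have hrq : r ∣ q := by rw [hqd, hqf']; exact dvd_pow_self r hf0.ne'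
  have hmq : r ^ m.e = q := by rw [m.hq, hqd]
  have hG := S1063.result (F := F) (q := q) hqd.symm
  intro v hv hvT
  have hvf : Fact v.Prime := ⟨hv⟩
  by_cases hvr : v = r
  · -- the characteristic
    subst hvr
    obtain ⟨p, hp4⟩ := exists_prim (q := q) (e := 4) (by omega) (by norm_num) (by norm_num)
    have hpf : Fact p.Prime := ⟨hp4.prime⟩
    have hpr : p ≠ v := by
      rintro rfl
      exact hp4.not_dvd hrq
    have ho : orderOf ((v ^ m.e : ℕ) : ZMod p) = 4 := by rw [hmq]; exact order_of_prim hp4 (by omega)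
    have hp2 : p ≠ 2 := by have := hp4.odd (by norm_num); omega
    exact (not_SC_of_centRoot m hp4.prime hpr (centRoot_E6 m hg hdd3 hp2 hpr (by rw [ho]; norm_num)
      (by rw [ho]; norm_num))).2
  by_cases hv2 : v = 2
  · subst hv2
    exact (not_SC_of_centRoot m hv hvr (centRoot_two m (Ne.symm hvr) (t := chevE6.simple 1) (by decide)
      (by decide +kernel))).1
  -- the order of `q`
  have hvq : ¬ v ∣ q := by
    intro h
    rw [hqd, hqf'] at h
    exact hvr ((Nat.prime_dvd_prime_iff_eq hv hr).1 (hv.dvd_of_dvd_pow h))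
  have h1 : v ∣ q ^ 36 * (q ^ 2 - 1) * (q ^ 5 - 1) * (q ^ 6 - 1) * (q ^ 8 - 1) * (q ^ 9 - 1) * (q ^ 12 - 1) := by
    rw [← hG]
    exact hvT.mul_left _
  have hq1 : 1 ≤ q := by omega
  obtain ⟨d, hd⟩ : ∃ d, d = orderOf (q : ZMod v) := ⟨_, rfl⟩
  have h2 : d ∣ 2 ∨ d ∣ 5 ∨ d ∣ 6 ∨ d ∣ 8 ∨ d ∣ 9 ∨ d ∣ 12 := by
    rw [hd]
    rcases (hv.dvd_mul).1 h1 with h1 | h1
    · rcases (hv.dvd_mul).1 h1 with h1 | h1
      · rcases (hv.dvd_mul).1 h1 with h1 | h1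
        · rcases (hv.dvd_mul).1 h1 with h1 | h1
          · rcases (hv.dvd_mul).1 h1 with h1 | h1
            · rcases (hv.dvd_mul).1 h1 with h1 | h1
              · exact absurd (hv.dvd_of_dvd_pow h1) hvq
              · exact Or.inl (order_dvd_of hq1 h1)
            · exact Or.inr (Or.inl (order_dvd_of hq1 h1))
          · exact Or.inr (Or.inr (Or.inl (order_dvd_of hq1 h1)))
        · exact Or.inr (Or.inr (Or.inr (Or.inl (order_dvd_of hq1 h1))))
      · exact Or.inr (Or.inr (Or.inr (Or.inr (Or.inl (order_dvd_of hq1 h1)))))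
    · exact Or.inr (Or.inr (Or.inr (Or.inr (Or.inr (order_dvd_of hq1 h1)))))
  have h3 : (1 ≤ d ∧ d ≤ 6) ∨ d = 8 ∨ d = 9 ∨ d = 12 := by
    have h4 : d ≤ 12 := by
      rcases h2 with h | h | h | h | h | h <;> exact (Nat.le_of_dvd (by norm_num) h).trans (by norm_num)
    clear hd
    interval_cases d <;> revert h2 <;> decide
  rcases h3 with ⟨h3, h4⟩ | h3 | h3 | h3
  · have ho : orderOf ((r ^ m.e : ℕ) : ZMod v) = d := by rw [hmq, hd]
    exact (not_SC_of_centRoot m hv hvr (centRoot_E6 m hg hdd3 hv2 hvr (by rw [ho]; omega) (by rw [ho]; omega))).1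
  · exact not_SC_e6_8 hqd.symm (prim_of hv hq1 hvq (hd.symm.trans h3))
  · refine not_SC_e6_9 hqd.symm (prim_of hv hq1 hvq (hd.symm.trans h3)) hG ?_
    rw [S2123.result r f hqf', hqd, hqf']
    exact bound_e6 hr.two_le (hqf' ▸ hq2)
  · exact not_SC_e6_12 hqd.symm (prim_of hv hq1 hvq (hd.symm.trans h3))

end Untw

section Tw

variable {K : Type} [Field K] [Fintype K] {q : ℕ}

/-- **`NSC` for `²E₆(q)`, `q ≥ 3`.** -/
theorem nsc_TE6 (hq : IsPrimePow q) (hK : Fintype.card K = q ^ 2) (hq3 : 3 ≤ q) : NSC ↥(twistedE6 K q) := by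
  obtain ⟨r, f, hr, hf0, hrf'⟩ := (isPrimePow_nat_iff q).1 hq
  have hrf : Fact r.Prime := ⟨hr⟩
  have hch : CharP K r := by
    have h1 : Fintype.card K = r ^ (2 * f) := by rw [hK, ← hrf', ← pow_mul, mul_comm]
    exact charP_of_card_eq_prime_pow h1
  have hfin : Finite ↥(twistedE6 K q) := inferInstance
  obtain ⟨m, hdd, hg⟩ := H316.U6.mdata_twE6' (r := r) hq hK
  have hdd3 : m.dd ∣ 3 := by rw [hdd]; exact Nat.gcd_dvd_left _ _
  have hrq : r ∣ q := by rw [← hrf']; exact dvd_pow_self r hf0.ne'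
  have hmq : r ^ m.e = q := m.hq
  have hG := S1066.result (K := K) hq hK
  have hq1 : 1 ≤ q := by omega
  intro v hv hvT
  have hvf : Fact v.Prime := ⟨hv⟩
  by_cases hvr : v = r
  · -- the characteristic
    subst hvr
    obtain ⟨p, hp4⟩ := exists_prim (q := q) (e := 4) (by omega) (by norm_num) (by norm_num)
    have hpf : Fact p.Prime := ⟨hp4.prime⟩
    have hpr : p ≠ v := by
      rintro rfl
      exact hp4.not_dvd hrq
    have ho : orderOf ((v ^ m.e : ℕ) : ZMod p) = 4 := by rw [hmq]; exact order_of_prim hp4 (by omega)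
    have hp2 : p ≠ 2 := by have := hp4.odd (by norm_num); omega
    exact (not_SC_of_centRoot m hp4.prime hpr (centRoot_TE6 m hg hdd3 hp2 hpr
      (Or.inr (Or.inr (Or.inr (Or.inl ho)))))).2
  by_cases hv2 : v = 2
  · subst hv2
    exact (not_SC_of_centRoot m hv hvr (centRoot_two m (Ne.symm hvr) (t := chevE6.simple 1) (by decide)
      (by decide +kernel))).1
  -- the order of `q`
  have hvq : ¬ v ∣ q := by
    intro h
    rw [← hrf'] at h
    exact hvr ((Nat.prime_dvd_prime_iff_eq hv hr).1 (hv.dvd_of_dvd_pow h))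
  have h1 : v ∣ q ^ 36 * (q ^ 2 - 1) * (q ^ 5 + 1) * (q ^ 6 - 1) * (q ^ 8 - 1) * (q ^ 9 + 1) * (q ^ 12 - 1) := by
    rw [← hG]
    exact hvT.mul_left _
  obtain ⟨d, hd⟩ : ∃ d, d = orderOf (q : ZMod v) := ⟨_, rfl⟩
  have h2 : d ∣ 2 ∨ (d ∣ 10 ∧ ¬ d ∣ 5) ∨ d ∣ 6 ∨ d ∣ 8 ∨ (d ∣ 18 ∧ ¬ d ∣ 9) ∨ d ∣ 12 := by
    rw [hd]
    rcases (hv.dvd_mul).1 h1 with h1 | h1
    · rcases (hv.dvd_mul).1 h1 with h1 | h1
      · rcases (hv.dvd_mul).1 h1 with h1 | h1
        · rcases (hv.dvd_mul).1 h1 with h1 | h1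
          · rcases (hv.dvd_mul).1 h1 with h1 | h1
            · rcases (hv.dvd_mul).1 h1 with h1 | h1
              · exact absurd (hv.dvd_of_dvd_pow h1) hvq
              · exact Or.inl (order_dvd_of hq1 h1)
            · exact Or.inr (Or.inl (order_dvd_of_add hv2 h1))
          · exact Or.inr (Or.inr (Or.inl (order_dvd_of hq1 h1)))
        · exact Or.inr (Or.inr (Or.inr (Or.inl (order_dvd_of hq1 h1))))
      · exact Or.inr (Or.inr (Or.inr (Or.inr (Or.inl (order_dvd_of_add hv2 h1)))))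
    · exact Or.inr (Or.inr (Or.inr (Or.inr (Or.inr (order_dvd_of hq1 h1)))))
  have h3 : (d = 1 ∨ d = 2 ∨ d = 3 ∨ d = 4 ∨ d = 6 ∨ d = 10) ∨ d = 8 ∨ d = 18 ∨ d = 12 := by
    have h4 : d ≤ 18 := by
      rcases h2 with h | ⟨h, -⟩ | h | h | ⟨h, -⟩ | h <;> exact (Nat.le_of_dvd (by norm_num) h).trans (by norm_num)
    clear hd
    interval_cases d <;> revert h2 <;> decide
  rcases h3 with h3 | h3 | h3 | h3
  · have ho : orderOf ((r ^ m.e : ℕ) : ZMod v) = d := by rw [hmq, hd]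
    exact (not_SC_of_centRoot m hv hvr (centRoot_TE6 m hg hdd3 hv2 hvr (by rw [ho]; exact h3))).1
  · exact not_SC_te6_8 hq hK hq3 (prim_of hv hq1 hvq (hd.symm.trans h3))
  · refine not_SC_te6_18 hq hK (prim_of hv hq1 hvq (hd.symm.trans h3)) hG ?_
    subst hrf'
    rw [S2130.result r f (by rw [hK, ← pow_mul, mul_comm]) hf0]
    exact bound_te6 hr.two_le hq3
  · exact not_SC_te6_12 hq hK hq3 (prim_of hv hq1 hvq (hd.symm.trans h3))

end Tw

/-! ### the rows -/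

/-- **`E₆(q)`.** -/
theorem row_e6 {T : Type u} [Group T] [Finite T] (h : Cfsg.Lie.IsoChevE6 T)
    (hM : ∀ M : Subgroup T, IsCoatom M → PGap T M) : Row T := by
  obtain ⟨F, _, _, ⟨e⟩⟩ := h
  exact Row.of_pgap (NSC.congr e.symm nsc_E6) hM

/-- **`²E₆(2)`: proper subgroups miss two primes.** -/
theorem missTwo_2e6 (tab : Cfsg.Agent.OrdDiv.OrderTable.{u})
    (hS : ∀ (X : Type u) [Group X] [Finite X] [IsSimpleGroup X], IsKnownSimple' X)
    {T : Type u} [Group T] [Finite T] {K : Type} [Field K] [Fintype K] (hK : Fintype.card K = 2 ^ 2)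
    (e : T ≃* ↥(twistedE6 K 2)) {M : Subgroup T} (hM : M ≠ ⊤) : MissTwo T M := by
  have hq : IsPrimePow 2 := Nat.prime_two.isPrimePow
  have hp17 : Prim 2 8 17 := prim_of (by norm_num) (by norm_num) (by norm_num) (by
    have : Fact (Nat.Prime 17) := ⟨by norm_num⟩
    refine orderOf_eq_of_pow_and_pow_div_prime (by norm_num) (by decide) fun p hp hd => ?_
    have h3 : p ∣ 2 := hp.dvd_of_dvd_pow (show p ∣ 2 ^ 3 from hd)
    rw [(Nat.prime_dvd_prime_iff_eq hp Nat.prime_two).1 h3]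
    decide)
  have hp19 : Prim 2 18 19 := prim_of (by norm_num) (by norm_num) (by norm_num) (by
    have : Fact (Nat.Prime 19) := ⟨by norm_num⟩
    refine orderOf_eq_of_pow_and_pow_div_prime (by norm_num) (by decide) fun p hp hd => ?_
    have h3 : p ∣ 2 * 3 ^ 2 := hd
    rcases hp.dvd_mul.1 h3 with h4 | h4
    · rw [(Nat.prime_dvd_prime_iff_eq hp Nat.prime_two).1 h4]
      decide
    · rw [(Nat.prime_dvd_prime_iff_eq hp Nat.prime_three).1 (hp.dvd_of_dvd_pow h4)]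
      decide)
  have h17 := (Cfsg.Agent.H190.Exc.te6_8 hq hK hp17).2.congr e.symm
  have h19 := (Cfsg.Agent.H190.Exc.te6_18 hq hK hp19).2.congr e.symm
  have hT : Nat.card T = NT := by
    have h3 := S1066.result (K := K) hq hK
    rw [← Nat.card_congr e.toEquiv] at h3
    norm_num at h3
    unfold NT
    omega
  refine two_TE6 tab hS hT (fun x hx => ?_) (fun x hx => ?_) hM
  · have h3 := h17 x hx
    norm_num at h3 ⊢
    exact h3
  · have h3 := h19 x hx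
    norm_num at h3 ⊢
    exact h3

/-- **`²E₆(q)`.** -/
theorem row_2e6 (tab : Cfsg.Agent.OrdDiv.OrderTable.{u})
    (hS : ∀ (X : Type u) [Group X] [Finite X] [IsSimpleGroup X], IsKnownSimple' X)
    {T : Type u} [Group T] [Finite T] (h : Cfsg.Lie.Iso2E6 T)
    (hM : Nat.card T ≠ NT → ∀ M : Subgroup T, IsCoatom M → PGap T M) : Row T := by
  obtain ⟨K, _, _, q, hq, hK, ⟨e⟩⟩ := h
  rcases Nat.lt_or_ge q 3 with h2 | h2
  · have hq2 : q = 2 := by have := hq.two_le; omega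
    subst hq2
    exact fun M hM' => Or.inl (missTwo_2e6 tab hS hK e hM'.1).two
  · refine Row.of_pgap (NSC.congr e.symm (nsc_TE6 hq hK h2)) (hM fun hT => ?_)
    -- the order is too large for `q ≥ 3`
    have h3 := S1066.result (K := K) hq hK
    rw [← Nat.card_congr e.toEquiv, hT] at h3
    have hp : ∀ k, 1 ≤ q ^ k := fun k => Nat.one_le_pow _ _ (by omega)
    have h4 : ∀ k, 1 ≤ k → 1 ≤ q ^ k - 1 := fun k hk => by
      have : q ^ 1 ≤ q ^ k := Nat.pow_le_pow_right (by omega) hk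
      rw [pow_one] at this
      omega
    have h5 : 3 ^ 36 * (q ^ 2 - 1) * (q ^ 5 + 1) * (q ^ 6 - 1) * (q ^ 8 - 1) * (q ^ 9 + 1) * (q ^ 12 - 1) ≤
        Nat.gcd 3 (q + 1) * NT := by
      rw [h3]
      gcongr
    have h6 : (3 ^ 36 * 1 * 1 * (3 ^ 6 - 1) * 1 * 1 * (3 ^ 12 - 1) : ℕ) ≤
        3 ^ 36 * (q ^ 2 - 1) * (q ^ 5 + 1) * (q ^ 6 - 1) * (q ^ 8 - 1) * (q ^ 9 + 1) * (q ^ 12 - 1) := by
      refine Nat.mul_le_mul (Nat.mul_le_mul (Nat.mul_le_mul (Nat.mul_le_mul (Nat.mul_le_mul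
        (Nat.mul_le_mul le_rfl ?_) ?_) ?_) ?_) ?_) ?_
      · exact h4 2 (by norm_num)
      · exact Nat.le_add_left _ _
      · exact Nat.sub_le_sub_right (Nat.pow_le_pow_left h2 6) 1
      · exact h4 8 (by norm_num)
      · exact Nat.le_add_left _ _
      · exact Nat.sub_le_sub_right (Nat.pow_le_pow_left h2 12) 1
    have h7 : Nat.gcd 3 (q + 1) ≤ 3 := Nat.le_of_dvd (by norm_num) (Nat.gcd_dvd_left _ _)
    have h8 := (h6.trans h5).trans (Nat.mul_le_mul_right NT h7)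
    unfold NT at h8
    norm_num at h8

end Cfsg.Agent.H81.Der
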