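import Cfsg.Agent.H81.TorOrthRows
import Cfsg.Agent.H439.Der.Tools

/-!
# `CentRoot m p` and the classes of `p`-singular elements (S3500)

* `not_SC_of_centRoot` : `CentRoot m p`, `p ≠ r`: neither `p` nor the characteristic `r` is `SC`;
* `centRoot_two` : `CentRoot m 2`, `r` odd.
-/

set_option autoImplicit false
set_option linter.unusedSectionVars false

namespace Cfsg.Agent.H81.Der

open CoxeterSystem Cfsg Cfsg.Lie Cfsg.Lie.ChevalleyDatum
open Cfsg.Agent.ChevalleyStructure Cfsg.Agent.ChevalleyStructure.Elts Cfsg.Agent.ChevalleyStructure.CoxeterGeom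
  Cfsg.Agent.ChevalleyStructure.CoxeterGeomTypes Cfsg.Agent.ChevalleyStructure.NPerm
open Cfsg.Agent.Tits.Roots Cfsg.Agent.Tits.Core Cfsg.Agent.Nodes Cfsg.Agent.Nodes.Reps Cfsg.Agent.Nodes.BNOf
  Cfsg.Agent.Nodes.RGDChev
open Cfsg.Agent.KFacts.RgdChevCoord
open Cfsg.Agent.ChevalleyStructure.SL2Hom (up lo)
open Cfsg.Agent.Nodes.RGDFold Cfsg.Agent.Nodes.RGDFoldSL
open Cfsg.Agent.H469.Exc Cfsg.Agent.H469.Exc.SigFr Cfsg.Agent.H316.U6
open Cfsg.Agent.BpExc.LangFr Cfsg.Agent.H81.TorOrth Cfsg.Agent.H439.Der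
open Cfsg.Agent.ChevalleyStructure.HMatDiagAll (expo)

universe u v

variable {D : ChevalleyDatum} {l : ℕ} {M : CoxeterMatrix (Fin l)} {hp : IsType D l M} {r q : ℕ}
  [hr : Fact r.Prime] {K₀ : Type v} [Group K₀] (m : MData hp r q K₀)

theorem nroots_pos' {D : ChevalleyDatum} (hD : InList D) : 0 < D.nroots := by
  have h := (RootComb.good_of_mem hD).rank_pos
  have := simple_lt hD h
  omega

include m in
theorem two_le_q : 2 ≤ q := by
  rw [← m.hq]
  calc 2 ≤ r := hr.out.two_le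
    _ = r ^ 1 := (pow_one r).symm
    _ ≤ r ^ m.e := Nat.pow_le_pow_right hr.out.pos m.he

/-- the root groups of a fixed root: a parameter `b` with `x_s(b)`, `x_{-s}(b⁻¹)`, `x_{-s}(-b⁻¹)` in `K₀` -/
theorem exists_b {s : ℕ} (hs : s < D.nroots) (hg : m.g (vec D l s) = vec D l s) : ∃ b : KK r, b ≠ 0 ∧
    (∃ a, m.ι a = xs hp.inList s b) ∧ ∃ a, m.ι a = xs hp.inList (D.neg s) (-b⁻¹) := by
  have hq2 := two_le_q m
  obtain ⟨s', hv, hs', c, hc, h1, h2⟩ := m.act s hs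
  have hss : s' = s := vec_inj hp hs' hs (hv.trans hg)
  subst hss
  obtain ⟨b, hb⟩ := IsAlgClosed.exists_pow_nat_eq c⁻¹ (show 0 < q - 1 by omega)
  have hb0 : b ≠ 0 := by
    rintro rfl
    rw [zero_pow (by omega)] at hb
    exact inv_ne_zero hc hb.symm
  have hbq : c * b ^ q = b := by
    calc c * b ^ q = c * b ^ (q - 1 + 1) := by rw [Nat.sub_add_cancel (by omega)]
      _ = b := by rw [pow_succ, hb, mul_inv_cancel_left₀ hc]
  have hbq' : c⁻¹ * b⁻¹ ^ q = b⁻¹ := by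
    rw [inv_pow, ← mul_inv, hbq]
  have hsub : ∀ a b : KK r, (a - b) ^ q = a ^ q - b ^ q := by
    intro a b
    rw [← m.hq]
    exact sub_pow_char_pow a b m.e
  have e0 : ∀ t : KK r, xs hp.inList s' t ^ r ^ 1 = 1 := fun t => by rw [pow_one]; exact xs_pow_r (hp := hp) s' t
  have e0' : ∀ t : KK r, xs hp.inList (D.neg s') t ^ r ^ 1 = 1 := fun t => by rw [pow_one]; exact xs_pow_r (hp := hp) _ t
  refine ⟨b, hb0, m.exists_eq (by rw [h1, hbq]) ⟨1, e0 _⟩, m.exists_eq ?_ ⟨1, e0' _⟩⟩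
  rw [h2, ← zero_sub, hsub, zero_pow (by omega), zero_sub, mul_neg, hbq', zero_sub]

/-- an element of order `r` of the highest root group -/
theorem exists_root_elt : ∃ u : K₀, orderOf u = r ∧ m.ι u ∈ XX D l (KK r) (vec D l (D.nroots - 1)) := by
  have hD := nroots_pos' hp.inList
  have hs : D.nroots - 1 < D.nroots := by omega
  obtain ⟨b, hb, ⟨a, ha⟩, -⟩ := exists_b m hs m.top
  refine ⟨a, orderOf_eq_prime (m.inj ?_) ?_, ?_⟩
  · rw [map_pow, ha, map_one]
    exact xs_pow_r (hp := hp) _ _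
  · rintro rfl
    rw [map_one] at ha
    exact hb ((xG_eq_one_iff hp.inList hs b).1 (congrArg Subtype.val ha).symm)
  · rw [ha]
    exact (Cfsg.Agent.LangThm.mem_XX_vec hp hs).2 ⟨b, rfl⟩

/-- **`CentRoot m p`, `p ≠ r`: neither `p` nor `r` is `SC`.** -/
theorem not_SC_of_centRoot [Finite K₀] {p : ℕ} (hpp : p.Prime) (hpr : p ≠ r) (h : CentRoot m p) :
    ¬ SC K₀ p ∧ ¬ SC K₀ r := by
  obtain ⟨x, hx, hc⟩ := h
  obtain ⟨u, hu, hu'⟩ := exists_root_elt m
  have hcom : Commute x u := m.inj (by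
    rw [map_mul, map_mul]
    exact (hc (m.ι u) (m.fix u) (Or.inl hu')).symm)
  exact ⟨not_SC_of_commute hpp hr.out hpr hx hu hcom, not_SC_of_commute hr.out hpp hpr.symm hu hx hcom.symm⟩

/-- `(up b · lo (-b⁻¹) · up b)² = -1` -/
theorem sq_eq {k : Type*} [Field k] {b : k} (hb : b ≠ 0) :
    (up b * lo (-b⁻¹) * up b) * (up b * lo (-b⁻¹) * up b) = hS (-1 : k) := by
  apply Subtype.ext
  rw [coe_hS (neg_ne_zero.2 one_ne_zero)]
  simp only [Matrix.SpecialLinearGroup.coe_mul]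
  show (!![1, b; 0, 1] : Matrix (Fin 2) (Fin 2) k) * !![1, 0; -b⁻¹, 1] * !![1, b; 0, 1] *
    (!![1, b; 0, 1] * !![1, 0; -b⁻¹, 1] * !![1, b; 0, 1]) = _
  ext i j
  fin_cases i <;> fin_cases j <;> simp [Matrix.mul_apply, Fin.sum_univ_two, hb, inv_neg]

/-- `-1` is central -/
theorem neg_one_comm {k : Type*} [Field k] (g : Matrix.SpecialLinearGroup (Fin 2) k) :
    hS (-1 : k) * g = g * hS (-1 : k) := by
  apply Subtype.ext
  rw [Matrix.SpecialLinearGroup.coe_mul, Matrix.SpecialLinearGroup.coe_mul, coe_hS (neg_ne_zero.2 one_ne_zero)]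
  ext i j
  fin_cases i <;> fin_cases j <;> simp [Matrix.mul_apply, Fin.sum_univ_two, inv_neg]

/-- **`CentRoot m 2`, `r` odd.** -/
theorem centRoot_two (hr2 : r ≠ 2) {t : ℕ} (ht : t < D.nroots) (hodd : Odd (expo D (D.nroots - 1) t)) :
    CentRoot m 2 := by
  have hD := nroots_pos' hp.inList
  have hs : D.nroots - 1 < D.nroots := by omega
  obtain ⟨b, hb, ⟨a, ha⟩, ⟨a', ha'⟩⟩ := exists_b m hs m.top
  have hx : m.ι ((a * a' * a) * (a * a' * a)) = ps hp hs (hS (-1 : KK r)) := by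
    rw [← sq_eq hb]
    simp only [map_mul, ha, ha', ps_up, ps_lo]
  have h1 : (-1 : KK r) ≠ 1 := by
    intro h
    have h2 : (2 : KK r) = 0 := by
      calc (2 : KK r) = 1 + 1 := by norm_num
        _ = 1 + -1 := by rw [h]
        _ = 0 := by ring
    have h3 : ((2 : ℕ) : KK r) = 0 := by exact_mod_cast h2
    rw [CharP.cast_eq_zero_iff (KK r) r] at h3
    exact hr2 ((Nat.prime_dvd_prime_iff_eq hr.out Nat.prime_two).1 h3)
  refine ⟨(a * a' * a) * (a * a' * a), orderOf_eq_prime (m.inj ?_) ?_, ?_⟩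
  · rw [map_pow, hx, map_one]
    apply Subtype.ext
    rw [Subgroup.coe_pow, coe_ps_hS]
    exact Cfsg.Agent.KFacts.Mult.Chev.hG_pow hp.inList hs (neg_ne_zero.2 one_ne_zero) (by norm_num)
  · intro h0
    rw [h0, map_one] at hx
    have h4 := congrArg (fun y : ↥(D.group (KK r)) => ((y : GL D.Idx (KK r)) : Matrix D.Idx D.Idx (KK r))
      (Sum.inr ⟨t, ht⟩) (Sum.inr ⟨t, ht⟩)) hx
    have h5 := entry hp hs (neg_ne_zero.2 (one_ne_zero (α := KK r))) 1
    rw [pow_one] at h5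
    simp only [h5, Matrix.diagonal_apply_eq, Sum.elim_inr, pow_one] at h4
    rw [show (((1 : ↥(D.group (KK r))) : GL D.Idx (KK r)) : Matrix D.Idx D.Idx (KK r)) = 1 from rfl,
      Matrix.one_apply_eq, hodd.neg_one_zpow] at h4
    exact h1 h4.symm
  · intro u _ hu
    rw [hx]
    rcases hu with hu | hu
    · obtain ⟨c, hc⟩ := (Cfsg.Agent.LangThm.mem_XX_vec hp hs).1 hu
      have e : u = ps hp hs (up c) := by
        rw [ps_up]
        exact Subtype.ext hc
      rw [e, ← map_mul, ← map_mul, neg_one_comm]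
    · rw [← vec_neg hp hs] at hu
      obtain ⟨c, hc⟩ := (Cfsg.Agent.LangThm.mem_XX_vec hp (neg_lt hp.inList hs)).1 hu
      have e : u = ps hp hs (lo c) := by
        rw [ps_lo]
        exact Subtype.ext hc
      rw [e, ← map_mul, ← map_mul, neg_one_comm]

end Cfsg.Agent.H81.Der
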