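import Cfsg.Agent.H83.Disp
import Cfsg.Agent.Nodes.RGDChev

/-!
The elements `w` of the Weyl group of type `F₄` with `w α_i = α_i` or `w α_i < 0` for all `i` (helper81).
They are the `w₀ w_J`; explicit words.
-/

set_option autoImplicit false
set_option maxRecDepth 100000

namespace Cfsg.Agent.H81.FFourW

open CoxeterSystem Cfsg.Agent.ChevalleyStructure.CoxeterGeom Cfsg.Agent.Tits.Roots Cfsg.Agent.Tits.Core
  Cfsg.Agent.Tits.RootComb Cfsg.Agent.Nodes.Comb Cfsg.Agent.Nodes.Reps Cfsg.Agent.Nodes.BNOf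
  Cfsg.Agent.Nodes.StabComb
open Cfsg.Lie Cfsg.Agent.ChevalleyStructure Cfsg.Agent.ChevalleyStructure.Elts
  Cfsg.Agent.ChevalleyStructure.RootVec Cfsg.Agent.ChevalleyStructure.RootVecTab
  Cfsg.Agent.ChevalleyStructure.NPerm Cfsg.Agent.ChevalleyStructure.CoxeterGeomTypes
  Cfsg.Agent.Nodes.RGDChev Cfsg.Agent.H83.Disp

/-- `F₄` is a type -/
theorem hp : IsType chevF4 4 CoxeterMatrix.F₄ := by simp [IsType, typeList]

/-- action of a word on the root indices -/
def ract (ω : List (Fin 4)) (r : ℕ) : ℕ := ω.foldr (fun i s => chevF4.reflectRoot i.val s) r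

/-- the set of nodes coded by a number below 16, as a Boolean function -/
def bt (m : ℕ) (i : Fin 4) : Bool := m.testBit i.val

/-- words of the longest elements of the parabolic subgroups -/
def oJ : ℕ → List (Fin 4)
  | 0 => []
  | 1 => [0]
  | 2 => [1]
  | 3 => [0, 1, 0]
  | 4 => [2]
  | 5 => [2, 0]
  | 6 => [2, 1, 2, 1]
  | 7 => [2, 1, 2, 0, 1, 2, 0, 1, 0]
  | 8 => [3]
  | 9 => [3, 0]
  | 10 => [3, 1]
  | 11 => [3, 0, 1, 0]
  | 12 => [2, 3, 2]
  | 13 => [2, 3, 2, 0]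
  | 14 => [3, 2, 1, 2, 3, 2, 1, 2, 1]
  | _ => [3, 2, 1, 2, 0, 1, 2, 3, 2, 1, 2, 0, 1, 2, 3, 2, 1, 2, 0, 1, 2, 0, 1, 0]

/-- words of the elements `w₀ w_J` -/
def om : ℕ → List (Fin 4)
  | 0 => [3, 2, 1, 2, 0, 1, 2, 3, 2, 1, 2, 0, 1, 2, 3, 2, 1, 2, 0, 1, 2, 0, 1, 0]
  | 1 => [3, 2, 1, 2, 0, 1, 2, 3, 2, 1, 2, 0, 1, 2, 3, 2, 1, 2, 0, 1, 2, 0, 1]
  | 2 => [3, 2, 1, 2, 0, 1, 2, 3, 2, 1, 2, 0, 1, 2, 3, 2, 1, 2, 0, 1, 2, 1, 0]
  | 3 => [3, 2, 1, 2, 0, 1, 2, 3, 2, 1, 2, 0, 1, 2, 3, 2, 1, 2, 0, 1, 2]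
  | 4 => [3, 2, 1, 2, 0, 1, 2, 3, 2, 1, 2, 0, 1, 2, 3, 1, 2, 0, 1, 2, 0, 1, 0]
  | 5 => [3, 2, 1, 2, 0, 1, 2, 3, 2, 1, 2, 0, 1, 2, 3, 1, 2, 0, 1, 2, 0, 1]
  | 6 => [3, 2, 1, 2, 0, 1, 2, 3, 2, 1, 2, 0, 1, 2, 3, 0, 1, 2, 1, 0]
  | 7 => [3, 2, 1, 2, 0, 1, 2, 3, 2, 1, 2, 0, 1, 2, 3]
  | 8 => [2, 1, 2, 0, 1, 2, 3, 2, 1, 2, 0, 1, 2, 3, 2, 1, 2, 0, 1, 2, 0, 1, 0]
  | 9 => [2, 1, 2, 0, 1, 2, 3, 2, 1, 2, 0, 1, 2, 3, 2, 1, 2, 0, 1, 2, 0, 1]
  | 10 => [2, 1, 2, 0, 1, 2, 3, 2, 1, 2, 0, 1, 2, 3, 2, 1, 2, 0, 1, 2, 1, 0]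
  | 11 => [2, 1, 2, 0, 1, 2, 3, 2, 1, 2, 0, 1, 2, 3, 2, 1, 2, 0, 1, 2]
  | 12 => [1, 2, 0, 1, 2, 3, 2, 1, 2, 0, 1, 2, 3, 1, 2, 0, 1, 2, 0, 1, 0]
  | 13 => [1, 2, 0, 1, 2, 3, 2, 1, 2, 0, 1, 2, 3, 1, 2, 0, 1, 2, 0, 1]
  | 14 => [0, 1, 2, 3, 1, 2, 0, 1, 2, 3, 0, 1, 2, 1, 0]
  | _ => []

/-- the checks on the words -/
def chkJ (m : ℕ) : Bool :=
  (List.finRange 4).all fun i =>
    let r := ract (oJ m) (chevF4.simple i)
    Nat.blt r 48 &&
    (if bt m i then
        (List.finRange 4).all fun k => decide (rt chevF4 r k ≤ 0) && (bt m k || decide (rt chevF4 r k = 0))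
      else
        decide (rt chevF4 r i ≠ 0) && (List.finRange 4).all fun k => decide (0 ≤ rt chevF4 r k)) &&
    Nat.beq (ract (om m) r) (chevF4.neg (chevF4.simple i))

theorem chkJ_all : ((List.range 16).all chkJ) = true := by decide +kernel

/-- in the four cases with a component of type `A₂` the element `w₀ w_J` does not fix `J` -/
def bad (m : ℕ) : Bool :=
  (List.finRange 4).any fun i => bt m i && ! Nat.beq (ract (om m) (chevF4.simple i)) (chevF4.simple i)

theorem bad_all : ([3, 11, 12, 13].all bad) = true := by decide +kernel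

section Key

variable {W : Type*} [Group W] (cs : CoxeterSystem CoxeterMatrix.F₄ W)

theorem ract_lt (ω : List (Fin 4)) {r : ℕ} (hr : r < 48) : ract ω r < 48 := by
  induction ω with
  | nil => exact hr
  | cons i ω ih => exact reflectRoot_lt hp.inList (lt_rank hp i) ih

theorem rep_word (ω : List (Fin 4)) {r : ℕ} (hr : r < 48) :
    rep cs hp.isCartan (cs.wordProd ω) (vec chevF4 4 r) = vec chevF4 4 (ract ω r) := by
  induction ω with
  | nil => rw [wordProd_nil, map_one, Module.End.one_apply]; rfl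
  | cons i ω ih =>
    rw [wordProd_cons, rep_mul_apply, ih, rep_vec hp cs i (ract_lt ω hr)]; rfl

theorem simple_lt48 (i : Fin 4) : chevF4.simple i < 48 := by
  revert i; decide +kernel

theorem exists_code (J : Set (Fin 4)) : ∃ m < 16, ∀ i, (bt m i = true ↔ i ∈ J) := by
  classical
  have h : ∀ b : Fin 4 → Bool, ∃ m < 16, ∀ i, bt m i = b i := by decide +kernel
  obtain ⟨m, hm, h1⟩ := h fun i => decide (i ∈ J)
  exact ⟨m, hm, fun i => by rw [h1 i, decide_eq_true_iff]⟩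

/-- **The extremal elements of the Weyl group are given by the words `om m`.** -/
theorem exists_om [Finite W] {w : W} (hE : Ext cs hp.isCartan w) :
    ∃ m < 16, w = cs.wordProd (om m) ∧ m ∉ [3, 11, 12, 13] := by
  classical
  obtain ⟨m, hm, hmJ⟩ := exists_code (FixJ cs hp.isCartan w)
  have hc : chkJ m = true := List.all_eq_true.1 chkJ_all m (List.mem_range.2 hm)
  unfold chkJ at hc
  rw [List.all_eq_true] at hc
  have hfix : ∀ i, i ∈ FixJ cs hp.isCartan w → rep cs hp.isCartan w (sr i) = sr i := fun i hi => hi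
  have key : ∀ i : Fin 4, rep cs hp.isCartan (w * cs.wordProd (oJ m)) (sr i) ≤ 0 ∧
      rep cs hp.isCartan (cs.wordProd (om m) * cs.wordProd (oJ m)) (sr i) = - sr i := by
    intro i
    have h1 := hc i (List.mem_finRange i)
    simp only [Bool.and_eq_true] at h1
    obtain ⟨⟨h2, h3⟩, h4⟩ := h1
    have hr : ract (oJ m) (chevF4.simple i) < 48 := by simpa [Nat.blt_eq] using h2
    have e1 : rep cs hp.isCartan (cs.wordProd (oJ m)) (sr i) = vec chevF4 4 (ract (oJ m) (chevF4.simple i)) := by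
      rw [← vec_simple hp i, rep_word cs _ (simple_lt48 i)]
    constructor
    · rw [rep_mul_apply, e1]
      by_cases hb : bt m i = true
      · rw [if_pos hb, List.all_eq_true] at h3
        have h5 : rep cs hp.isCartan w (vec chevF4 4 (ract (oJ m) (chevF4.simple i))) =
            vec chevF4 4 (ract (oJ m) (chevF4.simple i)) := by
          refine rep_fix fun k hk => ?_
          have h6 := h3 k (List.mem_finRange k)
          rw [Bool.and_eq_true, Bool.or_eq_true, decide_eq_true_iff, decide_eq_true_iff, hmJ] at h6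
          exact h6.2.resolve_left hk
        rw [h5]
        intro k
        have h6 := h3 k (List.mem_finRange k)
        rw [Bool.and_eq_true, decide_eq_true_iff] at h6
        exact h6.1
      · rw [if_neg hb, Bool.and_eq_true, decide_eq_true_iff, List.all_eq_true] at h3
        have hroot := isRoot_vec hp cs hr
        have hpos : 0 ≤ vec chevF4 4 (ract (oJ m) (chevF4.simple i)) := by
          intro k
          have h6 := h3.2 k (List.mem_finRange k)
          rw [decide_eq_true_iff] at h6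
          exact h6
        rcases (hroot.act w).pos_or_neg with h7 | h7
        · exfalso
          have h8 : vec chevF4 4 (ract (oJ m) (chevF4.simple i)) ∈ PW cs hp.isCartan w := ⟨hroot, hpos, h7⟩
          rw [PW_eq hE] at h8
          exact h3.1 (h8.2.2 i fun hi => hb ((hmJ i).2 hi))
        · exact h7
    · have h5 : ract (om m) (ract (oJ m) (chevF4.simple i)) = chevF4.neg (chevF4.simple i) :=
        Nat.eq_of_beq_eq_true h4
      rw [rep_mul_apply, e1, rep_word cs _ hr, h5, vec_neg hp (simple_lt48 i), vec_simple hp i]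
  set v := w * cs.wordProd (oJ m) with hv
  set u := cs.wordProd (om m) * cs.wordProd (oJ m) with hu
  have h1 : v * u⁻¹ = 1 := by
    refine eq_one_of_nonneg cs hp.isCartan _ fun i => ?_
    have h2 : rep cs hp.isCartan u⁻¹ (sr i) = - sr i := by
      have h3 : rep cs hp.isCartan u (- sr i) = sr i := by rw [map_neg, (key i).2, _root_.neg_neg]
      have h4 : rep cs hp.isCartan u⁻¹ (rep cs hp.isCartan u (- sr i)) = - sr i := by
        rw [← rep_mul_apply, inv_mul_cancel, map_one, Module.End.one_apply]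
      rwa [h3] at h4
    show 0 ≤ rep cs hp.isCartan (v * u⁻¹) (sr i)
    rw [rep_mul_apply, h2, map_neg]
    exact neg_nonneg.2 (key i).1
  have h2 : w = cs.wordProd (om m) := by
    have h3 : v = u := mul_inv_eq_one.1 h1
    exact mul_right_cancel (b := cs.wordProd (oJ m)) h3
  refine ⟨m, hm, h2, fun hbad => ?_⟩
  have h3 : bad m = true := List.all_eq_true.1 bad_all m hbad
  unfold bad at h3
  rw [List.any_eq_true] at h3
  obtain ⟨i, -, h4⟩ := h3
  rw [Bool.and_eq_true, hmJ] at h4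
  have h5 := hfix i h4.1
  rw [h2, ← vec_simple hp i, rep_word cs _ (simple_lt48 i)] at h5
  have h6 : ract (om m) (chevF4.simple i) = chevF4.simple i := vec_inj hp (ract_lt _ (simple_lt48 i)) (simple_lt48 i) h5
  have h7 := h4.2
  rw [h6, Nat.beq_refl] at h7
  exact absurd h7 (by decide)

end Key

end Cfsg.Agent.H81.FFourW
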