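import Cfsg.Agent.H81.FFourFus
import Cfsg.Agent.H81.FFourW

/-!
Every involution of `F₄(q)`, `q` even, is conjugate to one of four products of root elements (helper81).
-/

set_option autoImplicit false
set_option maxRecDepth 100000

namespace Cfsg.Agent.H81.FFourConj

open CoxeterSystem Cfsg.Agent.ChevalleyStructure.CoxeterGeom Cfsg.Agent.Tits.Roots Cfsg.Agent.Tits.Core
  Cfsg.Agent.Nodes.Comb Cfsg.Agent.Nodes.Reps Cfsg.Agent.Nodes.BNOf Cfsg.Agent.Nodes.Bruhat
open Cfsg.Lie Cfsg.Agent.ChevalleyStructure Cfsg.Agent.ChevalleyStructure.Elts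
  Cfsg.Agent.ChevalleyStructure.TwF4.Bits Cfsg.Agent.Nodes.RGDChev Cfsg.Agent.H83.Disp Cfsg.Agent.H81.FFourCode Cfsg.Agent.H81.FFourFus
  Cfsg.Agent.H81.FFourW

universe u

variable {K : Type u} [Field K]

/-- the word in natural numbers -/
def toN (ω : List (Fin 4)) : List ℕ := ω.map fun i => i.val

theorem nn_eq [CharP K 2] (i : Fin 4) : nn hp K i = wG K (nl i.val) := by
  have h : ∀ j : Fin 4, nl j.val = [chevF4.simple j.val, chevF4.neg (chevF4.simple j.val), chevF4.simple j.val] := by
    decide +kernel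
  rw [h i]
  show nG hp.inList (chevF4.simple i) 1 = _
  rw [nG_def]
  simp only [wG_cons, wG_nil, mul_one, inv_one, neg_one_eq]

theorem prod_nn [CharP K 2] (ω : List (Fin 4)) : (ω.map (nn hp K)).prod = wG K (nW (toN ω)) := by
  induction ω with
  | nil => rfl
  | cons i ω ih =>
    rw [List.map_cons, List.prod_cons, ih, nn_eq]
    show _ = wG K (nl i.val ++ nW (toN ω))
    rw [wG_append]

variable {W : Type*} [Group W] (cs : CoxeterSystem CoxeterMatrix.F₄ W)

theorem rp_word {T : Subgroup (GL chevF4.Idx K)} (hN : NSys CoxeterMatrix.F₄ T (nn hp K)) (ω : List (Fin 4)) :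
    Rp cs hN (cs.wordProd ω) (ω.map (nn hp K)).prod := by
  induction ω with
  | nil => rw [wordProd_nil]; exact rp_one
  | cons i ω ih =>
    rw [wordProd_cons, List.map_cons, List.prod_cons]
    exact (rp_simple cs hN i).mul ih

theorem group_le_GG : chevF4.group K ≤ GG cs hp.isCartan (chevF4.diagonalSubgroup K) (XV chevF4 4 K) := by
  rw [group_le_iff hp.inList]
  intro r hr t
  refine X_le_GG (isRoot_vec hp cs hr) ?_
  rw [XV_vec hp K hr]
  exact xG_mem_rootSubgroup hp.inList r t

theorem GG_le_group : GG cs hp.isCartan (chevF4.diagonalSubgroup K) (XV chevF4 4 K) ≤ chevF4.group K := by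
  unfold GG
  refine sup_le (diagonal_le_group hp.inList K) ?_
  refine iSup_le fun x => XV_le_group hp _

theorem fus (m : ℕ) (hm : m < 16) (hbad : m ∉ [3, 11, 12, 13]) (h15 : m ≠ 15) :
    ∃ h b, b ∈ reps ∧ chk (toN (om m)) h b = true := by
  interval_cases m
  · exact ⟨_, _, by decide, chk0⟩
  · exact ⟨_, _, by decide, chk1⟩
  · exact ⟨_, _, by decide, chk2⟩
  · exact absurd (by decide) hbad
  · exact ⟨_, _, by decide, chk4⟩
  · exact ⟨_, _, by decide, chk5⟩
  · exact ⟨_, _, by decide, chk6⟩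
  · exact ⟨_, _, by decide, chk7⟩
  · exact ⟨_, _, by decide, chk8⟩
  · exact ⟨_, _, by decide, chk9⟩
  · exact ⟨_, _, by decide, chk10⟩
  · exact absurd (by decide) hbad
  · exact absurd (by decide) hbad
  · exact absurd (by decide) hbad
  · exact ⟨_, _, by decide, chk14⟩
  · exact absurd rfl h15

/-- the squares of the representatives are trivial -/
theorem sq_reps [CharP K 2] {b : List ℕ} (hb : b ∈ reps) : wG K b * wG K b = 1 := by
  have h : (reps.all fun b => okW (b ++ b) && Nat.beq (wc (b ++ b) idN) (wc [] idN)) = true := by decide +kernel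
  rw [List.all_eq_true] at h
  have h1 := h b hb
  rw [Bool.and_eq_true] at h1
  rw [← wG_append, eq_of_code (K := K) h1.1 (by decide) h1.2, wG_nil]

/-- **Every involution of `F₄(q)`, `q` even, is conjugate to one of the four representatives.** -/
theorem exists_rep [Finite K] [CharP K 2] {t : GL chevF4.Idx K} (ht : t ∈ chevF4.group K) (h2 : t * t = 1)
    (h1 : t ≠ 1) : ∃ y ∈ chevF4.group K, ∃ b ∈ reps, y * t * y⁻¹ = wG K b := by
  let cs : CoxeterSystem CoxeterMatrix.F₄ CoxeterMatrix.F₄.Group := CoxeterMatrix.F₄.toCoxeterSystem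
  have : Finite CoxeterMatrix.F₄.Group := finite_W hp cs
  have : Fact (Nat.Prime 2) := ⟨Nat.prime_two⟩
  have R := rgd_GL (K := K) hp cs 2
  obtain ⟨y, hy, w, hE, hww, hrp⟩ := exists_conj_rp R (group_le_GG cs ht) h2
  obtain ⟨m, hm, rfl, hbad⟩ := exists_om cs hE
  have hyG := GG_le_group cs hy
  have hodd := R.tcop
  have hg2 : (y * t * y⁻¹) * (y * t * y⁻¹) = 1 := by
    calc (y * t * y⁻¹) * (y * t * y⁻¹) = y * (t * t) * y⁻¹ := by group
      _ = 1 := by rw [h2]; group
  by_cases h15 : m = 15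
  · exfalso
    subst h15
    have h3 : (1 : GL chevF4.Idx K) * 1 = 1 := one_mul 1
    have h4 : Rp cs R.nsys (cs.wordProd (om 15)) 1 := by
      show Rp cs R.nsys (cs.wordProd []) 1
      rw [wordProd_nil]; exact rp_one
    obtain ⟨s, -, e⟩ := conj_of_rp hodd hrp h4 hg2 h3
    apply h1
    have h5 : y * t * y⁻¹ = 1 := by
      have := mul_inv_eq_one.1 e
      exact mul_left_cancel (a := s) (by rw [this, mul_one])
    have := mul_inv_eq_one.1 h5
    exact mul_left_cancel (a := y) (by rw [this, mul_one])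
  · obtain ⟨h, b, hb, hc⟩ := fus m hm hbad h15
    have h3 := conj_of_chk (K := K) hc
    have h4 := rp_word (K := K) cs R.nsys (om m)
    rw [prod_nn] at h4
    have h5 : wG K (nW (toN (om m))) * wG K (nW (toN (om m))) = 1 := by
      have h6 := sq_reps (K := K) hb
      rw [← h3] at h6
      have h7 : wG K h * (wG K (nW (toN (om m))) * wG K (nW (toN (om m)))) * (wG K h)⁻¹ = 1 := by
        rw [← h6]; group
      have h8 := mul_inv_eq_one.1 h7
      exact mul_left_cancel (a := wG K h) (by rw [h8, mul_one])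
    obtain ⟨s, hs, e⟩ := conj_of_rp hodd hrp h4 hg2 h5
    refine ⟨wG K h * s * y, mul_mem (mul_mem (wG_mem h) (diagonal_le_group hp.inList K hs)) hyG, b, hb, ?_⟩
    rw [← h3, ← e]
    group

end Cfsg.Agent.H81.FFourConj
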