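import Cfsg.Agent.H81.FFourRank

/-!
Rank certificates: the four representatives of the involutions of `F₄` in characteristic 2 (helper81).
-/

set_option autoImplicit false
set_option maxRecDepth 100000

namespace Cfsg.Agent.H81.FFourNC

open Cfsg.Lie Cfsg.Agent.ChevalleyStructure.TwF4.Bits Cfsg.Agent.ChevalleyStructure.TwF4.Tables
  Cfsg.Agent.ChevalleyStructure.Elts Cfsg.Agent.H81.FFourCode Cfsg.Agent.H81.FFourRank

universe u

variable {K : Type u} [Field K] [CharP K 2]

/-- the rank of `(y - 1) P_S`, `y = wG w` -/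
noncomputable def rk (K : Type u) [Field K] (w S : List ℕ) : ℕ :=
  (((wG K w : Matrix chevF4.Idx chevF4.Idx K) - 1) * Pm K S).rank

theorem okP_AL : okP AL = true := by decide +kernel

theorem le_a : rk K [47] AL ≤ 16 :=
  rank_le (C := [3, 4, 5, 6, 7, 8, 9, 11, 12, 13, 15, 19, 20, 22, 25, 27])
    (by decide +kernel) (by decide +kernel) okP_AL (by decide +kernel)

theorem le_b : rk K [44] AL ≤ 16 :=
  rank_le (C := [0, 4, 5, 6, 7, 8, 9, 10, 11, 12, 13, 14, 15, 16, 17, 18])
    (by decide +kernel) (by decide +kernel) okP_AL (by decide +kernel)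

theorem ge_c : 21 ≤ rk K [47, 44] AL :=
  rank_ge (C := [0, 3, 4, 5, 6, 7, 8, 9, 10, 11, 12, 13, 14, 15, 16, 17, 18, 19, 20, 25, 27])
    (L := [(0, 0), (0, 1), (0, 48), (3, 0), (3, 1), (3, 33), (3, 51), (4, 0), (5, 23), (6, 24), (7, 1), (8, 31), (9, 32), (10, 1), (10, 33), (11, 37), (12, 38), (13, 39), (14, 37), (14, 40), (15, 41), (16, 38), (16, 42), (17, 39), (17, 43), (18, 41), (18, 44), (19, 23), (19, 46), (20, 24), (20, 47), (25, 31), (25, 49), (27, 32), (27, 50)])
    (by decide +kernel) (by decide +kernel) (by decide +kernel) (by decide +kernel) (by decide +kernel)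

theorem le_c : rk K [47, 44] AL ≤ 22 :=
  rank_le (C := [0, 3, 4, 5, 6, 7, 8, 9, 10, 11, 12, 13, 14, 15, 16, 17, 18, 19, 20, 22, 25, 27])
    (by decide +kernel) (by decide +kernel) okP_AL (by decide +kernel)

theorem ge_d : 24 ≤ rk K [39, 45] AL :=
  rank_ge (C := [1, 2, 4, 5, 6, 7, 8, 9, 10, 11, 12, 13, 14, 15, 16, 17, 19, 20, 21, 22, 23, 24, 25, 26])
    (L := [(1, 0), (1, 43), (1, 49), (2, 3), (2, 49), (4, 13), (5, 14), (6, 3), (7, 17), (8, 18), (9, 34), (10, 35), (11, 24), (12, 0), (12, 3), (13, 41), (13, 50), (14, 42), (14, 51), (15, 32), (16, 33), (17, 17), (17, 44), (19, 37), (20, 45), (21, 46), (22, 39), (23, 40), (24, 24), (24, 48), (25, 13), (25, 50), (26, 14), (26, 51)])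
    (by decide +kernel) (by decide +kernel) (by decide +kernel) (by decide +kernel) (by decide +kernel)

theorem le_aS : rk K [47] SH ≤ 6 :=
  rank_le (C := [7, 11, 12, 13, 15, 22])
    (by decide +kernel) (by decide +kernel) okP_SH (by decide +kernel)

theorem ge_bS : 10 ≤ rk K [44] SH :=
  rank_ge (C := [0, 7, 11, 12, 13, 14, 15, 16, 17, 18])
    (L := [(0, 1), (0, 48), (7, 1), (11, 37), (12, 38), (13, 39), (14, 40), (15, 41), (16, 42), (17, 43), (18, 44)])
    (by decide +kernel) (by decide +kernel) (by decide +kernel) (by decide +kernel) (by decide +kernel)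

/-- the rank on the whole module is invariant -/
theorem rk_conj {a b : List ℕ} {h : GL chevF4.Idx K} (e : h * wG K a * h⁻¹ = wG K b) : rk K a AL = rk K b AL := by
  have hst : ∀ g : GL chevF4.Idx K, Stab K AL g := fun g => by unfold Stab; rw [Pm_AL, mul_one, one_mul, mul_one]
  have e' : h⁻¹ * wG K b * h⁻¹⁻¹ = wG K a := by rw [← e]; group
  exact le_antisymm (rank_le_of_conj (hst _) e') (rank_le_of_conj (hst _) e)

/-- the rank on the submodule is invariant -/
theorem rk_conj_SH [Finite K] {a b : List ℕ} {h : GL chevF4.Idx K} (hh : h ∈ chevF4.group K)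
    (e : h * wG K a * h⁻¹ = wG K b) : rk K a SH = rk K b SH := by
  have e' : h⁻¹ * wG K b * h⁻¹⁻¹ = wG K a := by rw [← e]; group
  exact le_antisymm (rank_le_of_conj (stab_of_mem (inv_mem (inv_mem hh))) e')
    (rank_le_of_conj (stab_of_mem (inv_mem hh)) e)

/-- the representatives -/
def reps : List (List ℕ) := [[47], [44], [47, 44], [39, 45]]

/-- **The four representatives are pairwise not conjugate.** -/
theorem eq_of_conj [Finite K] {a b : List ℕ} (ha : a ∈ reps) (hb : b ∈ reps) {h : GL chevF4.Idx K}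
    (hh : h ∈ chevF4.group K) (e : h * wG K a * h⁻¹ = wG K b) : a = b := by
  have h1 := rk_conj e
  have h2 := rk_conj_SH hh e
  have a1 := le_a (K := K)
  have b1 := le_b (K := K)
  have c1 := ge_c (K := K)
  have c2 := le_c (K := K)
  have d1 := ge_d (K := K)
  have a3 := le_aS (K := K)
  have b3 := ge_bS (K := K)
  simp only [reps, List.mem_cons, List.not_mem_nil, or_false] at ha hb
  rcases ha with rfl | rfl | rfl | rfl <;> rcases hb with rfl | rfl | rfl | rfl <;>
    first | rfl | (exfalso; omega)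

end Cfsg.Agent.H81.FFourNC
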