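import Cfsg.Agent.H81.CycSRow
import Cfsg.Agent.H813.SaxSpK
import Cfsg.Agent.S0288

/-!
# The indices of the special overgroups in the symplectic groups (for S3561, S3679; helper81)

* `card_minus`   : `|O^-_2m(q)|` for an arbitrary nondegenerate form of minus type;
* `ind_minus`    : `q^m (q^m - 1) ∣ 2 |PSp_2m(q) : M|` if the preimage of `M` fixes a form of minus type;
* `ind_field`    : `q^2 (q^2 - 1) ∣ 2 |PSp_4(q) : M|` if it normalises a self-adjoint quadratic field;
* `ind_specN`    : both.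
-/

set_option autoImplicit false

namespace Cfsg.Agent.H81.CycS

open Cfsg Cfsg.Geo Module
open Cfsg.Agent.ClassicalGeometry.SympBasic Cfsg.Agent.H876 Cfsg.Agent.H931 Cfsg.Agent.H262.El
open Cfsg.Agent.LieClassical.OrthCore Cfsg.Agent.LieClassical.OrthFinite Cfsg.Agent.LieClassical.QuadForms
open scoped Matrix MatrixGroups

universe u

section minus

variable {F : Type u} [Field F]

/-- isometric spaces have isomorphic isometry groups -/
theorem card_O_congr {V W : Type*} [AddCommGroup V] [Module F V] [AddCommGroup W] [Module F W]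
    {Q : QuadraticForm F V} {Q' : QuadraticForm F W} (e : V ≃ₗ[F] W) (he : ∀ v, Q' (e v) = Q v) :
    Nat.card (O Q) = Nat.card (O Q') := by
  have he' : ∀ w, Q (e.symm w) = Q' w := fun w => by rw [← he, LinearEquiv.apply_symm_apply]
  refine Nat.card_congr
    { toFun := fun g => ⟨(e.symm.trans (g : V ≃ₗ[F] V)).trans e, fun w => by
        show Q' (e ((g : V ≃ₗ[F] V) (e.symm w))) = Q' w
        rw [he, g.2, he']⟩
      invFun := fun g => ⟨(e.trans (g : W ≃ₗ[F] W)).trans e.symm, fun v => by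
        show Q (e.symm ((g : W ≃ₗ[F] W) (e v))) = Q v
        rw [he', g.2, he]⟩
      left_inv := fun g => by
        apply Subtype.ext
        apply LinearEquiv.ext
        intro v
        show e.symm (e ((g : V ≃ₗ[F] V) (e.symm (e v)))) = _
        rw [LinearEquiv.symm_apply_apply, LinearEquiv.symm_apply_apply]
      right_inv := fun g => by
        apply Subtype.ext
        apply LinearEquiv.ext
        intro v
        show e (e.symm ((g : W ≃ₗ[F] W) (e (e.symm v)))) = _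
        rw [LinearEquiv.apply_symm_apply, LinearEquiv.apply_symm_apply] }

variable [Fintype F]

/-- the order of `O^-_2m(q)` -/
theorem card_minus {ι : Type} [Fintype ι] [DecidableEq ι] {m : ℕ} (hm : 1 ≤ m) (hι : Fintype.card ι = 2 * m)
    {Q : QuadraticForm F (ι → F)} (hQ : Nondeg Q) (hP : ¬ H955.IsPlus Q) :
    Nat.card (isometryGroup F (⇑Q)) = 2 * Fintype.card F ^ (m * (m - 1)) * (Fintype.card F ^ m + 1) *
      ∏ i ∈ Finset.range (m - 1), (Fintype.card F ^ (2 * (i + 1)) - 1) := by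
  obtain ⟨a, b, hab⟩ := H955.exists_aniso_coeff F
  obtain ⟨k, rfl⟩ : ∃ k, m = k + 1 := ⟨m - 1, by omega⟩
  obtain ⟨e, he⟩ := H955.exists_minus_equiv hab k Q hQ (by rw [Module.finrank_fintype_fun_eq_card, hι]) hP
  rw [← Cfsg.Agent.S0288.result rfl (k + 1) hm a b hab, Nat.card_congr (isometryEquiv Q).toEquiv,
    card_O_congr e he, ← Nat.card_congr (isometryEquiv (minusForm k F a b)).toEquiv, coe_minusForm, Nat.add_sub_cancel]

end minus

section index

variable {F : Type u} [Field F] [Fintype F] {m : ℕ}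

/-- the order of the preimage -/
theorem card_pre (M : Subgroup (PSp m F)) : Nat.card (pre M) * M.index = Nat.card (spGL m F) := by
  have hfin : Finite (GL (Fin m ⊕ Fin m) F) := inferInstance
  have h1 : Nat.card (pre M) =
      Nat.card (M.comap (QuotientGroup.mk' (Subgroup.center (Matrix.symplecticGroup (Fin m) F)))) := by
    unfold pre
    rw [Subgroup.card_map_of_injective spToGL_injective]
  have h2 : Nat.card (spGL m F) = Nat.card (Matrix.symplecticGroup (Fin m) F) := by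
    have h2 : spGL m F = (⊤ : Subgroup (Matrix.symplecticGroup (Fin m) F)).map (spToGL m F) := by
      ext g
      constructor
      · intro hg
        obtain ⟨A, rfl⟩ := exists_spToGL hg
        exact ⟨A, trivial, rfl⟩
      · rintro ⟨A, -, rfl⟩
        exact spToGL_mem A
    rw [h2, Subgroup.card_map_of_injective spToGL_injective, Subgroup.card_top]
  have h3 := Subgroup.index_comap_of_surjective M
    (QuotientGroup.mk'_surjective (Subgroup.center (Matrix.symplecticGroup (Fin m) F)))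
  rw [h1, h2, ← h3, Subgroup.card_mul_index]

theorem dvd_index {M : Subgroup (PSp m F)} {N : Subgroup (GL (Fin m ⊕ Fin m) F)} {A B : ℕ} (hMN : pre M ≤ N)
    (hN : Nat.card N ∣ A) (h : 2 * Nat.card (spGL m F) = A * B) : B ∣ 2 * M.index := by
  have hfin : Finite (GL (Fin m ⊕ Fin m) F) := inferInstance
  obtain ⟨c, hc⟩ := (Subgroup.card_dvd_of_le hMN).trans hN
  have h1 := card_pre M
  have hpos : 0 < Nat.card (pre M) := Nat.card_pos
  refine ⟨c, ?_⟩
  apply Nat.eq_of_mul_eq_mul_left hpos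
  calc Nat.card (pre M) * (2 * M.index) = 2 * (Nat.card (pre M) * M.index) := by ring
    _ = A * B := by rw [h1, h]
    _ = Nat.card (pre M) * (B * c) := by rw [hc]; ring

/-- **Minus type.** -/
theorem ind_minus (hm : 1 ≤ m) {M : Subgroup (PSp m F)} {Q : QuadraticForm F (Fin m ⊕ Fin m → F)} (hQ : Nondeg Q)
    (hP : ¬ H955.IsPlus Q) (hM : pre M ≤ isometryGroup F (⇑Q)) :
    Fintype.card F ^ m * (Fintype.card F ^ m - 1) ∣ 2 * M.index := by
  have hq : 0 < Fintype.card F := Fintype.card_pos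
  have hfin : Finite (GL (Fin m ⊕ Fin m) F) := inferInstance
  refine dvd_index hM dvd_rfl ?_
  rw [card_minus hm card_sum_fin hQ hP, Cfsg.Agent.H955.card_spGL, Nat.card_eq_fintype_card]
  obtain ⟨k, rfl⟩ : ∃ k, m = k + 1 := ⟨m - 1, by omega⟩
  rw [Finset.prod_range_succ, Nat.add_sub_cancel]
  have h1 : Fintype.card F ^ (2 * (k + 1)) - 1 =
      (Fintype.card F ^ (k + 1) + 1) * (Fintype.card F ^ (k + 1) - 1) := by
    rw [mul_comm 2 (k + 1), pow_mul]
    have := Nat.sq_sub_sq (Fintype.card F ^ (k + 1)) 1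
    rwa [one_pow] at this
  have h2 : Fintype.card F ^ ((k + 1) ^ 2) = Fintype.card F ^ ((k + 1) * k) * Fintype.card F ^ (k + 1) := by
    rw [← pow_add]
    congr 1
    ring
  rw [h1, h2]
  ring

end index

section field

open Cfsg.Agent.H813.SaxSp

variable {F : Type u} [Field F] [Fintype F]

local notation "I4" => (Fin 2 ⊕ Fin 2)

variable {K : Subalgebra F (Matrix I4 I4 F)}

theorem stab_diff' (hK : IsFieldSubalgebra 2 K) (hsa : IsSelfAdjointFor (sympForm 2 F) K)
    (halt : ∀ k ∈ K, ∀ v : (I4 → F), (sympForm 2 F) (k *ᵥ v) v = 0) {c : GL I4 F} (hc : c ∈ spGL 2 F)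
    (hcK : ∀ k ∈ K, (c : Matrix I4 I4 F) * k = k * c) {v : I4 → F} (hv : v ≠ 0) (hcv : (c : Matrix I4 I4 F) *ᵥ v = v)
    (u : I4 → F) : ∃ k ∈ K, (c : Matrix I4 I4 F) *ᵥ u = u + k *ᵥ v := by
  by_contra hno
  push Not at hno
  set d := (c : Matrix I4 I4 F) *ᵥ u - u with hd
  have hcu : (c : Matrix I4 I4 F) *ᵥ u = d + u := by rw [hd, sub_add_cancel]
  have hkd : ∀ k ∈ K, sympForm 2 F (k *ᵥ v) d = 0 := by
    intro k hk
    have h1 : (c : Matrix I4 I4 F) *ᵥ (k *ᵥ v) = k *ᵥ v := by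
      rw [Matrix.mulVec_mulVec, hcK k hk, ← Matrix.mulVec_mulVec, hcv]
    have h3 : sympForm 2 F (k *ᵥ v) ((c : Matrix I4 I4 F) *ᵥ u) = sympForm 2 F (k *ᵥ v) u := by
      conv_lhs => rw [← h1]
      exact mem_spGL_iff.1 hc _ _
    rw [hcu, sympForm_add_right] at h3
    exact left_eq_add.1 ((add_comm _ _).trans h3).symm
  apply hv
  apply eq_zero_of_forall_sympForm_left
  intro x
  obtain ⟨k, hk, l, hl, rfl⟩ := surj_two hK hv (w := d) (fun k hk h => hno k hk (by
    rw [h, hd, add_sub_cancel])) x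
  rw [sympForm_swap, sympForm_add_right, ← hsa k hk, halt k hk, ← hsa l hl, hkd l hl, add_zero, neg_zero]

theorem stab_pow {p : ℕ} [CharP F p] (hK : IsFieldSubalgebra 2 K) (hsa : IsSelfAdjointFor (sympForm 2 F) K)
    (halt : ∀ k ∈ K, ∀ v : (I4 → F), (sympForm 2 F) (k *ᵥ v) v = 0) {c : GL I4 F} (hc : c ∈ spGL 2 F)
    (hcK : ∀ k ∈ K, (c : Matrix I4 I4 F) * k = k * c) {v : I4 → F} (hv : v ≠ 0) (hcv : (c : Matrix I4 I4 F) *ᵥ v = v) :
    c ^ p = 1 := by
  have key : ∀ u : I4 → F, ((c ^ p : GL I4 F) : Matrix I4 I4 F) *ᵥ u = u := by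
    intro u
    obtain ⟨k, hk, hku⟩ := stab_diff' hK hsa halt hc hcK hv hcv u
    have h1 : (c : Matrix I4 I4 F) *ᵥ (k *ᵥ v) = k *ᵥ v := by
      rw [Matrix.mulVec_mulVec, hcK k hk, ← Matrix.mulVec_mulVec, hcv]
    have h2 : ∀ n : ℕ, ((c ^ n : GL I4 F) : Matrix I4 I4 F) *ᵥ u = u + (n : F) • (k *ᵥ v) := by
      intro n
      induction n with
      | zero => simp
      | succ n ih =>
        rw [pow_succ', Units.val_mul, ← Matrix.mulVec_mulVec, ih, Matrix.mulVec_add, Matrix.mulVec_smul, h1, hku]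
        push_cast
        rw [add_smul, one_smul]
        abel
    rw [h2, CharP.cast_eq_zero, zero_smul, add_zero]
  apply Units.ext
  apply Matrix.ext_of_mulVec_single
  intro i
  rw [key, Units.val_one, Matrix.one_mulVec]

theorem stab_card' (hK : IsFieldSubalgebra 2 K) (hsa : IsSelfAdjointFor (sympForm 2 F) K)
    (halt : ∀ k ∈ K, ∀ v : (I4 → F), (sympForm 2 F) (k *ᵥ v) v = 0) {R : Subgroup (GL I4 F)} (hR : R ≤ spGL 2 F)
    (hRK : ∀ c ∈ R, ∀ k ∈ K, (c : Matrix I4 I4 F) * k = k * c) {v : I4 → F} (hv : v ≠ 0)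
    (hcv : ∀ c ∈ R, (c : Matrix I4 I4 F) *ᵥ v = v) : Nat.card R ≤ Fintype.card F ^ 2 := by
  have hfin : Finite K := Module.finite_of_finite F
  obtain ⟨w, hw⟩ := exists_not hK v
  rw [← card_K hK]
  have h1 : ∀ c : R, ∃ k : K, ((c : GL I4 F) : Matrix I4 I4 F) *ᵥ w = w + (k : Matrix I4 I4 F) *ᵥ v := by
    intro c
    obtain ⟨k, hk, h⟩ := stab_diff' hK hsa halt (hR c.2) (hRK c c.2) hv (hcv c c.2) w
    exact ⟨⟨k, hk⟩, h⟩
  choose φ hφ using h1
  refine Nat.card_le_card_of_injective φ ?_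
  intro a b hab
  have h2 : ((a : GL I4 F) : Matrix I4 I4 F) *ᵥ w = ((b : GL I4 F) : Matrix I4 I4 F) *ᵥ w := by
    rw [hφ a, hφ b, hab]
  apply Subtype.ext
  apply Units.ext
  apply Matrix.ext_of_mulVec_single
  intro i
  obtain ⟨k, hk, l, hl, h4⟩ := surj_two hK hv hw (Pi.single i 1)
  rw [h4, Matrix.mulVec_add, Matrix.mulVec_add, Matrix.mulVec_mulVec, Matrix.mulVec_mulVec, Matrix.mulVec_mulVec,
    Matrix.mulVec_mulVec, hRK a a.2 k hk, hRK b b.2 k hk, hRK a a.2 l hl, hRK b b.2 l hl, ← Matrix.mulVec_mulVec,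
    ← Matrix.mulVec_mulVec, ← Matrix.mulVec_mulVec, ← Matrix.mulVec_mulVec, hcv a a.2, hcv b b.2, h2]

theorem other_card {p : ℕ} [hpp : Fact p.Prime] [CharP F p] (hK : IsFieldSubalgebra 2 K)
    (hsa : IsSelfAdjointFor (sympForm 2 F) K)
    (halt : ∀ k ∈ K, ∀ v : (I4 → F), (sympForm 2 F) (k *ᵥ v) v = 0) {R : Subgroup (GL I4 F)} (hR : R ≤ spGL 2 F)
    (hRK : ∀ c ∈ R, ∀ k ∈ K, (c : Matrix I4 I4 F) * k = k * c) {r : ℕ} (hr : r.Prime) (hrp : r ≠ p)
    (hRr : IsPGroup r R) : Nat.card R ∣ Fintype.card F ^ 4 - 1 := by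
  classical
  have hrf := Fact.mk hr
  let _ := vact' R
  have hfree : ∀ v : {v : I4 → F // v ≠ 0}, MulAction.stabilizer R v = ⊥ := by
    intro v
    rw [eq_bot_iff]
    intro c hc
    rw [Subgroup.mem_bot]
    have h1 : ((c : GL I4 F) : Matrix I4 I4 F) *ᵥ v.1 = v.1 := congrArg Subtype.val hc
    have h2 := stab_pow (p := p) hK hsa halt (hR c.2) (hRK c c.2) v.2 h1
    have h3 : c ^ p = 1 := Subtype.ext h2
    obtain ⟨k, hk⟩ := IsPGroup.iff_orderOf.1 hRr c
    have h4 := orderOf_dvd_of_pow_eq_one h3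
    rw [hk] at h4
    have h5 : Nat.Coprime (r ^ k) p := Nat.Coprime.pow_left k ((Nat.coprime_primes hr hpp.out).2 hrp)
    have h6 : r ^ k = 1 := Nat.Coprime.eq_one_of_dvd h5 h4
    rw [h6] at hk
    exact orderOf_eq_one_iff.1 hk
  have e := MulAction.selfEquivOrbitsQuotientProd hfree
  have h1 := Nat.card_congr e
  rw [Nat.card_prod] at h1
  have h2 : Nat.card {v : I4 → F // v ≠ 0} = Fintype.card F ^ 4 - 1 := by
    have h3 := Set.ncard_add_ncard_compl ({0} : Set (I4 → F))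
    rw [Set.ncard_singleton, card_V] at h3
    have h4 : Nat.card {v : I4 → F // v ≠ 0} = ({0} : Set (I4 → F))ᶜ.ncard := rfl
    omega
  rw [← h2, h1]
  exact Dvd.intro_left _ rfl

theorem char_card {p : ℕ} [hpp : Fact p.Prime] [CharP F p] (hK : IsFieldSubalgebra 2 K)
    (hsa : IsSelfAdjointFor (sympForm 2 F) K)
    (halt : ∀ k ∈ K, ∀ v : (I4 → F), (sympForm 2 F) (k *ᵥ v) v = 0) {R : Subgroup (GL I4 F)} (hR : R ≤ spGL 2 F)
    (hRK : ∀ c ∈ R, ∀ k ∈ K, (c : Matrix I4 I4 F) * k = k * c)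
    (hRp : IsPGroup p R) : Nat.card R ≤ Fintype.card F ^ 2 := by
  let _ := vact R
  have hmod := hRp.card_modEq_card_fixedPoints (I4 → F)
  obtain ⟨f, -, hf⟩ := FiniteField.card F p
  have h1 : p ∣ Nat.card (I4 → F) := by
    rw [card_V, hf]
    exact dvd_pow (dvd_pow_self p f.pos.ne') (by norm_num)
  have h2 : p ∣ Nat.card (MulAction.fixedPoints R (I4 → F)) := (Nat.ModEq.dvd_iff hmod dvd_rfl).1 h1
  have h0 : (0 : I4 → F) ∈ MulAction.fixedPoints R (I4 → F) := fun g => Matrix.mulVec_zero _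
  have h3 : 1 < Nat.card (MulAction.fixedPoints R (I4 → F)) := by
    have : 0 < Nat.card (MulAction.fixedPoints R (I4 → F)) := by
      have : Nonempty (MulAction.fixedPoints R (I4 → F)) := ⟨⟨0, h0⟩⟩
      exact Nat.card_pos
    have := Nat.le_of_dvd this h2
    have := hpp.out.two_le
    omega
  have h4 := Finite.one_lt_card_iff_nontrivial.1 h3
  obtain ⟨⟨v, hv⟩, hne⟩ := exists_ne (⟨0, h0⟩ : MulAction.fixedPoints R (I4 → F))
  refine stab_card' hK hsa halt hR hRK (v := v) ?_ (fun c hc => hv ⟨c, hc⟩)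
  intro h
  exact hne (Subtype.ext h)

theorem cent_card' (hK : IsFieldSubalgebra 2 K) (hsa : IsSelfAdjointFor (sympForm 2 F) K)
    (halt : ∀ k ∈ K, ∀ v : (I4 → F), (sympForm 2 F) (k *ᵥ v) v = 0) {C : Subgroup (GL I4 F)} (hC : C ≤ spGL 2 F)
    (hCK : ∀ c ∈ C, ∀ k ∈ K, (c : Matrix I4 I4 F) * k = k * c) :
    Nat.card C ∣ Fintype.card F ^ 2 * (Fintype.card F ^ 4 - 1) := by
  obtain ⟨p, hp⟩ := CharP.exists F
  have hpp : Fact p.Prime := ⟨CharP.char_is_prime F p⟩
  obtain ⟨f, -, hf⟩ := FiniteField.card F p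
  rw [Nat.dvd_iff_prime_pow_dvd_dvd]
  intro r k hr hd
  have hrf := Fact.mk hr
  let P : Sylow r C := default
  have h1 : r ^ k ∣ Nat.card (P : Subgroup C) := P.pow_dvd_card_of_pow_dvd_card hd
  have h2 : Nat.card ((P : Subgroup C).map C.subtype) = Nat.card (P : Subgroup C) :=
    Subgroup.card_map_of_injective C.subtype_injective
  have h3 : (P : Subgroup C).map C.subtype ≤ C := Subgroup.map_subtype_le _
  by_cases hr2 : r = p
  · subst hr2
    have h4 := char_card (p := r) hK hsa halt (h3.trans hC) (fun c hc => hCK c (h3 hc)) (P.2.map C.subtype)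
    rw [h2] at h4
    obtain ⟨j, hj⟩ := P.2.exists_card_eq
    have hj' : Nat.card (P : Subgroup C) = r ^ j := hj
    rw [hj'] at h1 h4
    have h5 : r ^ j ∣ Fintype.card F ^ 2 := by
      rw [hf, ← pow_mul] at h4 ⊢
      exact pow_dvd_pow r ((Nat.pow_le_pow_iff_right hr.one_lt).1 h4)
    exact (h1.trans h5).trans (Dvd.intro _ rfl)
  · have h4 := other_card (p := p) hK hsa halt (h3.trans hC) (fun c hc => hCK c (h3 hc)) hr hr2 (P.2.map C.subtype)
    rw [h2] at h4
    exact (h1.trans h4).trans (Dvd.intro_left _ rfl)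

/-- **The order of the normaliser of a quadratic extension field of symplectic type.** -/
theorem card_field' (hK : IsFieldSubalgebra 2 K) (hsa : IsSelfAdjointFor (sympForm 2 F) K)
    (halt : ∀ k ∈ K, ∀ v : (I4 → F), (sympForm 2 F) (k *ᵥ v) v = 0) :
    Nat.card (subalgebraNormalizer K ⊓ spGL 2 F : Subgroup (GL I4 F)) ∣
      2 * Fintype.card F ^ 2 * (Fintype.card F ^ 4 - 1) := by
  classical
  obtain ⟨N, hN⟩ : ∃ N : Subgroup (GL I4 F), N = subalgebraNormalizer K ⊓ spGL 2 F := ⟨_, rfl⟩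
  have hNA : H912.NormAlg N K := fun g hg a ha => (((hN ▸ hg : g ∈ subalgebraNormalizer K ⊓ spGL 2 F).1) a).mp ha
  let _ : Field K := (H912.isField_of_fieldSub hK).toField
  have hfd : Module.Finite F K := inferInstance
  have hKfin : Finite K := Module.finite_of_finite F
  have hgal : IsGalois F K := inferInstance
  let ρ : N →* (K ≃ₐ[F] K) :=
    { toFun := fun g => H912.conjSub hNA g
      map_one' := by
        apply AlgEquiv.ext
        intro x
        apply Subtype.ext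
        rw [H912.conjSub_coe]
        simp
      map_mul' := by
        intro g h
        apply AlgEquiv.ext
        intro x
        apply Subtype.ext
        rw [AlgEquiv.mul_apply, H912.conjSub_coe, H912.conjSub_coe, H912.conjSub_coe]
        simp only [Subgroup.coe_mul, _root_.mul_inv_rev, Units.val_mul, Matrix.mul_assoc] }
  have h1 : Nat.card (K ≃ₐ[F] K) = 2 := by
    rw [IsGalois.card_aut_eq_finrank]
    exact hK.finrank_eq
  have h2 : Nat.card ρ.range ∣ 2 := (Subgroup.card_subgroup_dvd_card ρ.range).trans (dvd_of_eq h1)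
  have h3 : Nat.card ρ.ker ∣ Fintype.card F ^ 2 * (Fintype.card F ^ 4 - 1) := by
    rw [← Subgroup.card_map_of_injective (K := ρ.ker) N.subtype_injective]
    refine cent_card' hK hsa halt ?_ ?_
    · rintro _ ⟨g, -, rfl⟩
      exact (hN ▸ g.2 : (g : GL I4 F) ∈ subalgebraNormalizer K ⊓ spGL 2 F).2
    · rintro _ ⟨g, hg, rfl⟩ k hk
      have h4 : ρ g ⟨k, hk⟩ = ⟨k, hk⟩ := by rw [MonoidHom.mem_ker.1 hg]; rfl
      have h5 : ((g : GL I4 F) : Matrix I4 I4 F) * k * (((g : GL I4 F)⁻¹ : GL I4 F) : Matrix I4 I4 F) = k :=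
        congrArg Subtype.val h4
      show ((g : GL I4 F) : Matrix I4 I4 F) * k = k * ((g : GL I4 F) : Matrix I4 I4 F)
      conv_rhs => rw [← h5]
      rw [Matrix.mul_assoc _ (((g : GL I4 F)⁻¹ : GL I4 F) : Matrix I4 I4 F), ← Units.val_mul, inv_mul_cancel, Units.val_one,
        Matrix.mul_one]
  rw [← hN, ← Subgroup.card_mul_index ρ.ker, Subgroup.index_ker, mul_comm, mul_assoc]
  exact Nat.mul_dvd_mul h2 h3

/-- **Quadratic fields in `Sp_4(q)`.** -/
theorem ind_field {M : Subgroup (PSp 2 F)} (hK : IsFieldSubalgebra 2 K) (hsa : IsSelfAdjointFor (sympForm 2 F) K)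
    (halt : ∀ k ∈ K, ∀ v : (I4 → F), (sympForm 2 F) (k *ᵥ v) v = 0) (hM : pre M ≤ subalgebraNormalizer K) :
    Fintype.card F ^ 2 * (Fintype.card F ^ 2 - 1) ∣ 2 * M.index := by
  refine dvd_index (le_inf hM (pre_le M)) (card_field' hK hsa halt) ?_
  rw [Cfsg.Agent.H955.card_spGL, Nat.card_eq_fintype_card, Finset.prod_range_succ, Finset.prod_range_one]
  have h1 : Fintype.card F ^ (2 ^ 2) = Fintype.card F ^ 2 * Fintype.card F ^ 2 := by
    rw [← pow_add]
    norm_num
  rw [h1]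
  ring_nf

end field

/-- **The special overgroups.** -/
theorem ind_specN {F : Type u} [Field F] [Fintype F] {m : ℕ} (hm : 1 ≤ m) {M : Subgroup (PSp m F)}
    (h : SpecN m F (pre M)) : Fintype.card F ^ m * (Fintype.card F ^ m - 1) ∣ 2 * M.index := by
  rcases h with ⟨-, -, Q, -, h1, h2, -, h3⟩ | ⟨rfl, K, h1, h2, h3, h4⟩
  · exact ind_minus hm h1 h2 h3
  · exact ind_field h1 h2 h3 h4

/-- odd primes dividing `q (q ^ m - 1)` divide the index of the special overgroups -/
theorem dvd_of_specN {F : Type u} [Field F] [Fintype F] {m : ℕ} (hm : 1 ≤ m) {M : Subgroup (PSp m F)}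
    (h : SpecN m F (pre M)) {r : ℕ} (hr : r.Prime) (hr2 : r ≠ 2)
    (hd : r ∣ Fintype.card F ^ m * (Fintype.card F ^ m - 1)) : r ∣ M.index := by
  rcases hr.dvd_mul.1 (hd.trans (ind_specN hm h)) with h1 | h1
  · exact absurd ((Nat.prime_dvd_prime_iff_eq hr Nat.prime_two).1 h1) hr2
  · exact h1

end Cfsg.Agent.H81.CycS
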