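import Cfsg.Agent.H81.CycS

/-!
# Cyclic gaps of the symplectic groups: the geometric classes (CYC-GEO-S; helper81)

* `HitsN H e`  : the primes `r` with `ord_r(q) = e`, prime to the exponent of `q`, divide `|H|`;
* `SpecM m F H` : as `H262.El.Spec`, with a quadratic form of minus type;
* `row_cyc`    : the symplectic row.
-/

set_option autoImplicit false

namespace Cfsg.Agent.H81.CycS

open Cfsg Cfsg.Geo Module
open Cfsg.Agent.H884.El (PP oddE oddE_of_even oddE_of_odd oddE_odd exists_char one_lt_q lin lin_one ord_eq lin_ne_one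
  exists_elt)
open Cfsg.Agent.ClassicalGeometry.SympBasic Cfsg.Agent.H876 Cfsg.Agent.H931 Cfsg.Agent.H262.El
open Cfsg.Agent.H899.CG Cfsg.Agent.H436
open Cfsg.Agent.H951 (fx cm Inv)
open scoped Matrix MatrixGroups

universe u

variable {F : Type u} [Field F] [Fintype F] {m : ℕ}

/-- the order of `H` is divisible by the primes `r` with `ord_r(q) = e`, prime to the exponent of `q`. -/
def HitsN {ι : Type} [Fintype ι] [DecidableEq ι] (H : Subgroup (GL ι F)) (e : ℕ) : Prop :=
  ∀ r, PP (Nat.card F) e r → NDF (Fintype.card F) r → r ∣ Nat.card H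

omit [Field F] in
theorem exists_ppn [Field F] {e : ℕ} (he : 3 ≤ e) (h6 : ¬ (Nat.card F = 2 ∧ e = 6)) :
    ∃ r, PP (Nat.card F) e r ∧ NDF (Fintype.card F) r := by
  rw [Nat.card_eq_fintype_card] at h6 ⊢
  obtain ⟨r, h1, h2⟩ := exists_prim_ndf (Fintype.isPrimePow_card_of_field (α := F)) he h6
  exact ⟨r, pp_of_prim Fintype.card_pos h1, h2⟩

/-- the special overgroups: `O^-_2m(q)` for `m`, `q` even, and `Sp_2(q²).2` in `Sp_4(q)` -/
def SpecM (m : ℕ) (F : Type u) [Field F] [Fintype F] (H : Subgroup (GL (Fin m ⊕ Fin m) F)) : Prop :=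
  (Even m ∧ Even (Fintype.card F) ∧ ∃ Q : QuadraticForm F (Fin m ⊕ Fin m → F), IsNondegenerateQuadraticForm (⇑Q) ∧
    LieClassical.OrthCore.Nondeg Q ∧ ¬ H955.IsPlus Q ∧
    (∀ u v, QuadraticMap.polar (⇑Q) u v = sympForm m F u v) ∧ H ≤ isometryGroup F (⇑Q)) ∨
  (m = 2 ∧ ∃ K : Subalgebra F (Matrix (Fin m ⊕ Fin m) (Fin m ⊕ Fin m) F), IsFieldSubalgebra 2 K ∧
    IsSelfAdjointFor (sympForm m F) K ∧ H ≤ subalgebraNormalizer K)

theorem SpecM.spec {H : Subgroup (GL (Fin m ⊕ Fin m) F)} (h : SpecM m F H) : Spec m F H := by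
  rcases h with ⟨h1, h2, Q, h3, -, -, h4, h5⟩ | h
  · exact Or.inl ⟨h1, h2, Q, h3, h4, h5⟩
  · exact Or.inr h

theorem SpecM.mono {H K : Subgroup (GL (Fin m ⊕ Fin m) F)} (h : SpecM m F K) (hHK : H ≤ K) : SpecM m F H := by
  rcases h with ⟨h1, h2, Q, h3, h6, h7, h4, h5⟩ | ⟨h1, K', h2, h3, h4⟩
  · exact Or.inl ⟨h1, h2, Q, h3, h6, h7, h4, hHK.trans h5⟩
  · exact Or.inr ⟨h1, K', h2, h3, hHK.trans h4⟩

/-- `SpecM`, with the alternating property -/
def SpecN (m : ℕ) (F : Type u) [Field F] [Fintype F] (H : Subgroup (GL (Fin m ⊕ Fin m) F)) : Prop :=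
  (Even m ∧ Even (Fintype.card F) ∧ ∃ Q : QuadraticForm F (Fin m ⊕ Fin m → F), IsNondegenerateQuadraticForm (⇑Q) ∧
    LieClassical.OrthCore.Nondeg Q ∧ ¬ H955.IsPlus Q ∧
    (∀ u v, QuadraticMap.polar (⇑Q) u v = sympForm m F u v) ∧ H ≤ isometryGroup F (⇑Q)) ∨
  (m = 2 ∧ ∃ K : Subalgebra F (Matrix (Fin m ⊕ Fin m) (Fin m ⊕ Fin m) F), IsFieldSubalgebra 2 K ∧
    IsSelfAdjointFor (sympForm m F) K ∧ (∀ k ∈ K, ∀ v : (Fin m ⊕ Fin m → F), sympForm m F (k *ᵥ v) v = 0) ∧
    H ≤ subalgebraNormalizer K)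

theorem SpecN.specM {H : Subgroup (GL (Fin m ⊕ Fin m) F)} (h : SpecN m F H) : SpecM m F H := by
  rcases h with h | ⟨h1, K, h2, h3, -, h4⟩
  · exact Or.inl h
  · exact Or.inr ⟨h1, K, h2, h3, h4⟩

/-- `25` does not divide `|N(R)|`, `R` of type `2^{1+4}`. -/
theorem not_25 {ι : Type} [Fintype ι] [DecidableEq ι] [Nonempty ι] {R : Subgroup (GL ι F)}
    (hR : IsPGroup 2 R) (habs : ActsAbsolutelyIrreducibly (matrixSet R)) (C : H920.Coord R 2 2)
    (hF : ¬ 5 ∣ Nat.card F - 1) : ¬ 25 ∣ Nat.card (subgroupNormalizer R) := by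
  classical
  intro h
  have hfin : Finite (GL ι F) := inferInstance
  have h5 : Fact (Nat.Prime 5) := ⟨by norm_num⟩
  obtain ⟨P, hP⟩ := Sylow.exists_subgroup_card_pow_prime (G := subgroupNormalizer R) 5 (n := 2) h
  have hex : ∀ g : P, ∃ A ∈ Matrix.symplecticGroup (Fin 2) (ZMod 2), C.Ind ((g : subgroupNormalizer R) : GL ι F) A :=
    fun g => C.exists_ind_of_mem (g : subgroupNormalizer R).2
  choose A hA hind using hex
  let φ : P →* Matrix.symplecticGroup (Fin 2) (ZMod 2) := MonoidHom.mk' (fun g => ⟨A g, hA g⟩) (by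
    intro x y
    apply Subtype.ext
    exact (hind (x * y)).unique ((hind x).mul (hind y)))
  have hinj : Function.Injective φ := by
    rw [injective_iff_map_eq_one]
    intro g hg
    have hg1 : A g = 1 := congrArg Subtype.val hg
    have hi := hind g
    rw [hg1] at hi
    obtain ⟨x, hx⟩ := C.mem_of_ind_one habs hi
    have h1 : ((g : subgroupNormalizer R) : GL ι F) ∈ (R ⊔ scalars ι F : Subgroup (GL ι F)) := by
      have h2 := Subgroup.mul_mem_sup x.2 hx
      rwa [mul_inv_cancel_left] at h2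
    have h2 : orderOf ((g : subgroupNormalizer R) : GL ι F) ∣ Nat.card (R ⊔ scalars ι F : Subgroup (GL ι F)) := by
      rw [← Subgroup.orderOf_mk _ h1]
      exact orderOf_dvd_natCard _
    have h3 := h2.trans (H251.GeoCard.card_sup_dvd _ _ fun z hz g => H251.GeoCard.scalars_central hz g)
    rw [Subgroup.orderOf_coe, Subgroup.orderOf_coe] at h3
    have h4 : orderOf g ∣ 5 ^ 2 := by
      rw [← hP]
      exact orderOf_dvd_natCard g
    obtain ⟨j, -, hj⟩ := (Nat.dvd_prime_pow (by norm_num)).1 h4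
    rcases Nat.eq_zero_or_pos j with h0 | h0
    · rw [h0, pow_zero] at hj
      exact orderOf_eq_one_iff.1 hj
    · exfalso
      rw [hj] at h3
      have h5' : 5 ∣ Nat.card R * Nat.card (scalars ι F) := (dvd_pow_self 5 (by omega)).trans h3
      rcases (show Nat.Prime 5 by norm_num).dvd_mul.1 h5' with h6 | h6
      · obtain ⟨a, ha⟩ := (IsPGroup.iff_card).1 hR
        rw [ha] at h6
        have := (show Nat.Prime 5 by norm_num).dvd_of_dvd_pow h6
        omega
      · exact hF (h6.trans H251.GeoCard.card_scalars_dvd)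
  have h1 := Subgroup.card_dvd_of_injective φ hinj
  rw [hP, LieClassical.SympCount.card_symplecticGroup, ZMod.card] at h1
  revert h1
  decide

/-- coordinates of the symplectic type groups of `Sp` -/
theorem exists_coord_symp {k : ℕ} {R : Subgroup (GL (Fin m ⊕ Fin m) F)}
    (habs : ActsAbsolutelyIrreducibly (matrixSet R)) (hR : IsSymplecticTypeGroup 2 R)
    (hk : 1 ≤ k) (hcard : Fintype.card (Fin m ⊕ Fin m) = 2 ^ k) (hm : 1 ≤ m)
    (hZ : Nat.card (Subgroup.center R) = 2) : Nonempty (H920.Coord R 2 k) := by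
  have hfin : Finite (GL (Fin m ⊕ Fin m) F) := inferInstance
  have hne : Nonempty (Fin m ⊕ Fin m) := ⟨Sum.inl ⟨0, by omega⟩⟩
  have hpr := Fact.mk hR.prime
  have hcomm : ∀ x ∈ R, ∀ y ∈ R, x * y * x⁻¹ * y⁻¹ ∈ scalars (Fin m ⊕ Fin m) F := by
    intro x hx y hy
    exact H920.mem_scalars_of_mem_center habs (H921.commutator_mem_center hR (fun h => absurd h (by decide)) ⟨x, hx⟩ ⟨y, hy⟩)
  have hpow : ∀ x ∈ R, x ^ 2 ∈ scalars (Fin m ⊕ Fin m) F := by
    have hexp : Monoid.exponent R = 4 := by rw [hR.exponent_eq]; norm_num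
    have h4 : ∀ q : R, q ^ 4 = 1 := fun q => by rw [← hexp]; exact Monoid.pow_exponent_eq_one q
    have : Nontrivial (Subgroup.center R) := Finite.one_lt_card_iff_nontrivial.1 (by rw [hZ]; norm_num)
    obtain ⟨z, hz⟩ := exists_ne (1 : Subgroup.center R)
    have hz2 : orderOf z = 2 := by
      have h1 : orderOf z ∣ 2 := by rw [← hZ]; exact orderOf_dvd_natCard z
      rcases (Nat.dvd_prime Nat.prime_two).1 h1 with h2 | h2
      · exact absurd (orderOf_eq_one_iff.1 h2) hz
      · exact h2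
    have hz2' : orderOf (z : R) = 2 := by rw [Subgroup.orderOf_coe, hz2]
    intro x hx
    have hst := (Cfsg.Agent.ClassificationK.SymplecticExpFour.structure_exp_four
      ⟨hR.pGroup, hR.cyclic_of_characteristic⟩ h4 hz2' z.2).2.1 ⟨x, hx⟩
    rcases hst with h | h
    · have h5 : x ^ 2 = 1 := congrArg Subtype.val h
      rw [h5]; exact Subgroup.one_mem _
    · have h5 : x ^ 2 = ((z : R) : GL (Fin m ⊕ Fin m) F) := congrArg Subtype.val h
      rw [h5]; exact H920.mem_scalars_of_mem_center habs z.2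
  exact H920.exists_coord habs hcomm hR.prime hk hpow hcard

/-- odd prime divisors of `q ^ 2 + 1` -/
theorem pp_four {q t : ℕ} (ht : t.Prime) (ht2 : t ≠ 2) (hd : t ∣ q ^ 2 + 1) : PP q 4 t := by
  refine ⟨ht, ?_⟩
  have := Fact.mk ht
  have h1 : (q : ZMod t) ^ 2 = -1 := by
    have h2 : ((q ^ 2 + 1 : ℕ) : ZMod t) = 0 := (ZMod.natCast_eq_zero_iff _ _).2 hd
    push_cast at h2
    exact eq_neg_of_add_eq_zero_left h2
  have hne : (-1 : ZMod t) ≠ 1 := by
    intro h
    have h2 : ((2 : ℕ) : ZMod t) = 0 := by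
      push_cast
      have : (1 : ZMod t) + 1 = 0 := by
        nth_rw 1 [← h]
        ring
      rw [← this]; norm_num
    rw [ZMod.natCast_eq_zero_iff] at h2
    exact ht2 ((Nat.prime_dvd_prime_iff_eq ht Nat.prime_two).1 h2)
  have h3 := orderOf_eq_prime_pow (x := (q : ZMod t)) (p := 2) (n := 1) (by rw [pow_one, h1]; exact hne) (by
    rw [show 2 ^ (1 + 1) = 2 * 2 by norm_num, pow_mul, h1]
    ring)
  rw [h3]
  norm_num

/-- `q ^ 2 + 1` for `q` odd, all odd prime divisors equal to `5` -/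
theorem dvd_25 {q : ℕ} (hq : Odd q) (h1 : 1 < q) (h3 : q ≠ 3) (h : ∀ t, t.Prime → t ≠ 2 → t ∣ q ^ 2 + 1 → t = 5) :
    25 ∣ q ^ 2 + 1 := by
  obtain ⟨k, rfl⟩ := hq
  set c := 2 * k * (k + 1) + 1 with hc
  have hqc : (2 * k + 1) ^ 2 + 1 = 2 * c := by rw [hc]; ring
  have hc2 : ¬ 2 ∣ c := by
    rw [hc, mul_assoc]
    omega
  have hcp : ∀ t, t.Prime → t ∣ c → t = 5 := by
    intro t ht htc
    refine h t ht ?_ (by rw [hqc]; exact htc.mul_left 2)
    rintro rfl
    exact hc2 htc
  have hk : 2 ≤ k := by omega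
  have hc5 : 5 < c := by
    rw [hc]; nlinarith
  obtain ⟨t, ht, htc⟩ := Nat.exists_prime_and_dvd (n := c) (by omega)
  obtain rfl := hcp t ht htc
  obtain ⟨d, hd⟩ := htc
  obtain ⟨s, hs, hsd⟩ := Nat.exists_prime_and_dvd (n := d) (by omega)
  obtain rfl := hcp s hs (by rw [hd]; exact hsd.mul_left 5)
  obtain ⟨a, ha⟩ := hsd
  rw [hqc, hd, ha]
  exact ⟨2 * a, by ring⟩

/-- **The symplectic row, cyclic primes.** -/
theorem row_cyc (hm : 2 ≤ m) (h22 : ¬ (m = 2 ∧ Fintype.card F = 2)) (h32 : ¬ (m = 3 ∧ Fintype.card F = 2))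
    (h23 : ¬ (m = 2 ∧ Fintype.card F = 3))
    {H M : Subgroup (GL (Fin m ⊕ Fin m) F)} (hM : InSymplecticClass m F M) (hHM : H ≤ M)
    (h1 : HitsN H (2 * m)) (h2 : 3 ≤ m → HitsN H (2 * m - 2)) (h3 : 3 ≤ m → HitsN H (oddE m))
    (h25 : m = 2 → (Fintype.card F).Prime → 25 ∣ Nat.card F ^ 2 + 1 → 25 ∣ Nat.card H) : SpecN m F H := by
  have hq := one_lt_q F
  obtain ⟨p, f, hp, hf, hpF⟩ := exists_char F
  have hpF' : Fintype.card F = p ^ f := by rw [← hpF, Nat.card_eq_fintype_card]
  have hι : Fintype.card (Fin m ⊕ Fin m) = 2 * m := card_sum_fin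
  have hne : Nonempty (Fin m ⊕ Fin m) := ⟨Sum.inl ⟨0, by omega⟩⟩
  obtain ⟨r, hr⟩ := Cfsg.Agent.H163.PG.exists_ppd (p := p) (f := f) (k := 2 * m) hp.two_le
    (by nlinarith) (by
      rintro ⟨h2, h6⟩
      apply h32
      have h3 : f * m = 3 := by
        have : f * (2 * m) = 2 * (f * m) := by ring
        omega
      have h4 : m ∣ 3 := Dvd.intro_left f h3
      have h5 : m = 3 := by
        rcases (Nat.dvd_prime Nat.prime_three).1 h4 with h | h
        · omega
        · exact h
      have h6 : f = 1 := by subst h5; omega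
      exact ⟨h5, by rw [hpF', h2, h6, pow_one]⟩)
  have hod : Od (Fintype.card F) (2 * m) r := by
    rw [hpF']
    exact Od.of_ppd hp hf (by omega) hr
  have hrq : PP (Nat.card F) (2 * m) r := pp_of_od hod
  have hrn : NDF (Fintype.card F) r := by
    rw [hpF']
    refine ndf_of_lt hp hf ?_
    have h4 := hr.lt
    have h5 : f * 1 ≤ f * (2 * m) := Nat.mul_le_mul_left f (by omega)
    omega
  have hrH := h1 r hrq hrn
  obtain ⟨k1, k2, k5, k7⟩ := not_le_of_irr hm hp hf hpF' hr hrH
  obtain ⟨g, hgH, hgr, hg1⟩ : ∃ g ∈ H, g ^ r = 1 ∧ g ≠ 1 := by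
    have := Fact.mk hod.prime
    have hfin : Finite (GL (Fin m ⊕ Fin m) F) := inferInstance
    obtain ⟨g, hg⟩ := exists_prime_orderOf_dvd_card' r hrH
    refine ⟨g, g.2, ?_, ?_⟩
    · rw [← Subgroup.coe_pow, ← hg, pow_orderOf_eq_one]; rfl
    · intro h1
      have hg2 : g = 1 := Subtype.ext h1
      rw [hg2, orderOf_one] at hg
      exact hod.prime.one_lt.ne hg
  -- quadratic fields, `m ≥ 3`
  have kfield : ∀ (s : ℕ) (K : Subalgebra F (Matrix (Fin m ⊕ Fin m) (Fin m ⊕ Fin m) F)), s.Prime →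
      IsFieldSubalgebra s K → H ≤ subalgebraNormalizer K → H ≤ spGL m F → m = 2 ∧ s = 2 := by
    intro s K hs hK hHK hHI
    have hsn : s ∣ 2 * m := by
      let _ : Field K := (H912.isField_of_fieldSub hK).toField
      have h5 := Module.finrank_mul_finrank F K (Fin m ⊕ Fin m → F)
      rw [hK.finrank_eq, Module.finrank_fintype_fun_eq_card, hι] at h5
      exact Dvd.intro _ h5
    by_cases hm2 : m = 2
    · refine ⟨hm2, ?_⟩
      rw [hm2] at hsn
      have : s ∣ 2 ^ 2 := by norm_num; exact hsn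
      exact (Nat.prime_dvd_prime_iff_eq hs Nat.prime_two).1 (hs.dvd_of_dvd_pow this)
    · exfalso
      have hm3 : 3 ≤ m := by omega
      have hs2 : s = 2 := by
        by_cases hexc : Nat.card F = 2 ∧ 2 * m - 2 = 6
        · have hm4 : m = 4 := by omega
          rw [hm4] at hsn
          have : s ∣ 2 ^ 3 := by norm_num; exact hsn
          exact (Nat.prime_dvd_prime_iff_eq hs Nat.prime_two).1 (hs.dvd_of_dvd_pow this)
        · obtain ⟨r₁, hr₁, hn₁⟩ := exists_ppn (F := F) (e := 2 * m - 2) (by omega) hexc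
          have h5 := H884.El.ext_cases hs hK hHK (by rw [hι]; exact hsn) hr₁ (by rw [hι]; omega) (h2 hm3 _ hr₁ hn₁)
          exact H884.El.eq_two (by omega) hs hsn (hr₁.lt (by omega)) h5
      subst hs2
      have ho3 := oddE_odd (m := m) (by omega)
      have he33 : 3 ≤ oddE m := by
        rcases Nat.even_or_odd m with he | ho
        · rw [oddE_of_even he]
          obtain ⟨k, hk⟩ := he
          omega
        · rw [oddE_of_odd ho]; exact hm3
      have he3n : 2 * m < 4 * oddE m := by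
        rcases Nat.even_or_odd m with he | ho
        · rw [oddE_of_even he]; omega
        · rw [oddE_of_odd ho]; omega
      obtain ⟨r₃, hr₃, hn₃⟩ := exists_ppn (F := F) (e := oddE m) he33 (by
        rintro ⟨-, h⟩
        rw [h] at ho3
        exact absurd ho3 (by decide))
      have hfin : Finite (GL (Fin m ⊕ Fin m) F) := inferInstance
      have := Fact.mk hr₃.prime
      obtain ⟨z, hz⟩ := exists_prime_orderOf_dvd_card' r₃ (h3 hm3 _ hr₃ hn₃)
      refine no_quadratic_symp (g := (z : GL (Fin m ⊕ Fin m) F)) (hHI z.2) hr₃ ho3 he33 he3n ?_ ?_ hK (hHK z.2)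
      · rw [← Subgroup.coe_pow, ← hz, pow_orderOf_eq_one]; rfl
      · intro h1
        have hg2 : z = 1 := Subtype.ext h1
        rw [hg2, orderOf_one] at hz
        exact hr₃.prime.one_lt.ne hz
  rcases hM with hM | hM | hM | hM | hM
  · rcases hM with hM | hM | hM | hM | hM | hM | hM
    · obtain ⟨W, hW0, hW, rfl⟩ := hM
      exact absurd (hHM.trans inf_le_left) (k1 W hW0 (totallySingular_ne_top (by omega) hW))
    · obtain ⟨W, hW0, hW, hW2, rfl⟩ := hM
      refine absurd (hHM.trans inf_le_left) (k1 W hW0 ?_)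
      rintro rfl
      rw [finrank_top, Module.finrank_fintype_fun_eq_card, hι] at hW2
      omega
    · obtain ⟨t, k, D, hD, rfl⟩ := hM
      exact absurd (hHM.trans inf_le_left) (k2 t k D hD.decomp)
    · obtain ⟨D, -, hD, -, rfl⟩ := hM
      exact absurd (hHM.trans inf_le_left) (k2 2 m D hD)
    · obtain ⟨F₀, s, P, ζ, hs, hcard, -, -, rfl⟩ := hM
      exact absurd (hHM.trans inf_le_left) (k5 F₀ s P hs hcard)
    · obtain ⟨R, p', k, hR, habs, -, hp', hodd, hFp, hRc, hZ, -, rfl⟩ := hM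
      exfalso
      have hfin : Finite (GL (Fin m ⊕ Fin m) F) := inferInstance
      have hcard := Cfsg.Agent.H921.card_eq_pow_of_center_prime hR habs hZ hRc
      have hk : 1 ≤ k := by
        rcases Nat.eq_zero_or_pos k with h | h
        · rw [h, pow_zero, hι] at hcard
          omega
        · exact h
      have hHR : H ≤ subgroupNormalizer R := hHM.trans inf_le_left
      have hsp : ∀ {t : ℕ}, t.Prime → t ∣ Nat.card H → t = 2 ∨ t ∣ Nat.card F - 1 ∨ t ≤ 2 ^ k + 1 := fun ht hd =>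
        symp_prime (by omega) hHR habs hR hk hcard hZ ht hd
      have hpp : ∀ {e t : ℕ}, 2 ≤ e → PP (Nat.card F) e t → t ∣ Nat.card H → t ≤ 2 * m + 1 := by
        intro e t he ht hd
        have hlt := ht.lt (by omega)
        rcases hsp ht.prime hd with h | h | h
        · omega
        · have h5 : t ∣ Nat.card F ^ 1 - 1 := by rwa [pow_one]
          rw [ht.dvd_iff (by omega)] at h5
          have := Nat.le_of_dvd one_pos h5
          omega
        · rwa [← hcard, hι] at h
      have hF2 : Nat.card F ≠ 2 := by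
        rw [Nat.card_eq_fintype_card, hFp]
        rintro rfl
        exact absurd hodd (by decide)
      by_cases hm2 : m = 2
      · subst hm2
        have hk2 : k = 2 := by
          rw [hι] at hcard
          exact (Nat.pow_right_injective (le_refl 2) (show 2 ^ 2 = 2 ^ k from hcard)).symm
        subst hk2
        have hFq : Nat.card F = p' := by rw [Nat.card_eq_fintype_card, hFp]
        have hq2 : Odd (Nat.card F) := hFq ▸ hodd
        have hndf : ∀ t : ℕ, 4 < t → NDF (Fintype.card F) t := fun t ht => by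
          have h5 := ndf_of_lt (u := t) hp' (le_refl 1) (by omega)
          rwa [pow_one, ← hFp] at h5
        have hq25 : 25 ∣ Nat.card F ^ 2 + 1 := by
          refine dvd_25 hq2 hq (fun h => h23 ⟨rfl, by rw [← Nat.card_eq_fintype_card]; exact h⟩) fun t ht ht2 htd => ?_
          have ht4 := pp_four ht ht2 htd
          have hlt := ht4.lt (by norm_num)
          have h5 := hpp (by norm_num) ht4 (h1 t ht4 (hndf t hlt))
          omega
        obtain ⟨C⟩ := exists_coord_symp habs hR (by norm_num) hcard (by norm_num) hZ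
        refine not_25 hR.pGroup habs C ?_ ((h25 rfl (by rw [hFp]; exact hp') hq25).trans
          (Subgroup.card_dvd_of_le hHR))
        intro h5
        have h6 : PP (Nat.card F) 4 5 := pp_four (by norm_num) (by norm_num) ((by norm_num : 5 ∣ 25).trans hq25)
        have h7 := (h6.dvd_iff (by omega) 1).1 (by rwa [pow_one])
        have := Nat.le_of_dvd one_pos h7
        omega
      · have hm3 : 3 ≤ m := by omega
        have hme : Even m := by
          rw [hι] at hcard
          match k, hcard with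
          | 0, h => rw [pow_zero] at h; omega
          | 1, h => omega
          | k + 2, h =>
            rw [pow_succ, pow_succ] at h
            exact ⟨2 ^ k, by omega⟩
        have hm4 : 4 ≤ m := by
          obtain ⟨c, hc⟩ := hme
          omega
        obtain ⟨r₁, hr₁, hn₁⟩ := exists_ppn (F := F) (e := 2 * m - 2) (by omega) (fun h => hF2 h.1)
        obtain ⟨r₃, hr₃, hn₃⟩ := exists_ppn (F := F) (e := m - 1) (by omega) (fun h => hF2 h.1)
        have h5 := hpp (by omega) hr₁ (h2 hm3 _ hr₁ hn₁)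
        have h6 := hpp (by omega) hr₃ (by
          have := h3 hm3
          rw [oddE_of_even hme] at this
          exact this _ hr₃ hn₃)
        exact H884.El.false_of_even hm4 hme hr₁ hr₃ (by omega) (by omega)
    · obtain ⟨Q, hodd, hQ, hpol, rfl⟩ := hM
      have hHQ : H ≤ isometryGroup F Q := fun h hh =>
        mem_isometry (by omega) hpol (hHM hh).1 (hHM hh).2
      obtain ⟨Q', hQ', hnd⟩ := Cfsg.Agent.H883.Bridge.exists_quadraticForm hQ
      have hfin : finrank F (Fin m ⊕ Fin m → F) = 2 * m := by rw [Module.finrank_fintype_fun_eq_card, hι]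
      rw [← hQ'] at hHQ
      obtain ⟨x, hxH, hiso, -, hx1⟩ := exists_elt hHQ hrq (by omega) hrH
      obtain ⟨hcm, hcmP⟩ := hiso.even_case hnd (H884.El.lin_ne_one hx1) hrq (even_two_mul m) (by omega)
      have e1 : H951.cm (lin x) = ⊤ := Submodule.eq_top_of_finrank_eq (by rw [hcm, hfin])
      rw [e1] at hcmP
      by_cases hme : Even m
      · exact Or.inl ⟨hme, Nat.not_odd_iff_even.1 hodd, Q', hQ' ▸ hQ, hnd,
          fun hP => hcmP ((H955.isPlus_iff_of_equiv Submodule.topEquiv fun _ => rfl).2 hP), fun u v => by rw [hQ']; exact hpol u v, hHQ⟩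
      exfalso
      have hmo : Odd m := Nat.not_even_iff_odd.1 hme
      have hm3 : 3 ≤ m := by
        obtain ⟨k, hk⟩ := hmo
        omega
      obtain ⟨r₃, hr₃, hn₃⟩ := exists_ppn (F := F) (e := m) hm3 (by
        rintro ⟨-, h⟩
        rw [h] at hmo
        exact absurd hmo (by decide))
      have h3' := h3 hm3
      rw [oddE_of_odd hmo] at h3'
      obtain ⟨z, hzH, hziso, -, hz1⟩ := exists_elt hHQ hr₃ (by omega) (h3' _ hr₃ hn₃)
      obtain ⟨hzcm, hzP, -⟩ := hziso.odd_case hnd (H884.El.lin_ne_one hz1) hr₃ hmo (by omega)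
      have e2 : H951.cm (lin z) = ⊤ := Submodule.eq_top_of_finrank_eq (by rw [hzcm, hfin])
      rw [e2] at hzP
      exact hcmP hzP
  · obtain ⟨s, K, hs, hK, hsa, halt, rfl⟩ := hM
    obtain ⟨hm2, rfl⟩ := kfield s K hs hK (hHM.trans inf_le_left) (hHM.trans inf_le_right)
    exact Or.inr ⟨hm2, K, hK, hsa, halt, hHM.trans inf_le_left⟩
  · obtain ⟨K, -, hK, -, hnsa, rfl⟩ := hM
    exfalso
    obtain ⟨hm2, -⟩ := kfield 2 K Nat.prime_two hK (hHM.trans inf_le_left) (hHM.trans inf_le_right)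
    exact hnsa (selfAdjoint_of_irr (by rw [hm2]; decide) (by omega) (hHM hgH).2 hrq hgr hg1 hK (hHM hgH).1)
  · obtain ⟨n₁, n₂, e, P, f₁, f₂, -, hn2, hf₁, -, -, rfl⟩ := hM
    exfalso
    have hc := Fintype.card_congr e
    rw [hι, Fintype.card_prod, Fintype.card_fin, Fintype.card_fin] at hc
    refine H884.El.kill_tensor e P (hHM.trans inf_le_left) (two_le_of_symp hf₁ ?_) (by omega) (by rw [hι, hc]) hrq
      (by rw [hι]; omega) hrH
    rintro rfl
    rw [zero_mul] at hc
    omega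
  · obtain ⟨k, t, e, P, f₁, -, -, ht, -, hf₁, -, rfl⟩ := hM
    refine absurd (hHM.trans inf_le_left) (k7 k t e P (two_le_of_symp hf₁ ?_) (by omega))
    rintro rfl
    have h1 := Fintype.card_congr e
    rw [hι, Fintype.card_fun, Fintype.card_fin, Fintype.card_fin, zero_pow (by omega)] at h1
    omega

/-! ### `PSp` -/

theorem hitsN_of {F : Type} [Field F] [Fintype F] {m : ℕ} {M : Subgroup (PSp m F)} (hM : ¬ IGap (PSp m F) M) {e : ℕ}
    (he : 3 ≤ e) (h : (Even e ∧ e ≤ 2 * m ∧ m < e) ∨ (Odd e ∧ e ≤ m ∧ m < 2 * e)) : HitsN (pre M) e :=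
  fun _ hr hn => (dvd_of_not_iGap hM (cyc_psp' he h hr hn)).trans (card_pre_eq M)

/-- **Cyclic gaps, symplectic groups**, with the alternating property. -/
theorem igap_pspN {F : Type} [Field F] [Fintype F] {m : ℕ} (hm : 2 ≤ m) (h22 : ¬ (m = 2 ∧ Fintype.card F = 2))
    (h32 : ¬ (m = 3 ∧ Fintype.card F = 2)) (h23 : ¬ (m = 2 ∧ Fintype.card F = 3)) {M : Subgroup (PSp m F)}
    (hMT : M ≠ ⊤) : IGap (PSp m F) M ∨ InSymplecticResidualClass (pre M) ∨ SpecN m F (pre M) := by
  by_cases hM : IGap (PSp m F) M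
  · exact Or.inl hM
  right
  rcases Cfsg.Agent.S5662.result m hm h22 (pre M) (pre_le M) (by
    rw [sup_eq_left.2 (scalars_le_pre M)]
    exact pre_ne hMT) with ⟨K, hK, hle⟩ | h
  · right
    refine row_cyc hm h22 h32 h23 hK hle (hitsN_of hM (by omega) (Or.inl ⟨even_two_mul m, le_rfl, by omega⟩))
      (fun h3 => hitsN_of hM (by omega) (Or.inl ⟨⟨m - 1, by omega⟩, by omega, by omega⟩))
      (fun h3 => ?_) (fun hm2 hp h25 => ?_)
    · rcases Nat.even_or_odd m with he | ho
      · rw [oddE_of_even he]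
        obtain ⟨k, hk⟩ := he
        exact hitsN_of hM (by omega) (Or.inr ⟨⟨k - 1, by omega⟩, by omega, by omega⟩)
      · rw [oddE_of_odd ho]
        exact hitsN_of hM h3 (Or.inr ⟨ho, le_rfl, by omega⟩)
    · subst hm2
      have h5 : PP (Nat.card F) 4 5 :=
        pp_four (by norm_num) (by norm_num) ((by norm_num : 5 ∣ 25).trans h25)
      have hn : NDF (Fintype.card F) 5 := by
        have h6 := ndf_of_lt (u := 5) hp (le_refl 1) (by omega)
        rwa [pow_one] at h6
      have hcyc : Cyc (PSp 2 F) 5 := cyc_psp' (by norm_num) (Or.inl ⟨by decide, by norm_num, by norm_num⟩) h5 hn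
      refine (pow_dvd_of_not_iGap hM hcyc (k := 2) ?_).trans (card_pre_eq M)
      have h6 : 5 ^ 2 ∣ Nat.card (Matrix.symplecticGroup (Fin 2) F) := by
        rw [LieClassical.SympCount.card_symplecticGroup]
        refine Dvd.dvd.mul_left ?_ _
        refine dvd_trans ?_ (Finset.dvd_prod_of_mem _ (Finset.mem_range.2 (by norm_num : 1 < 2)))
        have h7 : Fintype.card F ^ (2 * (1 + 1)) - 1 = (Fintype.card F ^ 2 + 1) * (Fintype.card F ^ 2 - 1) := by
          rw [show 2 * (1 + 1) = 2 * 2 by norm_num, pow_mul]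
          have := Nat.sq_sub_sq (Fintype.card F ^ 2) 1
          rwa [one_pow] at this
        rw [h7]
        rw [Nat.card_eq_fintype_card] at h25
        exact h25.mul_right _
      rw [Subgroup.card_eq_card_quotient_mul_card_subgroup
        (Subgroup.center (Matrix.symplecticGroup (Fin 2) F)),
        Cfsg.Agent.S0246.result (q := Fintype.card F) rfl 2 (by norm_num)] at h6
      refine Nat.Coprime.dvd_of_dvd_mul_right ?_ h6
      have h8 : Nat.gcd 2 (Fintype.card F - 1) = 1 ∨ Nat.gcd 2 (Fintype.card F - 1) = 2 :=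
        (Nat.dvd_prime Nat.prime_two).1 (Nat.gcd_dvd_left _ _)
      rcases h8 with h8 | h8 <;> rw [h8] <;> norm_num
  · exact Or.inl h

/-- **Cyclic gaps, symplectic groups.** A proper subgroup `M` of `PSp_2m(q)`, `(m, q) ≠ (2, 2), (3, 2), (2, 3)`:
some cyclic prime of `PSp_2m(q)` divides the index of `M`, or the preimage of `M` is in the residual class, or it
fixes a quadratic form of minus type (`m`, `q` even), or it normalises a self-adjoint quadratic field (`m = 2`). -/
theorem igap_psp {F : Type} [Field F] [Fintype F] {m : ℕ} (hm : 2 ≤ m) (h22 : ¬ (m = 2 ∧ Fintype.card F = 2))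
    (h32 : ¬ (m = 3 ∧ Fintype.card F = 2)) (h23 : ¬ (m = 2 ∧ Fintype.card F = 3)) {M : Subgroup (PSp m F)}
    (hMT : M ≠ ⊤) : IGap (PSp m F) M ∨ InSymplecticResidualClass (pre M) ∨ SpecM m F (pre M) := by
  rcases igap_pspN hm h22 h32 h23 hMT with h | h | h
  · exact Or.inl h
  · exact Or.inr (Or.inl h)
  · exact Or.inr (Or.inr h.specM)

/-- **`m ≥ 3`.** -/
theorem igap_psp_three {F : Type} [Field F] [Fintype F] {m : ℕ} (hm : 3 ≤ m) (h32 : ¬ (m = 3 ∧ Fintype.card F = 2))
    {M : Subgroup (PSp m F)} (hMT : M ≠ ⊤) :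
    IGap (PSp m F) M ∨ InSymplecticResidualClass (pre M) ∨
      (Even m ∧ Even (Fintype.card F) ∧ ∃ Q : QuadraticForm F (Fin m ⊕ Fin m → F),
        IsNondegenerateQuadraticForm (⇑Q) ∧ LieClassical.OrthCore.Nondeg Q ∧ ¬ H955.IsPlus Q ∧
        (∀ u v, QuadraticMap.polar (⇑Q) u v = sympForm m F u v) ∧ pre M ≤ isometryGroup F (⇑Q)) := by
  rcases igap_psp (by omega) (fun h => by omega) h32 (fun h => by omega) hMT with h | h | h | h
  · exact Or.inl h
  · exact Or.inr (Or.inl h)
  · exact Or.inr (Or.inr h)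
  · exact absurd h.1 (by omega)

/-- **`m = 2`.** -/
theorem igap_psp_two {F : Type} [Field F] [Fintype F] (hF : 4 ≤ Fintype.card F) {M : Subgroup (PSp 2 F)}
    (hMT : M ≠ ⊤) : IGap (PSp 2 F) M ∨ InSymplecticResidualClass (pre M) ∨ SpecM 2 F (pre M) :=
  igap_psp le_rfl (fun h => by omega) (fun h => by omega) (fun h => by omega) hMT

end Cfsg.Agent.H81.CycS
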