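import Cfsg.Agent.H262.ElSympPSp
import Cfsg.Agent.H198.SympGamma
import Cfsg.Agent.H938.Sax.Base
import Cfsg.Agent.H637.OrthBasic
import Cfsg.Agent.S0789
import Cfsg.Agent.S0297
import Cfsg.Agent.LieClassical.OmegaReindex
import Cfsg.Agent.LieClassical.OrthCenter

/-!
# SAX-SP8E: orthogonal subgroups of minus type of `PSp_2m(q)`, `q` and `m` even, miss an automorphism class
-/

set_option autoImplicit false

namespace Cfsg.Agent.H81.SaxSp

open Cfsg Cfsg.Geo Module Cfsg.Agent.H396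
open Cfsg.Agent.ClassicalGeometry.SympBasic Cfsg.Agent.H876 Cfsg.Agent.H931 Cfsg.Agent.H262.El
open Cfsg.Agent.H198.SemiMat Cfsg.Agent.H198.SympGamma
open scoped Matrix MatrixGroups

universe u

variable {F : Type u} [Field F] {m : ℕ}

/-- an automorphism of `PSp m F` on the class of `A` -/
theorem aut_apply [Finite F] (hm : 3 ≤ m) (φ : MulAut (PSp m F)) (A : Matrix.symplecticGroup (Fin m) F) :
    ∃ (B : GL (Fin m ⊕ Fin m) F) (σ : F ≃+* F) (C : Matrix.symplecticGroup (Fin m) F),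
      φ (QuotientGroup.mk A) = QuotientGroup.mk C ∧
      spToGL m F C = B * Matrix.GeneralLinearGroup.map (σ : F →+* F) (spToGL m F A) * B⁻¹ := by
  obtain ⟨B, σ, hB, h⟩ := exists_pair (by omega) (Or.inl hm) φ
  obtain ⟨N, hN⟩ : ∃ N : Matrix (Fin m ⊕ Fin m) (Fin m ⊕ Fin m) F, N = (B : Matrix _ _ F) *
    (A : Matrix (Fin m ⊕ Fin m) (Fin m ⊕ Fin m) F).map σ * ((B⁻¹ : GL (Fin m ⊕ Fin m) F) : Matrix _ _ F) := ⟨_, rfl⟩
  have hN' := fun v => conj_mulVec hN v
  have hsurj : ∀ w : Fin m ⊕ Fin m → F, ∃ v : Fin m ⊕ Fin m → F, w =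
      (B : Matrix (Fin m ⊕ Fin m) (Fin m ⊕ Fin m) F) *ᵥ fun i => σ (v i) := by
    intro w
    refine ⟨fun i => σ.symm ((((B⁻¹ : GL (Fin m ⊕ Fin m) F) : Matrix (Fin m ⊕ Fin m) (Fin m ⊕ Fin m) F) *ᵥ w) i), ?_⟩
    have h1 : (fun i => σ (σ.symm ((((B⁻¹ : GL (Fin m ⊕ Fin m) F) : Matrix (Fin m ⊕ Fin m) (Fin m ⊕ Fin m) F) *ᵥ w) i))) =
        ((B⁻¹ : GL (Fin m ⊕ Fin m) F) : Matrix (Fin m ⊕ Fin m) (Fin m ⊕ Fin m) F) *ᵥ w := by
      funext i
      simp
    rw [h1, Matrix.mulVec_mulVec, ← Units.val_mul, mul_inv_cancel, Units.val_one, Matrix.one_mulVec]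
  obtain ⟨c, hc⟩ := hB
  have hNs : N ∈ Matrix.symplecticGroup (Fin m) F := by
    rw [mem_symplecticGroup_iff]
    intro u v
    obtain ⟨u, rfl⟩ := hsurj u
    obtain ⟨v, rfl⟩ := hsurj v
    rw [hN', hN', hc, hc, sympForm_map, sympForm_map, mem_symplecticGroup_iff.1 A.2]
  exact ⟨B, σ, ⟨N, hNs⟩, h A ⟨N, hNs⟩ hN, Units.ext hN⟩

theorem fix_map {ι : Type} [Fintype ι] [DecidableEq ι] {B A : GL ι F} {σ : F ≃+* F}
    (hA : ∀ v, (A : Matrix ι ι F) *ᵥ v = v → v = 0) (v : ι → F)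
    (hv : ((B * Matrix.GeneralLinearGroup.map (σ : F →+* F) A * B⁻¹ : GL ι F) : Matrix ι ι F) *ᵥ v = v) : v = 0 := by
  rw [Units.val_mul, ← Matrix.mulVec_mulVec, Units.val_mul, ← Matrix.mulVec_mulVec] at hv
  obtain ⟨w, hw⟩ : ∃ w, w = ((B⁻¹ : GL ι F) : Matrix ι ι F) *ᵥ v := ⟨_, rfl⟩
  rw [← hw] at hv
  have h1 : ((Matrix.GeneralLinearGroup.map (σ : F →+* F) A : GL ι F) : Matrix ι ι F) *ᵥ w = w := by
    have h0 := congrArg (fun u => ((B⁻¹ : GL ι F) : Matrix ι ι F) *ᵥ u) hv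
    rwa [Matrix.mulVec_mulVec, ← Units.val_mul, inv_mul_cancel, Units.val_one, Matrix.one_mulVec, ← hw] at h0
  have h2 : w = fun i => σ (σ.symm (w i)) := by
    funext i
    simp
  have h3 : (A : Matrix ι ι F) *ᵥ (fun i => σ.symm (w i)) = fun i => σ.symm (w i) := by
    have h4 := map_mulVec σ (A : Matrix ι ι F) (fun i => σ.symm (w i))
    rw [← h2] at h4
    have h5 : (A : Matrix ι ι F).map σ *ᵥ w = w := h1
    rw [h5] at h4
    funext i
    have h6 := congrFun h4 i
    rw [h6, RingEquiv.symm_apply_apply]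
  have h4 := hA _ h3
  have h5 : w = 0 := by
    rw [h2]
    funext i
    have := congrFun h4 i
    simp only [Pi.zero_apply] at this ⊢
    rw [this, map_zero]
  have h6 : v = (B : Matrix ι ι F) *ᵥ w := by
    rw [hw, Matrix.mulVec_mulVec, ← Units.val_mul, mul_inv_cancel, Units.val_one, Matrix.one_mulVec]
  rw [h6, h5, Matrix.mulVec_zero]

/-- **the `C₈` subgroups of minus type** -/
theorem der_minus [Fintype F] (hm : 3 ≤ m) (hme : Even m) (hF : ¬ Odd (Fintype.card F))
    {Q : (Fin m ⊕ Fin m → F) → F} (hQ : IsNondegenerateQuadraticForm Q)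
    (hmin : ∀ Q' : QuadraticForm F (Fin m ⊕ Fin m → F), ⇑Q' = Q → ¬ Cfsg.Agent.H955.IsPlus Q')
    {R : Subgroup (PSp m F)} (hR : pre R ≤ quadSimilarityGroup Q) : Der (PSp m F) R := by
  have hev : Even (Fintype.card F) := Nat.not_odd_iff_even.1 hF
  have hι : Fintype.card (Fin m ⊕ Fin m) = 2 * m := card_sum_fin
  -- a prime divisor of `q + 1`
  obtain ⟨s, hs, hsd⟩ := Nat.exists_prime_and_dvd (n := Fintype.card F + 1) (by
    have := Fintype.card_pos (α := F); omega)
  have hs2 : s ≠ 2 := by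
    rintro rfl
    obtain ⟨a, ha⟩ := hev
    obtain ⟨b, hb⟩ := hsd
    omega
  have hchar : CharP F 2 := by
    obtain ⟨p, hp⟩ := CharP.exists F
    have hpp : p.Prime := CharP.char_is_prime F p
    obtain ⟨n, -, hn⟩ := FiniteField.card F p
    rw [hn] at hev
    have h2 : 2 ∣ p := Nat.prime_two.dvd_of_dvd_pow (even_iff_two_dvd.1 hev)
    have h3 : 2 = p := (Nat.prime_dvd_prime_iff_eq Nat.prime_two hpp).1 h2
    rw [h3]
    exact hp
  have hsF : (s : F) ≠ 0 := by
    intro h0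
    have h1 : 2 ∣ s := (CharP.cast_eq_zero_iff F 2 s).1 h0
    exact hs2 ((Nat.prime_dvd_prime_iff_eq Nat.prime_two hs).1 h1).symm
  have hs' := Fact.mk hs
  have hsq : (Fintype.card F : ZMod s) = -1 := by
    have h1 : ((Fintype.card F + 1 : ℕ) : ZMod s) = 0 := (ZMod.natCast_eq_zero_iff _ _).2 hsd
    push_cast at h1
    linear_combination h1
  have h2s : (2 : ZMod s) ≠ 0 := by
    intro h0
    have h1 : ((2 : ℕ) : ZMod s) = 0 := by exact_mod_cast h0
    have h3 := (ZMod.natCast_eq_zero_iff 2 s).1 h1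
    exact hs2 ((Nat.prime_dvd_prime_iff_eq hs Nat.prime_two).1 h3)
  obtain ⟨x, hx, hxs, hfix⟩ := exists_no_fix (m := m) hs hsF hsd
  obtain ⟨A, rfl⟩ := exists_spToGL hx
  have hA : A ^ s = 1 := by
    apply spToGL_injective
    rw [map_pow, map_one]
    exact hxs
  -- the key property
  have key : ∀ φ : MulAut (PSp m F), φ (QuotientGroup.mk A : PSp m F) ∉ R := by
    intro φ hφ
    obtain ⟨B, σ, C, hC, hCm⟩ := aut_apply hm φ A
    rw [hC, ← mem_pre] at hφ
    have hCG : (spToGL m F C) ^ s = 1 := by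
      rw [hCm, conj_pow, ← map_pow, ← map_pow, hA, map_one, map_one, mul_one, mul_inv_cancel]
    have hCf : ∀ v, ((spToGL m F C : GL (Fin m ⊕ Fin m) F) : Matrix (Fin m ⊕ Fin m) (Fin m ⊕ Fin m) F) *ᵥ v = v →
        v = 0 := by
      rw [hCm]
      exact fix_map hfix
    rcases quad_dichotomy (m := m) (by omega) hι hs hQ (hR hφ) hCG hCf with ⟨⟨Q'', hQ'', hP'⟩, -⟩ | ⟨-, h1⟩
    · exact hmin Q'' hQ'' hP'
    · have hmo : Odd (m - 1) := Nat.Even.sub_odd (by omega) hme odd_one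
      rw [hsq, hme.neg_one_pow, hmo.neg_one_pow] at h1
      have h3 : (2 : ZMod s) * 2 = 0 := by linear_combination -h1
      rcases mul_eq_zero.1 h3 with h4 | h4 <;> exact h2s h4
  refine ⟨(QuotientGroup.mk A : PSp m F), ?_, key⟩
  have h1 : (QuotientGroup.mk A : PSp m F) ≠ 1 := by
    intro h1
    apply key 1
    rw [h1, map_one]
    exact R.one_mem
  have h2 : (QuotientGroup.mk A : PSp m F) ^ s = 1 := by
    rw [← QuotientGroup.mk_pow, hA]
    rfl
  rcases (Nat.dvd_prime hs).1 (orderOf_dvd_of_pow_eq_one h2) with h3 | h3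
  · exact absurd (orderOf_eq_one_iff.1 h3) h1
  · rw [h3]
    exact hs

/-! ### sections -/

open Cfsg.Agent.H938.Sax

/-- the abstract form -/
theorem sect_abs {I : Type*} [Group I] [Finite I] (hidx : (commutator I).index = 2)
    (hcen : ∀ g : I, (∀ x ∈ commutator I, g * x = x * g) → g = 1) (hs : IsSimpleGroup ↥(commutator I))
    (hgap : ∀ M : Subgroup ↥(commutator I), M ≠ ⊤ → PGap ↥(commutator I) M) (L : Subgroup I) (K : Subgroup ↥L)
    [hK : K.Normal] (hpr : ∀ v : ℕ, v.Prime → v ∣ Nat.card ↥(commutator I) → v ∣ K.index) (h4 : 4 ∣ K.index) :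
    K = ⊥ := by
  obtain ⟨N, hN⟩ : ∃ N : Subgroup I, N = commutator I := ⟨_, rfl⟩
  rw [← hN] at hidx hcen hs hgap hpr
  have hNn : N.Normal := by rw [hN]; infer_instance
  have hcL : K.index ∣ Nat.card ↥L := K.index_dvd_card
  have hri : N.relIndex L ∣ 2 := hidx ▸ Subgroup.relIndex_dvd_index_of_normal N L
  have hLc : Nat.card ↥L = N.relIndex L * Nat.card ↥(L.subgroupOf N) := by
    have h1 := Subgroup.card_mul_index (N.subgroupOf L)
    have h2 : Nat.card ↥(N.subgroupOf L) = Nat.card ↥(L.subgroupOf N) := by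
      rw [← Subgroup.inf_subgroupOf_right N L, ← Subgroup.inf_subgroupOf_right L N, inf_comm L N,
        Nat.card_congr (Subgroup.subgroupOfEquivOfLe (inf_le_right : N ⊓ L ≤ L)).toEquiv,
        Nat.card_congr (Subgroup.subgroupOfEquivOfLe (inf_le_left : N ⊓ L ≤ N)).toEquiv]
    rw [← h2, mul_comm]
    exact h1.symm
  have hNL : N ≤ L := by
    by_contra hcon
    have hD : L.subgroupOf N ≠ ⊤ := fun h => hcon (Subgroup.subgroupOf_eq_top.1 h)
    obtain ⟨v, hv, h1, h2⟩ := hgap _ hD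
    have h3 : v ∣ N.relIndex L * Nat.card ↥(L.subgroupOf N) := hLc ▸ (hpr v hv h1).trans hcL
    by_cases hv2 : v = 2
    · subst hv2
      have h5 : 2 * 2 ∣ N.relIndex L * Nat.card ↥(L.subgroupOf N) := hLc ▸ h4.trans hcL
      have h6 : Nat.Coprime (2 * 2) (Nat.card ↥(L.subgroupOf N)) := by
        have : Nat.Coprime 2 (Nat.card ↥(L.subgroupOf N)) := (Nat.Prime.coprime_iff_not_dvd Nat.prime_two).2 h2
        exact Nat.Coprime.mul_left this this
      have h7 := (h6.dvd_of_dvd_mul_right h5).trans hri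
      exact absurd (Nat.le_of_dvd (by norm_num) h7) (by norm_num)
    · rcases (Nat.Prime.dvd_mul hv).1 h3 with h4 | h4
      · exact hv2 ((Nat.prime_dvd_prime_iff_eq hv Nat.prime_two).1 (h4.trans hri))
      · exact h2 h4
  obtain ⟨K', hK'⟩ : ∃ K' : Subgroup I, K' = K.map L.subtype := ⟨_, rfl⟩
  have hnorm : ∀ l ∈ L, ∀ k ∈ K', l * k * l⁻¹ ∈ K' := by
    rintro l hl k hk
    rw [hK'] at hk ⊢
    obtain ⟨y, hy, rfl⟩ := hk
    exact ⟨_, hK.conj_mem y hy ⟨l, hl⟩, rfl⟩
  have hn : (K'.subgroupOf N).Normal := by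
    refine ⟨fun k hk n => ?_⟩
    exact hnorm n (hNL n.2) k hk
  have hbot : K' = ⊥ := by
    rcases hn.eq_bot_or_eq_top with h | h
    · rw [eq_bot_iff]
      intro k hk
      rw [Subgroup.mem_bot]
      apply hcen
      intro x hx
      have h1 : x * k * x⁻¹ ∈ K' := hnorm x (hNL hx) k hk
      have h2 : k * (x * k⁻¹ * x⁻¹) ∈ K' := K'.mul_mem hk (by
        have := K'.inv_mem h1
        rwa [mul_inv_rev, mul_inv_rev, inv_inv, ← mul_assoc] at this)
      have h3 : k * (x * k⁻¹ * x⁻¹) ∈ N := by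
        have : k * (x * k⁻¹ * x⁻¹) = (k * x * k⁻¹) * x⁻¹ := by group
        rw [this]
        exact N.mul_mem (hNn.conj_mem x hx k) (N.inv_mem hx)
      have h4 : (⟨_, h3⟩ : N) ∈ K'.subgroupOf N := h2
      rw [h, Subgroup.mem_bot] at h4
      have h5 : k * (x * k⁻¹ * x⁻¹) = 1 := congrArg Subtype.val h4
      have h6 : k * x = x * k := by
        calc k * x = (k * (x * k⁻¹ * x⁻¹)) * (x * k) := by group
          _ = x * k := by rw [h5, one_mul]
      exact h6
    · exfalso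
      have h1 : N ≤ K' := Subgroup.subgroupOf_eq_top.1 h
      have h2 : Nat.card ↥N ≤ Nat.card ↥K' := Subgroup.card_le_of_le h1
      have h3 : Nat.card ↥K' = Nat.card ↥K := by
        rw [hK']
        exact (Nat.card_congr (K.equivMapOfInjective L.subtype L.subtype_injective).toEquiv).symm
      have h4' : Nat.card ↥K * K.index = Nat.card ↥L := K.card_mul_index
      have h5 : Nat.card ↥L ≤ Nat.card I := Subgroup.card_le_card_group L
      have h6 : Nat.card ↥N * 2 = Nat.card I := hidx ▸ N.card_mul_index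
      have h7 : 4 ≤ K.index := Nat.le_of_dvd (Nat.pos_of_ne_zero K.index_ne_zero_of_finite) h4
      have h8 : 0 < Nat.card ↥N := Nat.card_pos
      nlinarith
  rw [hK', Subgroup.map_eq_bot_iff_of_injective _ L.subtype_injective] at hbot
  exact hbot

/-! ### the orthogonal group of minus type in `PSp_2m(q)` -/

open Cfsg.Agent.ClassicalGeometry.Reflection (mem_isometryGroup_iff)

/-- isometries of `Q` as symplectic matrices -/
def toSp {Q : (Fin m ⊕ Fin m → F) → F} (hpol : ∀ u v, QuadraticMap.polar Q u v = sympForm m F u v) :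
    isometryGroup F Q →* Matrix.symplecticGroup (Fin m) F where
  toFun g := ⟨((g : GL (Fin m ⊕ Fin m) F) : Matrix (Fin m ⊕ Fin m) (Fin m ⊕ Fin m) F),
    mem_symplecticGroup_iff.2 fun u v => by
      have h := (mem_isometryGroup_iff _ _).1 g.2
      rw [← hpol, ← hpol, QuadraticMap.polar, QuadraticMap.polar, ← Matrix.mulVec_add, h, h, h]⟩
  map_one' := rfl
  map_mul' _ _ := rfl

/-- isometries of `Q` as elements of `PSp` -/
def toPSp {Q : (Fin m ⊕ Fin m → F) → F} (hpol : ∀ u v, QuadraticMap.polar Q u v = sympForm m F u v) :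
    isometryGroup F Q →* PSp m F :=
  (QuotientGroup.mk' (Subgroup.center (Matrix.symplecticGroup (Fin m) F))).comp (toSp hpol)

theorem exists_toPSp {Q : (Fin m ⊕ Fin m → F) → F} (hm : 1 ≤ m)
    (hpol : ∀ u v, QuadraticMap.polar Q u v = sympForm m F u v) {L : Subgroup (PSp m F)}
    (hL : pre L ≤ quadSimilarityGroup Q) {x : PSp m F} (hx : x ∈ L) : ∃ g, toPSp hpol g = x := by
  obtain ⟨A, rfl⟩ := QuotientGroup.mk_surjective x
  obtain ⟨c, hc⟩ := hL (mem_pre.2 hx)
  have hA : ∀ u v, sympForm m F ((A : Matrix _ _ F) *ᵥ u) ((A : Matrix _ _ F) *ᵥ v) = sympForm m F u v :=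
    fun u v => mem_symplecticGroup_iff.1 A.2 u v
  have hc1 : (c : F) = 1 := by
    obtain ⟨u, v, huv⟩ : ∃ u v : Fin m ⊕ Fin m → F, sympForm m F u v ≠ 0 := by
      by_contra hcon
      push Not at hcon
      have h1 : (Pi.single (Sum.inl ⟨0, hm⟩) 1 : Fin m ⊕ Fin m → F) = 0 :=
        eq_zero_of_forall_sympForm_left fun u => hcon u _
      have h2 := congrFun h1 (Sum.inl ⟨0, hm⟩)
      simp at h2
    have h1 : QuadraticMap.polar Q ((A : Matrix _ _ F) *ᵥ u) ((A : Matrix _ _ F) *ᵥ v) =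
        (c : F) * QuadraticMap.polar Q u v := by
      have h2 : ∀ w, Q ((A : Matrix (Fin m ⊕ Fin m) (Fin m ⊕ Fin m) F) *ᵥ w) = (c : F) * Q w := hc
      rw [QuadraticMap.polar, QuadraticMap.polar, ← Matrix.mulVec_add, h2, h2, h2]
      ring
    rw [hpol, hpol, hA] at h1
    have h2 : (c : F) * sympForm m F u v = 1 * sympForm m F u v := by rw [← h1, one_mul]
    exact mul_right_cancel₀ huv h2
  have hiso : spToGL m F A ∈ isometryGroup F Q := by
    rw [mem_isometryGroup_iff]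
    intro v
    rw [hc, hc1, one_mul]
  exact ⟨⟨_, hiso⟩, rfl⟩

/-- **sections of orthogonal subgroups of minus type** -/
theorem section_minus [Fintype F] (hm : 4 ≤ m) (hF : ¬ Odd (Fintype.card F))
    {Q : (Fin m ⊕ Fin m → F) → F} (hQ : IsNondegenerateQuadraticForm Q)
    (hpol : ∀ u v, QuadraticMap.polar Q u v = sympForm m F u v)
    (hmin : ∀ Q' : QuadraticForm F (Fin m ⊕ Fin m → F), ⇑Q' = Q → ¬ Cfsg.Agent.H955.IsPlus Q')
    (hgap : ∀ a b : F, (∀ z₁ z₂ : F, z₁ ^ 2 + a * z₁ * z₂ + b * z₂ ^ 2 = 0 → z₁ = 0 ∧ z₂ = 0) →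
      ∀ M : Subgroup (POmega F (quadFormMinus (m - 1) F a b)), M ≠ ⊤ → PGap _ M)
    (L : Subgroup (PSp m F)) (K : Subgroup ↥L) [K.Normal] (hL : pre L ≤ quadSimilarityGroup Q)
    (hpr : ∀ v : ℕ, v.Prime → v ∣ Nat.card (PSp m F) → v ∣ K.index) (h4 : 4 ∣ K.index) : K = ⊥ := by
  have hchar : CharP F 2 := by
    have hev : Even (Fintype.card F) := Nat.not_odd_iff_even.1 hF
    obtain ⟨p, hp⟩ := CharP.exists F
    have hpp : p.Prime := CharP.char_is_prime F p
    obtain ⟨n, -, hn⟩ := FiniteField.card F p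
    rw [hn] at hev
    have h2 : 2 ∣ p := Nat.prime_two.dvd_of_dvd_pow (even_iff_two_dvd.1 hev)
    have h3 : 2 = p := (Nat.prime_dvd_prime_iff_eq Nat.prime_two hpp).1 h2
    rw [h3]
    exact hp
  have h20 : (2 : F) = 0 := CharTwo.two_eq_zero
  obtain ⟨Q', rfl, hnd⟩ := Cfsg.Agent.H883.Bridge.exists_quadraticForm hQ
  have hmin' := hmin Q' rfl
  have hd : finrank F (Fin m ⊕ Fin m → F) = 2 * (m - 1 + 1) := by
    rw [Module.finrank_fintype_fun_eq_card, card_sum_fin]
    omega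
  obtain ⟨a, b, hab⟩ := Cfsg.Agent.H955.exists_aniso_coeff F
  obtain ⟨e, he⟩ := Cfsg.Agent.H955.exists_minus_equiv hab (m - 1) Q' hnd hd hmin'
  have hndg : (QuadraticMap.polarBilin Q').Nondegenerate := Cfsg.Agent.H955.nondeg_iff.1 hnd
  obtain ⟨u₀, hu₀, hQu⟩ := Cfsg.Agent.H955.exists_singular Q' (by rw [hd]; omega)
  have hcardι : 3 ≤ Fintype.card (Fin m ⊕ Fin m) := by rw [card_sum_fin]; omega
  -- the centralizer of `Ω`
  have hcen : ∀ z : isometryGroup F ⇑Q', (∀ x ∈ commutator (isometryGroup F ⇑Q'), z * x = x * z) → z = 1 := by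
    intro z hz
    have hone : (-1 : Matrix (Fin m ⊕ Fin m) (Fin m ⊕ Fin m) F) = 1 := by
      have h3 : (-1 : F) = 1 := by linear_combination -h20
      rw [← one_smul F (1 : Matrix (Fin m ⊕ Fin m) (Fin m ⊕ Fin m) F), ← neg_smul, h3]
    apply Subtype.ext
    apply Units.ext
    rcases Cfsg.Agent.LieClassical.OrthCenter.eq_one_or_neg_one_of_commute_omega hndg hcardι ⟨u₀, hu₀, hQu⟩ z hz with
      h | h
    · exact h
    · rw [h, hone]; rfl
  have hZ : Subgroup.center ↥(Omega F ⇑Q') = ⊥ :=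
    Cfsg.Agent.LieClassical.OrthCenter.center_omega_eq_bot_char_two h20 hndg hcardι ⟨u₀, hu₀, hQu⟩
  have hidx : (commutator (isometryGroup F ⇑Q')).index = 2 := by
    refine Cfsg.Agent.LieClassical.OmegaReindex.index_omega_of_fin (n := 2 * m) (k := 2) card_sum_fin
      (fun Q₂ hQ₂ => ?_) Q' hndg
    exact Cfsg.Agent.S0789.result (by omega) Q₂ hQ₂ (Or.inr (by omega))
  -- transport to the standard form
  have he' : ∀ x, Q' x = quadFormMinus (m - 1) F a b (e x) := fun x => by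
    rw [← he, Cfsg.Agent.LieClassical.QuadForms.coe_minusForm]
  let E := Cfsg.Agent.H637.isoConj e (quadFormMinus (m - 1) F a b) (⇑Q') he'
  have hmap : (commutator (isometryGroup F (quadFormMinus (m - 1) F a b))).map E.toMonoidHom =
      commutator (isometryGroup F ⇑Q') := by
    rw [commutator_def, commutator_def, Subgroup.map_commutator, ← MonoidHom.range_eq_map,
      MonoidHom.range_eq_top.2 E.surjective]
  let E₂ : ↥(Omega F (quadFormMinus (m - 1) F a b)) ≃* ↥(Omega F ⇑Q') :=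
    (E.subgroupMap _).trans (MulEquiv.subgroupCongr hmap)
  have hZ₁ : Subgroup.center ↥(Omega F (quadFormMinus (m - 1) F a b)) = ⊥ := by
    rw [eq_bot_iff]
    intro x hx
    have h1 : E₂ x ∈ Subgroup.center ↥(Omega F ⇑Q') := by
      rw [Subgroup.mem_center_iff] at hx ⊢
      intro y
      obtain ⟨y, rfl⟩ := E₂.surjective y
      rw [← map_mul, ← map_mul, hx]
    rw [hZ, Subgroup.mem_bot] at h1
    rw [Subgroup.mem_bot]
    exact E₂.injective (by rw [h1, map_one])
  let E₃ : POmega F (quadFormMinus (m - 1) F a b) ≃* ↥(Omega F ⇑Q') :=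
    ((QuotientGroup.quotientMulEquivOfEq hZ₁).trans QuotientGroup.quotientBot).trans E₂
  have hs : IsSimpleGroup ↥(commutator (isometryGroup F ⇑Q')) := by
    have := Cfsg.Agent.S0297.result m hm a b hab
    exact (E₃.isSimpleGroup_congr).1 this
  have hgap' : ∀ M : Subgroup ↥(commutator (isometryGroup F ⇑Q')), M ≠ ⊤ → PGap _ M := by
    intro M hM
    refine PGap.congr E₃ (hgap a b hab _ fun h => hM ?_)
    rw [eq_top_iff]
    intro x _
    have h1 : E₃.symm x ∈ M.comap E₃.toMonoidHom := by rw [h]; trivial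
    have h2 : E₃ (E₃.symm x) ∈ M := h1
    rwa [E₃.apply_symm_apply] at h2
  -- the pull-back
  have hsur : Function.Surjective ((toPSp hpol).subgroupComap L) := by
    rintro ⟨x, hx⟩
    obtain ⟨g, hg⟩ := exists_toPSp (by omega) hpol hL hx
    exact ⟨⟨g, by rw [Subgroup.mem_comap, hg]; exact hx⟩, Subtype.ext hg⟩
  have hinj : Function.Injective (toPSp hpol) := by
    intro g h hgh
    have hcs : Subgroup.center (Matrix.symplecticGroup (Fin m) F) = ⊥ := by
      rw [← Subgroup.card_eq_one, Cfsg.Agent.LieClassical.SympCenter.card_center (by omega)]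
      have hev := Nat.not_odd_iff_even.1 hF
      have h1 : Odd (Fintype.card F - 1) := Nat.Even.sub_odd Fintype.card_pos hev odd_one
      exact (Nat.coprime_two_left (n := Fintype.card F - 1)).2 h1
    have h1 : (toSp hpol g)⁻¹ * toSp hpol h ∈ Subgroup.center (Matrix.symplecticGroup (Fin m) F) :=
      QuotientGroup.eq.1 hgh
    rw [hcs, Subgroup.mem_bot, inv_mul_eq_one] at h1
    apply Subtype.ext
    apply Units.ext
    exact congrArg Subtype.val h1
  have hK₁ : K.comap ((toPSp hpol).subgroupComap L) = ⊥ := by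
    have hix : (K.comap ((toPSp hpol).subgroupComap L)).index = K.index :=
      K.index_comap_of_surjective hsur
    refine sect_abs hidx hcen hs hgap' _ _ (fun v hv hd => ?_) (by rw [hix]; exact h4)
    rw [hix]
    refine hpr v hv (hd.trans ?_)
    have hj : Function.Injective ((toPSp hpol).comp (commutator (isometryGroup F ⇑Q')).subtype) :=
      hinj.comp (Subgroup.subtype_injective _)
    exact Subgroup.card_dvd_of_injective _ hj
  rw [eq_bot_iff]
  intro k hk
  obtain ⟨g, rfl⟩ := hsur k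
  have h1 : g ∈ K.comap ((toPSp hpol).subgroupComap L) := hk
  rw [hK₁, Subgroup.mem_bot] at h1
  rw [h1, map_one]
  exact Subgroup.one_mem _

/-! ### an element of order four -/

theorem exists_four (hm : 2 ≤ m) (h20 : (2 : F) = 0) :
    ∃ x : Matrix.symplecticGroup (Fin m) F, x ^ 4 = 1 ∧ x ^ 2 ≠ 1 := by
  obtain ⟨i, j, hij⟩ : ∃ i j : Fin m, i ≠ j := ⟨⟨0, by omega⟩, ⟨1, by omega⟩, by simp [Fin.ext_iff]⟩
  obtain ⟨P, hP⟩ : ∃ P : Matrix (Fin m) (Fin m) F, P = (Equiv.swap i j).toPEquiv.toMatrix := ⟨_, rfl⟩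
  have hPl : ∀ N : Matrix (Fin m) (Fin m) F, P * N = N.submatrix (Equiv.swap i j) id := fun N => by
    rw [hP, PEquiv.toMatrix_toPEquiv_mul]
  have hPr : ∀ N : Matrix (Fin m) (Fin m) F, N * P = N.submatrix id (Equiv.swap i j) := fun N => by
    rw [hP, PEquiv.mul_toMatrix_toPEquiv, Equiv.symm_swap]
  have hPP : P * P = 1 := by
    rw [hPr]
    have h1 : P = P * 1 := (mul_one P).symm
    rw [h1, hPl]
    ext a b
    simp [Matrix.one_apply]
  have hPt : P.transpose = P := by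
    rw [← mul_one P, hPl]
    ext a b
    simp only [Matrix.transpose_apply, Matrix.submatrix_apply, id_eq, Matrix.one_apply]
    by_cases h : Equiv.swap i j b = a
    · rw [if_pos h, if_pos (by rw [← h, Equiv.swap_apply_self])]
    · rw [if_neg h, if_neg (fun h1 => h (by rw [← h1, Equiv.swap_apply_self]))]
  obtain ⟨S, hS⟩ : ∃ S : Matrix (Fin m) (Fin m) F, S = Matrix.diagonal (Pi.single i 1) := ⟨_, rfl⟩
  have hSt : S.transpose = S := by rw [hS, Matrix.diagonal_transpose]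
  have ha : Matrix.fromBlocks P 0 0 P ∈ Matrix.symplecticGroup (Fin m) F := by
    rw [SymplecticGroup.fromBlocks_mem_iff]
    simp [hPt, hPP]
  have hb : Matrix.fromBlocks 1 S 0 1 ∈ Matrix.symplecticGroup (Fin m) F := by
    rw [SymplecticGroup.fromBlocks_mem_iff]
    simp [hSt]
  have h2 : (Matrix.fromBlocks P 0 0 P * Matrix.fromBlocks 1 S 0 1 : Matrix (Fin m ⊕ Fin m) (Fin m ⊕ Fin m) F) ^ 2 =
      Matrix.fromBlocks 1 (S + P * S * P) 0 1 := by
    rw [pow_two, Matrix.fromBlocks_multiply, Matrix.fromBlocks_multiply]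
    congr 1
    · simp [hPP]
    · simp only [Matrix.mul_one, Matrix.zero_mul, add_zero, Matrix.mul_zero, zero_add]
      rw [← mul_assoc P P S, hPP, one_mul]
    · simp
    · simp [hPP]
  have h4 : (Matrix.fromBlocks P 0 0 P * Matrix.fromBlocks 1 S 0 1 : Matrix (Fin m ⊕ Fin m) (Fin m ⊕ Fin m) F) ^ 4 =
      1 := by
    have h3 : ∀ N : Matrix (Fin m) (Fin m) F, N + N = 0 := fun N => by
      rw [← two_smul F N, h20, zero_smul]
    rw [show (4 : ℕ) = 2 * 2 from rfl, pow_mul, h2, pow_two, Matrix.fromBlocks_multiply]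
    simp only [Matrix.mul_one, Matrix.one_mul, Matrix.mul_zero, Matrix.zero_mul, add_zero, zero_add, h3]
    exact Matrix.fromBlocks_one
  obtain ⟨A, hA⟩ : ∃ A : Matrix.symplecticGroup (Fin m) F,
      (A : Matrix (Fin m ⊕ Fin m) (Fin m ⊕ Fin m) F) = Matrix.fromBlocks P 0 0 P := ⟨⟨_, ha⟩, rfl⟩
  obtain ⟨B, hB⟩ : ∃ B : Matrix.symplecticGroup (Fin m) F,
      (B : Matrix (Fin m ⊕ Fin m) (Fin m ⊕ Fin m) F) = Matrix.fromBlocks 1 S 0 1 := ⟨⟨_, hb⟩, rfl⟩
  refine ⟨A * B, Subtype.ext ?_, fun h => ?_⟩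
  · rw [SubmonoidClass.coe_pow, MulMemClass.coe_mul, hA, hB, h4]
    rfl
  have h5 : (Matrix.fromBlocks P 0 0 P * Matrix.fromBlocks 1 S 0 1 : Matrix (Fin m ⊕ Fin m) (Fin m ⊕ Fin m) F) ^ 2 =
      1 := by
    have h6 := congrArg Subtype.val h
    rw [SubmonoidClass.coe_pow, MulMemClass.coe_mul, hA, hB] at h6
    exact h6
  rw [h2] at h5
  have h6 := congrFun (congrFun h5 (Sum.inl i)) (Sum.inr i)
  rw [Matrix.fromBlocks_apply₁₂, hPr, hPl] at h6
  simp [hS, hij.symm] at h6

/-! ### conclusions -/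

theorem center_bot [Fintype F] (hm : 1 ≤ m) (hF : ¬ Odd (Fintype.card F)) :
    Subgroup.center (Matrix.symplecticGroup (Fin m) F) = ⊥ := by
  rw [← Subgroup.card_eq_one, Cfsg.Agent.LieClassical.SympCenter.card_center hm]
  have h1 : Odd (Fintype.card F - 1) := Nat.Even.sub_odd Fintype.card_pos (Nat.not_odd_iff_even.1 hF) odd_one
  exact (Nat.coprime_two_left (n := Fintype.card F - 1)).2 h1

theorem char_two [Fintype F] (hF : ¬ Odd (Fintype.card F)) : CharP F 2 := by
  have hev : Even (Fintype.card F) := Nat.not_odd_iff_even.1 hF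
  obtain ⟨p, hp⟩ := CharP.exists F
  have hpp : p.Prime := CharP.char_is_prime F p
  obtain ⟨n, -, hn⟩ := FiniteField.card F p
  rw [hn] at hev
  have h2 : 2 ∣ p := Nat.prime_two.dvd_of_dvd_pow (even_iff_two_dvd.1 hev)
  have h3 : 2 = p := (Nat.prime_dvd_prime_iff_eq Nat.prime_two hpp).1 h2
  rw [h3]
  exact hp

/-- `PSp_2m(q)` has an element of order `4`, `q` even -/
theorem exists_orderOf_four [Fintype F] (hm : 2 ≤ m) (hF : ¬ Odd (Fintype.card F)) :
    ∃ x : PSp m F, orderOf x = 4 := by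
  have := char_two hF
  obtain ⟨A, h4, h2⟩ := exists_four (F := F) hm CharTwo.two_eq_zero
  refine ⟨QuotientGroup.mk A, ?_⟩
  refine orderOf_eq_prime_pow (p := 2) (n := 1) (x := (QuotientGroup.mk A : PSp m F)) ?_ ?_
  · rw [pow_one, ← QuotientGroup.mk_pow, QuotientGroup.eq_one_iff, center_bot (by omega) hF, Subgroup.mem_bot]
    exact h2
  · rw [show 2 ^ (1 + 1) = 4 from rfl, ← QuotientGroup.mk_pow, h4]
    rfl

/-- orthogonal groups of plus type miss a prime -/
theorem pgap_plus [Fintype F] (hm : 2 ≤ m) (_hme : Even m) (hF : ¬ Odd (Fintype.card F)) {r : ℕ}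
    (hr : Od (Fintype.card F) (2 * m) r) {Q : (Fin m ⊕ Fin m → F) → F} (hQ : IsNondegenerateQuadraticForm Q)
    {Q' : QuadraticForm F (Fin m ⊕ Fin m → F)} (hQ' : ⇑Q' = Q) (hP : Cfsg.Agent.H955.IsPlus Q')
    {R : Subgroup (PSp m F)} (hR : pre R ≤ quadSimilarityGroup Q) : PGap (PSp m F) R := by
  have hι : Fintype.card (Fin m ⊕ Fin m) = 2 * m := card_sum_fin
  have hrp := Fact.mk hr.prime
  have hz := center_bot (m := m) (by omega) hF
  refine ⟨r, hr.prime, ?_, fun hd => ?_⟩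
  · have h1 : r ∣ Nat.card (spGL m F) := by
      rw [Cfsg.Agent.H955.card_spGL, Nat.card_eq_fintype_card]
      apply Dvd.dvd.mul_left
      refine dvd_trans ?_ (Finset.dvd_prod_of_mem _ (Finset.mem_range.2 (by omega : m - 1 < m)))
      rw [hr.dvd_iff Fintype.card_pos]
      rw [show 2 * (m - 1 + 1) = 2 * m by omega]
    obtain ⟨x, hx⟩ := exists_prime_orderOf_dvd_card' (G := spGL m F) r h1
    obtain ⟨A, hA⟩ := exists_spToGL x.2
    have hA1 : A ^ r = 1 := by
      apply spToGL_injective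
      rw [map_pow, hA, map_one]
      have h2 : x ^ r = 1 := by rw [← hx, pow_orderOf_eq_one]
      exact_mod_cast congrArg Subtype.val h2
    have hA2 : A ≠ 1 := by
      rintro rfl
      have h3 : x = 1 := Subtype.ext (by rw [← hA, map_one]; rfl)
      rw [h3, orderOf_one] at hx
      exact hr.prime.one_lt.ne hx
    have h4 : orderOf (QuotientGroup.mk A : PSp m F) = r := by
      refine orderOf_eq_prime ?_ ?_
      · rw [← QuotientGroup.mk_pow, hA1]; rfl
      · intro h5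
        rw [QuotientGroup.eq_one_iff, hz, Subgroup.mem_bot] at h5
        exact hA2 h5
    rw [← h4]
    exact orderOf_dvd_natCard _
  · obtain ⟨x, hx⟩ := exists_prime_orderOf_dvd_card' (G := R) r hd
    obtain ⟨A, hA⟩ := QuotientGroup.mk_surjective (x : PSp m F)
    have hxr : (x : PSp m F) ^ r = 1 := by
      have h2 : x ^ r = 1 := by rw [← hx, pow_orderOf_eq_one]
      exact_mod_cast congrArg Subtype.val h2
    have hA1 : A ^ r = 1 := by
      have h3 : (QuotientGroup.mk (A ^ r) : PSp m F) = 1 := by rw [QuotientGroup.mk_pow, hA, hxr]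
      rwa [QuotientGroup.eq_one_iff, hz, Subgroup.mem_bot] at h3
    have hA2 : A ≠ 1 := by
      rintro rfl
      have h3 : x = 1 := Subtype.ext (by rw [← hA]; rfl)
      rw [h3, orderOf_one] at hx
      exact hr.prime.one_lt.ne hx
    have hmem : spToGL m F A ∈ quadSimilarityGroup Q := hR (mem_pre.2 (by rw [hA]; exact x.2))
    have hyr : (spToGL m F A) ^ r = 1 := by rw [← map_pow, hA1, map_one]
    have hy1 : spToGL m F A ≠ 1 := fun h => hA2 (spToGL_injective (by rw [h, map_one]))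
    have hfix : ∀ v, ((spToGL m F A : GL (Fin m ⊕ Fin m) F) : Matrix (Fin m ⊕ Fin m) (Fin m ⊕ Fin m) F) *ᵥ v = v →
        v = 0 := by
      intro v hv
      have h1 : fixS (spToGL m F A) = ⊥ := by
        rcases irr_of_od (by rw [hι]; exact hr) hyr hy1 (fixS (spToGL m F A)) (fun v hv => by
          rw [mem_fixS.1 hv]; exact hv) with h | h
        · exact h
        · exact absurd (fixS_eq_top h) hy1
      have h2 : v ∈ fixS (spToGL m F A) := mem_fixS.2 hv
      rwa [h1, Submodule.mem_bot] at h2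
    rcases quad_dichotomy (m := m) (by omega) hι hr.prime hQ hmem hyr hfix with ⟨-, h1⟩ | ⟨⟨Q'', hQ'', hP'⟩, -⟩
    · rcases mul_eq_zero.1 h1 with h2 | h2
      · have h3 : 2 * m ∣ m := by
          rw [← hr.ord]
          exact orderOf_dvd_of_pow_eq_one (sub_eq_zero.1 h2)
        have := Nat.le_of_dvd (by omega) h3
        omega
      · have h3 : 2 * m ∣ 2 * (m - 1) := by
          rw [← hr.ord]
          apply orderOf_dvd_of_pow_eq_one
          have h4 : (Fintype.card F : ZMod r) ^ (m - 1) = -1 := by linear_combination h2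
          rw [mul_comm, pow_mul, h4]
          ring
        have := Nat.le_of_dvd (by omega) h3
        omega
    · have h3 : Q'' = Q' := DFunLike.coe_injective (hQ''.trans hQ'.symm)
      exact hP' (h3 ▸ hP)

/-- the geometric input for `PSp_2m(q)`, `q` even -/
def Geo8 (m : ℕ) (F : Type u) [Field F] : Prop := ∀ R : Subgroup (PSp m F), R ≠ ⊤ → PGap (PSp m F) R ∨
  ∃ Q : (Fin m ⊕ Fin m → F) → F, IsNondegenerateQuadraticForm Q ∧
    (∀ u v, QuadraticMap.polar Q u v = sympForm m F u v) ∧ pre R ≤ quadSimilarityGroup Q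

theorem exists_od [Fintype F] (hm : 4 ≤ m) (hF : ¬ Odd (Fintype.card F)) : ∃ r, Od (Fintype.card F) (2 * m) r := by
  have := char_two hF
  obtain ⟨f, -, hf⟩ := FiniteField.card F 2
  obtain ⟨r, hr⟩ := Cfsg.Agent.H163.PG.Ppd.exists (p := 2) (n := f * (2 * m)) le_rfl (by
    have := f.pos; nlinarith) (by
    have := f.pos
    rintro ⟨-, h⟩
    nlinarith)
  exact ⟨r, hf ▸ Od.of_ppd Nat.prime_two f.pos (by omega) hr⟩

theorem miss_of_geo [Fintype F] (hm : 4 ≤ m) (hme : Even m) (hF : ¬ Odd (Fintype.card F)) (hgeo : Geo8 m F)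
    (R : Subgroup (PSp m F)) (hR : R ≠ ⊤) : Der (PSp m F) R := by
  rcases hgeo R hR with h | ⟨Q, hQ, hpol, hle⟩
  · exact h.der
  · obtain ⟨Q', hQ', hnd⟩ := Cfsg.Agent.H883.Bridge.exists_quadraticForm hQ
    by_cases hP : Cfsg.Agent.H955.IsPlus Q'
    · obtain ⟨r, hr⟩ := exists_od hm hF
      exact (pgap_plus (by omega) hme hF hr hQ hQ' hP hle).der
    · refine der_minus (by omega) hme hF hQ (fun Q'' hQ'' => ?_) hle
      have h3 : Q'' = Q' := DFunLike.coe_injective (hQ''.trans hQ'.symm)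
      rwa [h3]

theorem missMax_of_geo [Fintype F] (hm : 4 ≤ m) (hme : Even m) (hF : ¬ Odd (Fintype.card F)) (hgeo : Geo8 m F) :
    MissMax (PSp m F) := fun M hM => Miss.of_der (miss_of_geo hm hme hF hgeo M hM.1)

theorem section_of_geo [Fintype F] [IsSimpleGroup (PSp m F)] (hm : 4 ≤ m) (hme : Even m)
    (hF : ¬ Odd (Fintype.card F)) (hgeo : Geo8 m F)
    (hgap : ∀ a b : F, (∀ z₁ z₂ : F, z₁ ^ 2 + a * z₁ * z₂ + b * z₂ ^ 2 = 0 → z₁ = 0 ∧ z₂ = 0) →
      ∀ M : Subgroup (POmega F (quadFormMinus (m - 1) F a b)), M ≠ ⊤ → PGap _ M)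
    (L : Subgroup (PSp m F)) (K : Subgroup ↥L) [hK : K.Normal]
    (h : Set.range (orderOf : (↥L ⧸ K) → ℕ) = Set.range (orderOf : PSp m F → ℕ)) : K = ⊥ := by
  have hord : ∀ x : PSp m F, orderOf x ∣ K.index := by
    intro x
    have h1 : orderOf x ∈ Set.range (orderOf : (↥L ⧸ K) → ℕ) := by rw [h]; exact ⟨x, rfl⟩
    obtain ⟨y, hy⟩ := h1
    rw [← hy]
    exact orderOf_dvd_natCard y
  obtain ⟨x4, hx4⟩ := exists_orderOf_four (F := F) (m := m) (by omega) hF
  have h4 : 4 ∣ K.index := hx4 ▸ hord x4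
  by_cases hL : L = ⊤
  · subst hL
    have h1 : (K.map (Subgroup.topEquiv (G := PSp m F)).toMonoidHom).Normal :=
      hK.map _ (Subgroup.topEquiv (G := PSp m F)).surjective
    rcases h1.eq_bot_or_eq_top with h2 | h2
    · rwa [Subgroup.map_eq_bot_iff_of_injective _ (Subgroup.topEquiv (G := PSp m F)).injective] at h2
    · exfalso
      have h3 : K = ⊤ := by
        rw [eq_top_iff]
        intro x _
        have : (Subgroup.topEquiv (G := PSp m F)) x ∈ K.map (Subgroup.topEquiv (G := PSp m F)).toMonoidHom := by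
          rw [h2]; trivial
        obtain ⟨y, hy, hyx⟩ := this
        have : y = x := (Subgroup.topEquiv (G := PSp m F)).injective hyx
        rwa [← this]
      rw [h3, Subgroup.index_top] at h4
      omega
  · have hno := not_ordGap_of_range L K h
    rcases hgeo L hL with h1 | ⟨Q, hQ, hpol, hle⟩
    · exact absurd h1.ordGap hno
    · obtain ⟨Q', hQ', hnd⟩ := Cfsg.Agent.H883.Bridge.exists_quadraticForm hQ
      by_cases hP : Cfsg.Agent.H955.IsPlus Q'
      · obtain ⟨r, hr⟩ := exists_od hm hF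
        exact absurd (pgap_plus (by omega) hme hF hr hQ hQ' hP hle).ordGap hno
      · refine section_minus hm hF hQ hpol (fun Q'' hQ'' => ?_) hgap L K hle (fun v hv hd => ?_) h4
        · have h3 : Q'' = Q' := DFunLike.coe_injective (hQ''.trans hQ'.symm)
          rwa [h3]
        · have := Fact.mk hv
          obtain ⟨x, hx⟩ := exists_prime_orderOf_dvd_card' (G := PSp m F) v hd
          exact hx ▸ hord x

end Cfsg.Agent.H81.SaxSp
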