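import Cfsg.Agent.H81.PJCent
import Cfsg.Agent.UGT.U2.FOne.LongChev
import Cfsg.Agent.H233.TRow

/-!
# Theorem T, exceptional groups, part (Y): the Chevalley groups (helper81)

* `card_X`, `not_dvd_T`;
* `chev` : a prime dividing the sum over a table divides the order of the centraliser of a long involution.
-/

set_option autoImplicit false
set_option linter.unusedSectionVars false

namespace Cfsg.Agent.H81.PJChev

open CoxeterSystem Cfsg.Agent.ChevalleyStructure.CoxeterGeom Cfsg.Agent.Tits.Roots Cfsg.Agent.Tits.Core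
  Cfsg.Agent.Tits.Exchange Cfsg.Agent.Nodes.Reps Cfsg.Agent.Nodes.BNOf Cfsg.Agent.Nodes.StabComb
  Cfsg.Agent.Nodes.Bruhat Cfsg.Agent.Nodes.LeviDec Cfsg.Agent.Nodes.NormalForm Cfsg.Agent.Nodes.CardSup
open Cfsg Cfsg.Lie Cfsg.Lie.ChevalleyDatum
open Cfsg.Agent.ChevalleyStructure Cfsg.Agent.ChevalleyStructure.Elts Cfsg.Agent.ChevalleyStructure.NPerm
  Cfsg.Agent.ChevalleyStructure.CoxeterGeomTypes
open Cfsg.Agent.Nodes.RGDChev Cfsg.Agent.OddHalf.LongSL Cfsg.Agent.OddHalf.LongSL.Chev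
open Cfsg.Agent.KFacts.RgdChevCoord (TT XX nc)
open Cfsg.Agent.UGT.U2.FOne.LongChev Cfsg.Agent.H81.PJCent Cfsg.Agent.H81.PJTab

theorem diag_pow {D : ChevalleyDatum} {K : Type*} [Field K] (hD : InList D) [Fintype K] {g : GL D.Idx K}
    (hg : g ∈ D.diagonalSubgroup K) : g ^ (Fintype.card K - 1) = 1 := by
  obtain ⟨χ, hχ⟩ := HMatDiagAll.mem_torus.1 (HMatDiagAll.diagonalSubgroup_le_torus hD hg)
  have hinv : ((g⁻¹ : GL D.Idx K) : Matrix D.Idx D.Idx K) * ((g : GL D.Idx K) : Matrix _ _ K) = 1 := by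
    rw [← Units.val_mul, inv_mul_cancel]; rfl
  have hne : ∀ i, χ i ≠ 0 := by
    intro i h0
    rw [hχ] at hinv
    have h1 := congrFun (congrFun hinv (Sum.inr i)) (Sum.inr i)
    rw [Matrix.mul_diagonal, Matrix.one_apply_eq, Sum.elim_inr, h0, mul_zero] at h1
    exact zero_ne_one h1
  apply Units.ext
  rw [Units.val_pow_eq_pow_val, hχ, Matrix.diagonal_pow, Units.val_one, ← Matrix.diagonal_one]
  congr 1
  funext i
  rcases i with i | i
  · simp
  · rw [Pi.pow_apply, Sum.elim_inr]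
    exact FiniteField.pow_card_sub_one_eq_one _ (hne i)

/-- a prime not dividing `|K| - 1` does not divide the order of a group of diagonal elements -/
theorem not_dvd_T {D : ChevalleyDatum} {K : Type*} [Field K] (hD : InList D) [Fintype K] {G : Subgroup (GL D.Idx K)}
    {T : Subgroup ↥G} (hT : ∀ t ∈ T, (t : GL D.Idx K) ∈ D.diagonalSubgroup K) {s : ℕ} (hs : s.Prime)
    (h1 : ¬ s ∣ Fintype.card K - 1) : ¬ s ∣ Nat.card ↥T := by
  classical
  have : Finite ↥G := inferInstance
  have : Fact s.Prime := ⟨hs⟩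
  intro h2
  obtain ⟨t, ht⟩ := exists_prime_orderOf_dvd_card' s h2
  apply h1
  rw [← ht]
  apply orderOf_dvd_of_pow_eq_one
  apply Subtype.ext
  apply Subtype.ext
  rw [Subgroup.coe_pow, Subgroup.coe_pow]
  exact diag_pow hD (hT t t.2)

section Main

variable {D : ChevalleyDatum} {l : ℕ} {M : CoxeterMatrix (Fin l)} (hp : IsType D l M) {K : Type} [Field K]

theorem card_X [Finite K] {W : Type*} [Group W] (cs : CoxeterSystem M W) {x : Fin l → ℤ}
    (hx : IsRoot cs hp.isCartan x) : Nat.card ↥(XX D l K x) = Nat.card K := by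
  rw [Nat.card_congr (Subgroup.subgroupOfEquivOfLe (XV_le_group hp x)).toEquiv]
  obtain ⟨r, hr, rfl⟩ := (isRoot_iff hp cs x).1 hx
  rw [XV_vec hp K hr]
  symm
  refine Nat.card_congr (Equiv.ofBijective (fun t : K => (⟨xG hp.inList r t,
    xG_mem_rootSubgroup hp.inList r t⟩ : ↥(D.rootSubgroup K r))) ⟨?_, ?_⟩)
  · intro t u e
    exact xG_injective hp.inList hr (congrArg Subtype.val e)
  · rintro ⟨g, hg⟩
    obtain ⟨t, rfl⟩ := (mem_rootSubgroup_iff hp.inList r g).1 hg
    exact ⟨t, rfl⟩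

/-- the action of a word on the indices of the roots -/
def act (D : ChevalleyDatum) {l : ℕ} (ω : List (Fin l)) (r : ℕ) : ℕ := ω.foldr (fun i s => D.reflectRoot i s) r

theorem rep_word {W : Type*} [Group W] (cs : CoxeterSystem M W) (ω : List (Fin l)) {r : ℕ} (hr : r < D.nroots) :
    act D ω r < D.nroots ∧ rep cs hp.isCartan (cs.wordProd ω) (vec D l r) = vec D l (act D ω r) := by
  induction ω with
  | nil =>
    refine ⟨hr, ?_⟩
    rw [wordProd_nil, map_one, Module.End.one_apply]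
    rfl
  | cons i ω ih =>
    refine ⟨reflectRoot_lt hp.inList (lt_rank hp i) ih.1, ?_⟩
    rw [wordProd_cons, rep_mul_apply, ih.2, rep_vec hp cs i ih.1]
    rfl

/-- the nodes `J` are orthogonal to the root `r` -/
def orthOK (D : ChevalleyDatum) {l : ℕ} (J : List (Fin l)) (r : ℕ) : Bool :=
  J.all fun j => D.reflectRoot j r == r && r != D.simple j && r != D.neg (D.simple j) && D.neg r != D.simple j &&
    D.neg r != D.neg (D.simple j) && (D.commTerms (D.simple j) r).isEmpty && (D.commTerms (D.simple j) (D.neg r)).isEmpty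

include hp in
/-- **A prime dividing the order of the centraliser of a long involution.** -/
theorem chev [Fintype K] (hK : Odd (Fintype.card K)) {i : Fin l} (h1 : Chev.chk D i = true)
    (h2 : chkOdd D i = true) {ω J : List (Fin l)} (h3 : orthOK D J (act D ω (D.simple i)) = true)
    {Al : List (List ℤ)} (hA : ∀ i j : Fin l, (Al.getD i []).getD j 0 = cartanOf D l i j) {l0 : List ℤ}
    {Tb : List (List ℤ × List (Fin l))} (hc : PJTab.chk l Al J l0 Tb = true) {s : ℕ} (hs : s.Prime)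
    (hsK : ¬ s ∣ Fintype.card K) (hsK1 : ¬ s ∣ Fintype.card K - 1)
    (hsum : s ∣ (Tb.map fun e => Fintype.card K ^ e.2.length).sum) :
    ∃ (j : ↥(D.group K)) (J : Subgroup ↥(D.group K)), Cfsg.Agent.H233.T.LongP (Fintype.card K) j J ∧
      s ∣ Nat.card ↥(Subgroup.centralizer ({j} : Set ↥(D.group K))) := by
  classical
  obtain ⟨p, hpc⟩ := CharP.exists K
  have hpp : p.Prime := (CharP.char_is_prime_or_zero K p).resolve_right (CharP.char_ne_zero_of_finite K p)
  have : Fact p.Prime := ⟨hpp⟩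
  have hsp : s ≠ p := by
    rintro rfl
    obtain ⟨n, hn⟩ := FiniteField.card K s
    apply hsK
    rw [hn.2]
    exact dvd_pow_self s n.2.ne'
  let cs : CoxeterSystem M M.Group := M.toCoxeterSystem
  have hfin : Finite M.Group := finite_W hp cs
  have hft : Fintype ↥(WJ cs {j | j ∈ J}) := Fintype.ofFinite _
  have R := rgd (K := K) hp cs p
  obtain ⟨z, hz1, hz2, hz3, hz4, hz5⟩ := long_of_orbit hp hK cs h1 h2 (cs.wordProd ω)
  have hr0 := simple_lt hp.inList (lt_rank hp i)
  obtain ⟨hr, hrep⟩ := rep_word hp cs ω hr0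
  set r := act D ω (D.simple i) with hrd
  have hb : rep cs hp.isCartan (cs.wordProd ω) (sr i) = vec D l r := by rw [← vec_simple hp i, hrep]
  rw [hb] at hz2 hz3 hz4 hz5
  have hbr : IsRoot cs hp.isCartan (vec D l r) := isRoot_vec hp cs hr
  have hJ : ∀ j ∈ J, D.reflectRoot j r = r ∧ (r ≠ D.simple j ∧ r ≠ D.neg (D.simple j) ∧ D.neg r ≠ D.simple j ∧
      D.neg r ≠ D.neg (D.simple j)) ∧ D.commTerms (D.simple j) r = [] ∧ D.commTerms (D.simple j) (D.neg r) = [] := by
    intro j hj
    have h4 := List.all_eq_true.1 h3 j hj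
    simp only [Bool.and_eq_true, beq_iff_eq, bne_iff_ne, List.isEmpty_iff] at h4
    exact ⟨h4.1.1.1.1.1.1, ⟨h4.1.1.1.1.1.2, h4.1.1.1.1.2, h4.1.1.1.2, h4.1.1.2⟩, h4.1.2, h4.2⟩
  refine ⟨z, _, ⟨hz1, hz2, hz3, hz4, hz5⟩, ?_⟩
  refine dvd_cent R hs hsp (not_dvd_T hp.inList (fun t ht => ?_) hs hsK1) (J := {j | j ∈ J}) hbr
    (fun j hj => ?_) (fun j hj u hu v hv => ?_) ?_ hz2
  · exact Subgroup.mem_subgroupOf.1 ht
  · rw [rep_vec hp cs j hr, (hJ j hj).1]
  · obtain ⟨e1, ⟨n1, n2, n3, n4⟩, c1, c2⟩ := hJ j hj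
    have hsj := simple_lt hp.inList (lt_rank hp j)
    have hu' : ∃ t, (u : GL D.Idx K) = xG hp.inList (D.simple j) t := by
      have hu1 : (u : GL D.Idx K) ∈ XV D l K (sr j) := Subgroup.mem_subgroupOf.1 hu
      rw [XV_sr hp j, mem_rootSubgroup_iff hp.inList] at hu1
      exact hu1
    obtain ⟨t, ht⟩ := hu'
    have h5 : XX D l K (vec D l r) ⊔ XX D l K (-vec D l r) ≤ Subgroup.centralizer ({u} : Set ↥(D.group K)) := by
      refine sup_le (fun v hv => ?_) (fun v hv => ?_)
      · rw [Subgroup.mem_centralizer_singleton_iff]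
        have hv1 : (v : GL D.Idx K) ∈ XV D l K (vec D l r) := Subgroup.mem_subgroupOf.1 hv
        rw [XV_vec hp K hr, mem_rootSubgroup_iff hp.inList] at hv1
        obtain ⟨c, hcv⟩ := hv1
        apply Subtype.ext
        rw [Subgroup.coe_mul, Subgroup.coe_mul, hcv, ht]
        exact commute_xG hp K hsj hr n1 n2 c1 t c
      · rw [Subgroup.mem_centralizer_singleton_iff]
        have hv1 : (v : GL D.Idx K) ∈ XV D l K (-vec D l r) := Subgroup.mem_subgroupOf.1 hv
        rw [← vec_neg hp hr, XV_vec hp K (neg_lt hp.inList hr), mem_rootSubgroup_iff hp.inList] at hv1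
        obtain ⟨c, hcv⟩ := hv1
        apply Subtype.ext
        rw [Subgroup.coe_mul, Subgroup.coe_mul, hcv, ht]
        exact commute_xG hp K hsj (neg_lt hp.inList hr) n3 n4 c2 t c
    exact (Subgroup.mem_centralizer_singleton_iff.1 (h5 hv)).symm
  · refine dvd_trans ?_ (sum_tab R hA hc)
    have h6 : (fun i : Fin l => Nat.card ↥(XX D l K (sr i))) = fun _ => Fintype.card K := by
      funext i
      rw [card_X hp cs (isRoot_sr cs hp.isCartan i), Nat.card_eq_fintype_card]
    have h8 : (Tb.map fun e => (e.2.map fun i => Nat.card ↥(XX D l K (sr i))).prod) =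
        Tb.map fun e => Fintype.card K ^ e.2.length := by
      refine List.map_congr_left fun e _ => ?_
      show (e.2.map fun i => Nat.card ↥(XX D l K (sr i))).prod = _
      rw [h6, List.map_const', List.prod_replicate]
    exact hsum.trans (dvd_of_eq (congrArg List.sum h8).symm)

end Main

end Cfsg.Agent.H81.PJChev
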