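import Cfsg.Agent.H81.PJSum

/-!
# Checked tables of coset representatives (helper81)

* `chk` : a table of pairs (functional, word), the orbit of `l0` under `W_J`;
* `sum_tab` : `∑_{w ∈ W_J} |U_w|` is a multiple of `∑_{table} ∏ |X (sr i)|`.
-/

set_option autoImplicit false
set_option linter.unusedSectionVars false

namespace Cfsg.Agent.H81.PJTab

open CoxeterSystem Cfsg.Agent.ChevalleyStructure.CoxeterGeom Cfsg.Agent.Tits.Roots Cfsg.Agent.Tits.Core
  Cfsg.Agent.Tits.Exchange Cfsg.Agent.Nodes.Reps Cfsg.Agent.Nodes.BNOf Cfsg.Agent.Nodes.StabComb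
  Cfsg.Agent.Nodes.Bruhat Cfsg.Agent.Nodes.LeviDec Cfsg.Agent.Nodes.NormalForm Cfsg.Agent.Nodes.CardSup
  Cfsg.Agent.H612.WModel Cfsg.Agent.H81.PJSum

/-- one step of the orbit of a functional -/
def fireL (Al : List (List ℤ)) (v : List ℤ) (j : ℕ) : List ℤ :=
  List.zipWith (fun m a => m - a * v.getD j 0) v (Al.getD j [])

/-- a list as a vector -/
def toF (l : ℕ) (v : List ℤ) : Fin l → ℤ := fun i => v.getD i 0

theorem toF_inj {l : ℕ} {v w : List ℤ} (hv : v.length = l) (hw : w.length = l) (h : toF l v = toF l w) : v = w := by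
  refine List.ext_getElem (hv.trans hw.symm) fun i h1 h2 => ?_
  have h3 := congrFun h ⟨i, hv ▸ h1⟩
  unfold toF at h3
  rwa [List.getD_eq_getElem _ _ h1, List.getD_eq_getElem _ _ h2] at h3

/-- the check of a table -/
def chk (l : ℕ) (Al : List (List ℤ)) (J : List (Fin l)) (l0 : List ℤ) (Tb : List (List ℤ × List (Fin l))) : Bool :=
  Al.length == l && (Al.all fun r => r.length == l) && l0.length == l && (l0.all fun x => decide (0 ≤ x)) &&
    ((List.finRange l).all fun i => l0.getD i 0 != 0 || J.contains i) && (Tb.map Prod.fst).contains l0 &&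
    (Tb.all fun e => e == (l0, []) ||
      Tb.any fun e' => J.any fun j => e.2 == e'.2 ++ [j] && decide (0 < e'.1.getD j 0) && e.1 == fireL Al e'.1 j) &&
    (Tb.all fun e => J.all fun j => (Tb.map Prod.fst).contains (fireL Al e.1 j)) &&
    decide (Tb.map Prod.fst).Nodup

/-- the consequences of the check -/
structure Ok (l : ℕ) (Al : List (List ℤ)) (J : List (Fin l)) (l0 : List ℤ) (Tb : List (List ℤ × List (Fin l))) :
    Prop where
  len : Al.length = l
  row : ∀ r ∈ Al, r.length = l
  len0 : l0.length = l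
  nn : ∀ x ∈ l0, 0 ≤ x
  zero : ∀ i : Fin l, l0.getD i 0 = 0 → i ∈ J
  base : ∃ e ∈ Tb, e.1 = l0
  step : ∀ e ∈ Tb, e = (l0, []) ∨ ∃ e' ∈ Tb, ∃ j ∈ J, e.2 = e'.2 ++ [j] ∧ 0 < e'.1.getD j 0 ∧ e.1 = fireL Al e'.1 j
  cl : ∀ e ∈ Tb, ∀ j ∈ J, ∃ e' ∈ Tb, e'.1 = fireL Al e.1 j
  nodup : (Tb.map Prod.fst).Nodup

theorem ok_of_chk {l : ℕ} {Al : List (List ℤ)} {J : List (Fin l)} {l0 : List ℤ}
    {Tb : List (List ℤ × List (Fin l))} (h : chk l Al J l0 Tb = true) : Ok l Al J l0 Tb := by
  unfold chk at h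
  simp only [Bool.and_eq_true, List.all_eq_true, beq_iff_eq, decide_eq_true_eq, Bool.or_eq_true, bne_iff_ne,
    List.any_eq_true, List.contains_iff_mem, List.mem_finRange, forall_true_left] at h
  obtain ⟨⟨⟨⟨⟨⟨⟨⟨h1, h2⟩, h3⟩, h4⟩, h5⟩, h6⟩, h7⟩, h8⟩, h9⟩ := h
  refine ⟨h1, h2, h3, h4, fun i hi => ?_, ?_, fun e he => ?_, fun e he j hj => ?_, h9⟩
  · exact (h5 i).resolve_left fun h => h hi
  · obtain ⟨e, he, h⟩ := List.mem_map.1 h6
    exact ⟨e, he, h⟩
  · rcases h7 e he with h | ⟨e', he', j, hj, ⟨ha, hb⟩, hc⟩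
    · exact Or.inl h
    · exact Or.inr ⟨e', he', j, hj, ha, hb, hc⟩
  · obtain ⟨e', he', h⟩ := List.mem_map.1 (h8 e he j hj)
    exact ⟨e', he', h⟩

section

variable {l : ℕ} {W Y : Type*} [Group W] [Group Y] {M : CoxeterMatrix (Fin l)}
  {cs : CoxeterSystem M W} {A : Fin l → Fin l → ℤ} {h : IsCartan M A} {p : ℕ} {T : Subgroup Y} {n : Fin l → Y}
  {X : (Fin l → ℤ) → Subgroup Y} {Al : List (List ℤ)} {J : List (Fin l)} {l0 : List ℤ}
  {Tb : List (List ℤ × List (Fin l))}

theorem Ok.row' (O : Ok l Al J l0 Tb) (j : Fin l) : (Al.getD j []).length = l := by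
  rw [List.getD_eq_getElem _ _ (by rw [O.len]; exact j.2)]
  exact O.row _ (List.getElem_mem _)

theorem Ok.len_fire (O : Ok l Al J l0 Tb) {v : List ℤ} (hv : v.length = l) (j : Fin l) :
    (fireL Al v j).length = l := by
  unfold fireL
  rw [List.length_zipWith, hv, O.row', min_self]

theorem Ok.toF_fire (O : Ok l Al J l0 Tb) (hA : ∀ i j : Fin l, (Al.getD i []).getD j 0 = A i j) {v : List ℤ}
    (hv : v.length = l) (j : Fin l) : toF l (fireL Al v j) = Cfsg.Agent.H905.DC.fire A (toF l v) j := by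
  funext m
  have h1 : (m : ℕ) < (List.zipWith (fun m a => m - a * v.getD j 0) v (Al.getD j [])).length := by
    have := O.len_fire hv j
    unfold fireL at this
    rw [this]
    exact m.2
  have h2 : (m : ℕ) < v.length := by rw [hv]; exact m.2
  have h3 : (m : ℕ) < (Al.getD j []).length := by rw [O.row']; exact m.2
  show (List.zipWith (fun m a => m - a * v.getD j 0) v (Al.getD j [])).getD m 0 = v.getD m 0 - A j m * v.getD j 0
  rw [List.getD_eq_getElem _ _ h1, List.getElem_zipWith, ← hA j m, List.getD_eq_getElem (Al.getD j []) _ h3]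
  congr 1
  rw [List.getD_eq_getElem v _ h2]

theorem Ok.len_tab (O : Ok l Al J l0 Tb) : ∀ (N : ℕ) (e : List ℤ × List (Fin l)), e ∈ Tb → e.2.length = N →
    e.1.length = l := by
  intro N
  induction N with
  | zero =>
    intro e he hN
    rcases O.step e he with rfl | ⟨e', he', j, hj, ha, hb, hc⟩
    · exact O.len0
    · rw [ha, List.length_append, List.length_singleton] at hN
      omega
  | succ N ih =>
    intro e he hN
    rcases O.step e he with rfl | ⟨e', he', j, hj, ha, hb, hc⟩
    · exact O.len0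
    · rw [ha, List.length_append, List.length_singleton] at hN
      rw [hc]
      exact O.len_fire (ih e' he' (by omega)) j

theorem Ok.spec (O : Ok l Al J l0 Tb) (hA : ∀ i j : Fin l, (Al.getD i []).getD j 0 = A i j) :
    ∀ (N : ℕ) (e : List ℤ × List (Fin l)), e ∈ Tb → e.2.length = N →
      fl cs h (toF l l0) (cs.wordProd e.2) = toF l e.1 ∧ cs.wordProd e.2 ∈ WJ cs {j | j ∈ J} ∧
        IsMinL cs {i | toF l l0 i = 0} (cs.wordProd e.2) ∧ cs.IsReduced e.2 := by
  have h0 : ∀ i, 0 ≤ toF l l0 i := by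
    intro i
    unfold toF
    have h1 : (i : ℕ) < l0.length := by rw [O.len0]; exact i.2
    rw [List.getD_eq_getElem _ _ h1]
    exact O.nn _ (List.getElem_mem _)
  have hbase : fl cs h (toF l l0) (cs.wordProd []) = toF l l0 ∧ cs.wordProd [] ∈ WJ cs {j | j ∈ J} ∧
        IsMinL cs {i | toF l l0 i = 0} (cs.wordProd []) ∧ cs.IsReduced [] := by
    rw [wordProd_nil]
    refine ⟨fl_one cs h _, one_mem _, isMinL_one cs _, ?_⟩
    unfold CoxeterSystem.IsReduced
    rw [wordProd_nil, cs.length_one, List.length_nil]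
  intro N
  induction N with
  | zero =>
    intro e he hN
    rcases O.step e he with rfl | ⟨e', he', j, hj, ha, hb, hc⟩
    · exact hbase
    · rw [ha, List.length_append, List.length_singleton] at hN
      omega
  | succ N ih =>
    intro e he hN
    rcases O.step e he with rfl | ⟨e', he', j, hj, ha, hb, hc⟩
    · exact hbase
    · rw [ha, List.length_append, List.length_singleton] at hN
      obtain ⟨h1, h2, h3, h4⟩ := ih e' he' (by omega)
      have hlen := O.len_tab _ e' he' rfl
      have h5 := min_step (h := h) (l := toF l l0) (w := cs.wordProd e'.2) (j := j) h0 h3 (by rw [h1]; exact hb)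
      rw [ha, hc, wordProd_append, wordProd_singleton]
      refine ⟨?_, mul_mem h2 (simple_mem_WJ cs hj), h5.1, ?_⟩
      · rw [fl_mul_simple, h1, O.toF_fire hA hlen]
      · unfold CoxeterSystem.IsReduced
        rw [wordProd_append, wordProd_singleton, h5.2, h4.eq, List.length_append, List.length_singleton]

/-- **The sum over `W_J` is a multiple of the sum over the table.** -/
theorem sum_tab (R : RGD cs h p T n X) [Finite W] (hA : ∀ i j : Fin l, (Al.getD i []).getD j 0 = A i j)
    (hc : chk l Al J l0 Tb = true) [Fintype ↥(WJ cs {j | j ∈ J})] :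
    (Tb.map fun e => (e.2.map fun i => Nat.card ↥(X (sr i))).prod).sum ∣
      ∑ w : ↥(WJ cs {j | j ∈ J}), Nat.card ↥(RGD.Sup X (NW cs h (w : W))) := by
  classical
  have O := ok_of_chk hc
  have h0 : ∀ i, 0 ≤ toF l l0 i := by
    intro i
    unfold toF
    have h1 : (i : ℕ) < l0.length := by rw [O.len0]; exact i.2
    rw [List.getD_eq_getElem _ _ h1]
    exact O.nn _ (List.getElem_mem _)
  have : Fintype ↥(WJ cs {i | toF l l0 i = 0}) := Fintype.ofFinite _
  have hsp := fun e he => O.spec (cs := cs) (h := h) hA e.2.length e he rfl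
  have key := sum_eq R (ι := Fin Tb.length) (fun a => cs.wordProd (Tb.get a).2) (l := toF l l0) (J := {j | j ∈ J}) h0
    (fun i hi => O.zero i hi) (fun a => (hsp _ (List.get_mem _ _)).2.1) (fun a => (hsp _ (List.get_mem _ _)).2.2.1)
    (fun a b hab => ?_) (fun w hw => ?_)
  · unfold f at key
    rw [key]
    have h2 : ∑ a : Fin Tb.length, Nat.card ↥(RGD.Sup X (NW cs h (cs.wordProd (Tb.get a).2))) =
        (Tb.map fun e => (e.2.map fun i => Nat.card ↥(X (sr i))).prod).sum := by
      rw [← Fin.sum_univ_fun_getElem]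
      refine Finset.sum_congr rfl fun a _ => ?_
      exact card_word R (hsp _ (List.get_mem _ _)).2.2.2
    rw [h2]
    exact dvd_mul_left _ _
  · have h1 : toF l (Tb.get a).1 = toF l (Tb.get b).1 := by
      rw [← (hsp _ (List.get_mem _ _)).1, ← (hsp _ (List.get_mem _ _)).1]
      exact hab
    have h2 := toF_inj (O.len_tab _ _ (List.get_mem _ _) rfl) (O.len_tab _ _ (List.get_mem _ _) rfl) h1
    have h3 := List.nodup_iff_injective_get.1 O.nodup
    have h4 : (Tb.map Prod.fst).get ⟨a, by rw [List.length_map]; exact a.2⟩ =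
        (Tb.map Prod.fst).get ⟨b, by rw [List.length_map]; exact b.2⟩ := by
      simp only [List.get_eq_getElem, List.getElem_map]
      exact h2
    have h5 := h3 h4
    rw [Fin.mk.injEq] at h5
    exact Fin.ext h5
  · -- every functional of the orbit is in the table
    obtain ⟨e0, he0, hb0⟩ := O.base
    have hex : ∃ e ∈ Tb, fl cs h (toF l l0) w = toF l e.1 := by
      obtain ⟨ω, hω, rfl⟩ := exists_word_of_mem_WJ cs hw
      clear hw
      induction ω using List.reverseRecOn with
      | nil =>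
        refine ⟨e0, he0, ?_⟩
        rw [wordProd_nil, fl_one, hb0]
      | append_singleton ω j ih =>
        obtain ⟨e, he, h1⟩ := ih (fun i hi => hω i (List.mem_append_left _ hi))
        have hj : j ∈ J := hω j (by simp)
        obtain ⟨e', he', h2⟩ := O.cl e he j hj
        refine ⟨e', he', ?_⟩
        rw [wordProd_append, wordProd_singleton, fl_mul_simple, h1, h2,
          O.toF_fire hA (O.len_tab _ e he rfl)]
    obtain ⟨e, he, h1⟩ := hex
    obtain ⟨a, rfl⟩ := List.mem_iff_get.1 he
    exact ⟨a, by rw [h1]; exact ((hsp _ (List.get_mem _ _)).1).symm⟩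

end

end Cfsg.Agent.H81.PJTab
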