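import Cfsg.Agent.H262.ElSympMiss
import Cfsg.Agent.H884.CgLin
import Cfsg.Agent.H899.Cyc.CycOut
import Cfsg.Agent.S0270
import Cfsg.Agent.S0247

/-!
# Cyclic primes of the symplectic groups (CYC-GEO-S, for S3561 and S3679; helper81)

* `finrank_cm`  : commutator spaces of the elements of order `r` of `Sp_2m(q)`, `ord_r(q) = e > m` even or `e > m / 2`
  odd;
* `cycW_psp`    : `CycW (PSp m F) r`;
* `cyc_psp`     : `Cyc (PSp m F) r` for the primes `r` prime to the exponent of `q`.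
-/

set_option autoImplicit false

namespace Cfsg.Agent.H81.CycS

open Cfsg Cfsg.Geo Module
open Cfsg.Agent.H884.El (PP oddE oddE_of_even oddE_of_odd oddE_odd exists_char one_lt_q lin lin_one ord_eq lin_ne_one)
open Cfsg.Agent.ClassicalGeometry.SympBasic Cfsg.Agent.H876 Cfsg.Agent.H931 Cfsg.Agent.H262.El
open Cfsg.Agent.H899.CG Cfsg.Agent.H436
open Cfsg.Agent.H951 (fx cm Inv)
open scoped Matrix MatrixGroups

universe u

/-- primitivity: the two definitions -/
theorem pp_of_prim {q e r : ℕ} (hq : 1 ≤ q) (h : Prim q e r) : PP q e r := by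
  refine ⟨h.prime, ?_⟩
  have h1 : ∀ k : ℕ, (q : ZMod r) ^ k = 1 ↔ r ∣ q ^ k - 1 := by
    intro k
    have h2 : ((q ^ k - 1 : ℕ) : ZMod r) = (q : ZMod r) ^ k - 1 := by
      rw [Nat.cast_sub (Nat.one_le_pow _ _ hq)]
      simp
    rw [← ZMod.natCast_eq_zero_iff, h2, sub_eq_zero]
  apply Nat.dvd_antisymm
  · rw [orderOf_dvd_iff_pow_eq_one, h1, h.dvd_iff]
  · rw [← h.dvd_iff, ← h1]
    exact pow_orderOf_eq_one _

theorem prim_of_pp {q e r : ℕ} (hq : 1 ≤ q) (he : 1 ≤ e) (h : PP q e r) : Prim q e r :=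
  ⟨h.prime, fun m => h.dvd_iff hq m, h.not_dvd he⟩

section gen

variable {F : Type u} [Field F] [Fintype F] {m : ℕ}

/-- the representation of `Sp_2m` -/
noncomputable def rep (m : ℕ) (F : Type u) [Field F] :
    Matrix.symplecticGroup (Fin m) F →* Module.End F (Fin m ⊕ Fin m → F) where
  toFun x := lin (spToGL m F x)
  map_one' := by rw [map_one]; exact lin_one
  map_mul' x y := by
    rw [map_mul]
    show Matrix.toLin' _ = _
    rw [Units.val_mul, Matrix.toLin'_mul]
    rfl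

omit [Fintype F] in
theorem rep_injective : Function.Injective (rep m F) := fun _ _ h =>
  spToGL_injective (Cfsg.Agent.H884.El.lin_injective h)

theorem lin_pow (g : GL (Fin m ⊕ Fin m) F) (k : ℕ) : lin (g ^ k) = lin g ^ k := H251.GeoCard.toLin_pow g k

theorem finrank_cm {g : GL (Fin m ⊕ Fin m) F} (hg : g ∈ spGL m F) {e r : ℕ} (hr : PP (Nat.card F) e r)
    (he : 3 ≤ e) (hgr : g ^ r = 1) (hg1 : g ≠ 1) (h : (Even e ∧ m < e) ∨ (Odd e ∧ m < 2 * e)) :
    (Even e ∧ finrank F (cm (lin g)) = e) ∨ (Odd e ∧ finrank F (cm (lin g)) = 2 * e) := by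
  have hne : (r : F) ≠ 0 := hr.ne0 (by omega)
  have hprime := Fact.mk hr.prime
  have hx : lin g ^ r = 1 := by rw [← lin_pow, hgr]; exact lin_one
  have hcf : cm (lin g) ⊓ fx (lin g) = ⊥ := by
    rw [inf_comm]; exact (H951.isCompl_fx_cm hne hx).inf_eq_bot
  have hdvd : e ∣ finrank F (cm (lin g)) := by
    have h1 := H951.ord_dvd_finrank hx H951.inv_cm hcf
    rwa [ord_eq hr] at h1
  have hadd : finrank F (cm (lin g)) + finrank F (fx (lin g)) = 2 * m := by
    have h1 := LinearMap.finrank_range_add_finrank_ker (lin g - 1)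
    rw [Module.finrank_fintype_fun_eq_card, card_sum_fin] at h1
    exact h1
  have hfix : fixS g = fx (lin g) := by
    ext v
    rw [mem_fixS, H951.mem_fx, lin, Matrix.toLin'_apply]
  have hev : Even (finrank F (fx (lin g))) := by
    rw [← hfix]
    exact even_fixS hg hne hgr
  have hpos : finrank F (cm (lin g)) ≠ 0 := fun h0 =>
    Cfsg.Agent.H884.El.cm_ne_bot (lin_ne_one hg1) (Submodule.finrank_eq_zero.1 h0)
  obtain ⟨c, hc⟩ := hdvd
  obtain ⟨d, hd⟩ := hev
  have hc0 : c ≠ 0 := by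
    rintro rfl
    exact hpos (by rw [hc, mul_zero])
  rcases h with ⟨h1, h2⟩ | ⟨h1, h2⟩
  · left
    refine ⟨h1, ?_⟩
    have hc2 : c < 2 := by
      by_contra hcon
      have := Nat.mul_le_mul_left e (show 2 ≤ c by omega)
      omega
    obtain rfl : c = 1 := by omega
    rw [hc, mul_one]
  · right
    refine ⟨h1, ?_⟩
    have hc4 : c < 4 := by
      by_contra hcon
      have := Nat.mul_le_mul_left e (show 4 ≤ c by omega)
      omega
    have hce : Even (e * c) := by
      rw [← hc]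
      exact ⟨m - d, by omega⟩
    have hc' : Even c := by
      rcases Nat.even_mul.1 hce with h3 | h3
      · exact absurd h1 (Nat.not_odd_iff_even.2 h3)
      · exact h3
    obtain ⟨k, hk⟩ := hc'
    obtain rfl : c = 2 := by omega
    rw [hc, mul_comm]

theorem dvd_card_of (hm : 1 ≤ m) {e r : ℕ} (he : 3 ≤ e) (hr : PP (Nat.card F) e r)
    (h : (Even e ∧ e ≤ 2 * m) ∨ (Odd e ∧ e ≤ m)) : r ∣ Nat.card (PSp m F) := by
  have hr2 : r ≠ 2 := by have := hr.lt (by omega); omega
  refine dvd_card_PSp hm hr.prime hr2 ?_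
  rcases h with ⟨⟨k, hk⟩, h2⟩ | ⟨-, h2⟩
  · exact dvd_card_spGL (k := k) hm (od_of_pp hr (by omega)) (by rw [hk, ← two_mul]) (by omega) (by omega)
  · exact dvd_card_spGL (k := e) hm (od_of_pp hr (by omega)) (Dvd.intro_left 2 rfl) (by omega) h2

/-- **Cyclic primes of `PSp_2m(q)`, weak form.** -/
theorem cycW_psp {e r : ℕ} (he3 : 3 ≤ e)
    (h : (Even e ∧ e ≤ 2 * m ∧ m < e) ∨ (Odd e ∧ e ≤ m ∧ m < 2 * e)) (hr : PP (Nat.card F) e r) :
    CycW (PSp m F) r := by
  have hlt := hr.lt (by omega)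
  have hm : 1 ≤ m := by omega
  have hr2 : r ≠ 2 := by omega
  have hne : (r : F) ≠ 0 := hr.ne0 (by omega)
  have hfin : Finite (Matrix.symplecticGroup (Fin m) F) := inferInstance
  have hprime := Fact.mk hr.prime
  have hdim : ∀ g : Matrix.symplecticGroup (Fin m) F, g ^ r = 1 → g ≠ 1 →
      (Even e ∧ finrank F (cm (rep m F g)) = e) ∨ (Odd e ∧ finrank F (cm (rep m F g)) = 2 * e) := by
    intro g hgr hg1
    refine finrank_cm (spToGL_mem g) hr he3 (by rw [← map_pow, hgr, map_one]) ?_ ?_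
    · intro h1
      exact hg1 (spToGL_injective (by rw [h1, map_one]))
    · rcases h with ⟨h1, -, h3⟩ | ⟨h1, -, h3⟩
      · exact Or.inl ⟨h1, h3⟩
      · exact Or.inr ⟨h1, h3⟩
  have hU : ∀ g : Matrix.symplecticGroup (Fin m) F, g ^ r = 1 → ∀ U : Submodule F (Fin m ⊕ Fin m → F),
      Inv (rep m F g) U → U ⊓ fx (rep m F g) = ⊥ → U ≠ ⊥ → e ≤ finrank F U := by
    intro x hx U hU hUf hU0
    have hxr : rep m F x ^ r = 1 := by rw [← map_pow, hx, map_one]
    have h1 := H951.ord_dvd_finrank hxr hU hUf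
    rw [ord_eq hr] at h1
    exact Nat.le_of_dvd (Nat.pos_of_ne_zero fun h => hU0 (Submodule.finrank_eq_zero.1 h)) h1
  have hK : (QuotientGroup.mk' (Subgroup.center (Matrix.symplecticGroup (Fin m) F))).ker ≤
      Subgroup.center (Matrix.symplecticGroup (Fin m) F) := by rw [QuotientGroup.ker_mk']
  have hrK : ¬ r ∣ Nat.card (QuotientGroup.mk' (Subgroup.center (Matrix.symplecticGroup (Fin m) F))).ker := by
    rw [QuotientGroup.ker_mk', Cfsg.Agent.S0246.result (q := Fintype.card F) rfl m hm]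
    intro h1
    exact hr2 ((Nat.prime_dvd_prime_iff_eq hr.prime Nat.prime_two).1 (h1.trans (Nat.gcd_dvd_left _ _)))
  have hrT : r ∣ Nat.card (PSp m F) := dvd_card_of hm he3 hr (by
    rcases h with ⟨h1, h2, -⟩ | ⟨h1, h2, -⟩
    · exact Or.inl ⟨h1, h2⟩
    · exact Or.inr ⟨h1, h2⟩)
  rcases Nat.even_or_odd e with hev | hod
  · exact H884.Cg.cycW_of (F := F) (d := e) (QuotientGroup.mk' (Subgroup.center (Matrix.symplecticGroup (Fin m) F)))
      (QuotientGroup.mk'_surjective _) hK hr.prime (by omega) hne hrK hrT (rep m F) rep_injective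
      (show 0 < e by omega) (by omega)
      (fun g hgr hg1 => (hdim g hgr hg1).elim (fun h1 => h1.2) (fun h1 => absurd h1.1 (Nat.not_odd_iff_even.2 hev))) hU
  · exact H884.Cg.cycW_of (F := F) (d := 2 * e)
      (QuotientGroup.mk' (Subgroup.center (Matrix.symplecticGroup (Fin m) F)))
      (QuotientGroup.mk'_surjective _) hK hr.prime (by omega) hne hrK hrT (rep m F) rep_injective
      (show 0 < e by omega) le_rfl
      (fun g hgr hg1 => (hdim g hgr hg1).elim (fun h1 => absurd h1.1 (Nat.not_even_iff_odd.2 hod)) (fun h1 => h1.2)) hU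

end gen

variable {F : Type} [Field F] [Fintype F] {m : ℕ}

theorem psp_na (hm : 2 ≤ m) (h22 : m = 2 → 3 ≤ Fintype.card F) : ¬ ∀ a b : PSp m F, a * b = b * a := by
  intro h
  have hs : IsSimpleGroup (PSp m F) := S0270.result m hm h22
  let _ : CommGroup (PSp m F) := { (inferInstance : Group (PSp m F)) with mul_comm := h }
  obtain ⟨x, hx⟩ := exists_ne (1 : PSp m F)
  obtain ⟨g, rfl⟩ := QuotientGroup.mk'_surjective _ x
  apply hx
  refine LieClassical.SympPerfect.map_eq_one (A := PSp m F) ?_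
    (QuotientGroup.mk' (Subgroup.center (Matrix.symplecticGroup (Fin m) F))) g
  by_cases h2 : m = 2
  · exact Or.inr (Or.inl ⟨h2, h22 h2⟩)
  · left; omega

/-- **Cyclic primes of `PSp_2m(q)`.** -/
theorem cyc_psp' {e r : ℕ} (he3 : 3 ≤ e)
    (h : (Even e ∧ e ≤ 2 * m ∧ m < e) ∨ (Odd e ∧ e ≤ m ∧ m < 2 * e)) (hr : PP (Nat.card F) e r)
    (hndf : NDF (Fintype.card F) r) : Cyc (PSp m F) r := by
  have hW := cycW_psp (F := F) he3 h hr
  have hlt := hr.lt (by omega)
  have hm : 2 ≤ m := by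
    rcases h with ⟨⟨k, hk⟩, h2, -⟩ | ⟨-, h2, -⟩ <;> omega
  by_cases h22 : m = 2 ∧ Fintype.card F = 2
  · -- `PSp_4(2)` has order `720`
    obtain ⟨rfl, hF⟩ := h22
    have he4 : e = 4 := by
      rcases h with ⟨⟨k, hk⟩, h2, h3⟩ | ⟨-, h2, -⟩ <;> omega
    subst he4
    have hr5 : r = 5 := by
      have h1 := (hr.dvd_iff (one_lt_q F).le 4).2 dvd_rfl
      rw [Nat.card_eq_fintype_card, hF] at h1
      have h3 : r ∣ 3 * 5 := h1
      rcases hr.prime.dvd_mul.1 h3 with h4 | h4
      · have := Nat.le_of_dvd (by norm_num) h4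
        omega
      · have := Nat.le_of_dvd (by norm_num) h4
        have := hr.prime
        omega
    subst hr5
    refine cyc_of_sq (by norm_num) hW.2.1 ?_
    intro h1
    have h2 : 5 ^ 2 ∣ Nat.card (Matrix.symplecticGroup (Fin 2) F) :=
      h1.trans (Subgroup.card_quotient_dvd_card _)
    obtain ⟨φ⟩ := Cfsg.Agent.S0247.result (F := F) hF
    rw [Nat.card_congr φ.toEquiv, Nat.card_perm, Nat.card_eq_fintype_card, Fintype.card_fin] at h2
    exact absurd h2 (by decide)
  · have hq := one_lt_q F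
    rw [Nat.card_eq_fintype_card] at hq
    have h3 : m = 2 → 3 ≤ Fintype.card F := fun hm2 => by
      by_contra hcon
      exact h22 ⟨hm2, by omega⟩
    have hs : IsSimpleGroup (PSp m F) := S0270.result m hm h3
    have hfin : Finite (PSp m F) := Quotient.finite _
    obtain ⟨p, f, hp, hf, hpF⟩ := exists_char F
    have hn : IsNamed (.psp m (Fintype.card F)) (PSp m F) :=
      .mk' ⟨F, inferInstance, inferInstance, rfl, ⟨MulEquiv.refl _⟩⟩
        ⟨hm, h3, Fintype.isPrimePow_card_of_field⟩ (psp_eq hm)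
    have h5 : 5 ≤ r := by
      by_contra hcon
      have h4 : r = 4 := by omega
      have := hr.prime
      rw [h4] at this
      exact absurd this (by norm_num)
    exact cyc_of_weak (psp_na hm h3) hp hn ⟨f, by rw [← hpF, Nat.card_eq_fintype_card]⟩ h5 hndf trivial hW

/-- **Cyclic primes of `PSp_2m(q)`.** -/
theorem cyc_psp {e u : ℕ} (he3 : 3 ≤ e)
    (h : (Even e ∧ e ≤ 2 * m ∧ m < e) ∨ (Odd e ∧ e ≤ m ∧ m < 2 * e)) (hu : Prim (Fintype.card F) e u)
    (hndf : NDF (Fintype.card F) u) : Cyc (PSp m F) u :=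
  cyc_psp' he3 h (by rw [Nat.card_eq_fintype_card]; exact pp_of_prim Fintype.card_pos hu) hndf

end Cfsg.Agent.H81.CycS
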