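import Cfsg.Agent.H316.U6
import Cfsg.Agent.Nodes.RGDFoldSL
import Cfsg.Agent.KFacts.Mult.Chev

/-!
# Toral elementary abelian subgroups and centralisers of the highest root group, `p ∣ q² - 1` (hub H9, U4, U5)

`m : MData hp r q K₀`. A root `s` fixed by the Frobenius automorphism gives an element `x_s` of order `p` of `K₀` in
`⟨X_s, X_{-s}⟩` (for every odd prime `p ∣ q² - 1`), conjugate to `h_s(ζ)` in `⟨X_s, X_{-s}⟩`.
-/

set_option autoImplicit false
set_option linter.unusedSectionVars false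

namespace Cfsg.Agent.H81.TorOrth

open CoxeterSystem Cfsg Cfsg.Lie Cfsg.Lie.ChevalleyDatum
open Cfsg.Agent.ChevalleyStructure Cfsg.Agent.ChevalleyStructure.Elts Cfsg.Agent.ChevalleyStructure.CoxeterGeom
  Cfsg.Agent.ChevalleyStructure.CoxeterGeomTypes Cfsg.Agent.ChevalleyStructure.NPerm
open Cfsg.Agent.Tits.Roots Cfsg.Agent.Tits.Core Cfsg.Agent.Nodes Cfsg.Agent.Nodes.Reps Cfsg.Agent.Nodes.BNOf
  Cfsg.Agent.Nodes.RGDChev
open Cfsg.Agent.KFacts.RgdChevCoord
open Cfsg.Agent.ChevalleyStructure.SL2Hom (up lo)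
open Cfsg.Agent.Nodes.RGDFold Cfsg.Agent.Nodes.RGDFoldSL
open Cfsg.Agent.H469.Exc Cfsg.Agent.H469.Exc.SigFr Cfsg.Agent.H316.U6
open Cfsg.Agent.BpExc.LangFr
open Cfsg.Agent.ChevalleyStructure.HMatDiagAll (expo)

universe u v

/-! ### commuting elements of order `p` -/

theorem card_sup {G : Type*} [Group G] {p : ℕ} [hp : Fact p.Prime] {a b : G} (ha : orderOf a = p) (hb : orderOf b = p)
    (hc : a * b = b * a) (hn : ∀ i j : ℕ, a ^ i * b ^ j = 1 → p ∣ i) :
    Nat.card ↥(Subgroup.zpowers a ⊔ Subgroup.zpowers b) = p ^ 2 := by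
  have hcomm : ∀ (x : ↥(Subgroup.zpowers a)) (y : ↥(Subgroup.zpowers b)),
      Commute ((Subgroup.zpowers a).subtype x) ((Subgroup.zpowers b).subtype y) := by
    rintro ⟨x, i, rfl⟩ ⟨y, j, rfl⟩
    exact (show Commute a b from hc).zpow_zpow i j
  let f := MonoidHom.noncommCoprod (Subgroup.zpowers a).subtype (Subgroup.zpowers b).subtype hcomm
  have hfa : IsOfFinOrder a := orderOf_pos_iff.1 (by rw [ha]; exact hp.out.pos)
  have hfb : IsOfFinOrder b := orderOf_pos_iff.1 (by rw [hb]; exact hp.out.pos)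
  have hinj : Function.Injective f := by
    rw [injective_iff_map_eq_one]
    rintro ⟨⟨x, hx⟩, ⟨y, hy⟩⟩ h
    obtain ⟨i, rfl⟩ := hfa.mem_powers_iff_mem_zpowers.2 hx
    obtain ⟨j, rfl⟩ := hfb.mem_powers_iff_mem_zpowers.2 hy
    have h1 : a ^ i * b ^ j = 1 := h
    have h2 := hn i j h1
    have h3 : a ^ i = 1 := by
      rw [← orderOf_dvd_iff_pow_eq_one, ha]
      exact h2
    rw [h3, one_mul] at h1
    exact Prod.ext (Subtype.ext h3) (Subtype.ext h1)
  have hr : f.range = Subgroup.zpowers a ⊔ Subgroup.zpowers b := by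
    rw [MonoidHom.noncommCoprod_range, Subgroup.range_subtype, Subgroup.range_subtype]
  rw [← hr, Nat.card_congr (MonoidHom.ofInjective hinj).symm.toEquiv, Nat.card_prod, Nat.card_zpowers,
    Nat.card_zpowers, ha, hb, sq]

/-! ### the matrix -/

section Mat

variable {k : Type*} [Field k]

/-- the matrix `(0, -λ; λ⁻¹, τ)` -/
def mA (c t : k) : Matrix.SpecialLinearGroup (Fin 2) k := up (-c) * lo c⁻¹ * up (c * (t - 1))

/-- the matrix `(1, λζ; δ, δλζ⁻¹)` -/
def mW {c z : k} (hc : c ≠ 0) (hz : z ≠ 0) (hz2 : z * z ≠ 1) : Matrix.SpecialLinearGroup (Fin 2) k :=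
  ⟨!![1, c * z; (c * (z⁻¹ - z))⁻¹, (c * (z⁻¹ - z))⁻¹ * (c * z⁻¹)], by
    have h1 : z⁻¹ - z ≠ 0 := by
      intro h
      apply hz2
      have h2 : z⁻¹ = z := sub_eq_zero.1 h
      calc z * z = z * z⁻¹ := by rw [h2]
        _ = 1 := mul_inv_cancel₀ hz
    have h3 : c * (z⁻¹ - z) ≠ 0 := mul_ne_zero hc h1
    rw [Matrix.det_fin_two_of]
    calc 1 * ((c * (z⁻¹ - z))⁻¹ * (c * z⁻¹)) - c * z * (c * (z⁻¹ - z))⁻¹ =
        (c * (z⁻¹ - z))⁻¹ * (c * (z⁻¹ - z)) := by ring
      _ = 1 := inv_mul_cancel₀ h3⟩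

theorem coe_mA {c : k} (hc : c ≠ 0) (t : k) :
    ((mA c t : Matrix.SpecialLinearGroup (Fin 2) k) : Matrix (Fin 2) (Fin 2) k) = !![0, -c; c⁻¹, t] := by
  unfold mA
  rw [Matrix.SpecialLinearGroup.coe_mul, Matrix.SpecialLinearGroup.coe_mul]
  show (!![1, -c; 0, 1] : Matrix (Fin 2) (Fin 2) k) * !![1, 0; c⁻¹, 1] * !![1, c * (t - 1); 0, 1] = _
  ext i j
  fin_cases i <;> fin_cases j <;> simp [Matrix.mul_apply, Fin.sum_univ_two, hc]

theorem mW_conj {c z : k} (hc : c ≠ 0) (hz : z ≠ 0) (hz2 : z * z ≠ 1) :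
    mW hc hz hz2 * mA c (z + z⁻¹) * (mW hc hz hz2)⁻¹ = hS z := by
  rw [mul_inv_eq_iff_eq_mul]
  apply Subtype.ext
  rw [Matrix.SpecialLinearGroup.coe_mul, Matrix.SpecialLinearGroup.coe_mul, coe_mA hc, coe_hS hz]
  show (!![1, c * z; (c * (z⁻¹ - z))⁻¹, (c * (z⁻¹ - z))⁻¹ * (c * z⁻¹)] : Matrix (Fin 2) (Fin 2) k) * _ =
    _ * !![1, c * z; (c * (z⁻¹ - z))⁻¹, (c * (z⁻¹ - z))⁻¹ * (c * z⁻¹)]
  have h1 : z⁻¹ - z ≠ 0 := by
    intro h
    apply hz2
    have h2 : z⁻¹ = z := sub_eq_zero.1 h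
    calc z * z = z * z⁻¹ := by rw [h2]
      _ = 1 := mul_inv_cancel₀ hz
  ext i j
  fin_cases i <;> fin_cases j <;> simp [Matrix.mul_apply, Fin.sum_univ_two] <;> field_simp <;> ring

end Mat

/-! ### the homomorphism of a root -/

section Ps

variable {D : ChevalleyDatum} {l : ℕ} {M : CoxeterMatrix (Fin l)} (hp : IsType D l M) {k : Type u} [Field k]

include hp in
theorem root_le_group (s : ℕ) : D.rootSubgroup k s ≤ D.group k := by
  intro g hg
  obtain ⟨t, rfl⟩ := (mem_rootSubgroup_iff hp.inList s g).1 hg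
  exact xG_mem_group hp.inList s t

include hp in
/-- the homomorphism `SL₂(k) → D.group k` of the root `s` -/
noncomputable def ps {s : ℕ} (hs : s < D.nroots) : Matrix.SpecialLinearGroup (Fin 2) k →* ↥(D.group k) :=
  (psi hp.inList k s).codRestrict (D.group k) (fun g =>
    (sup_le (root_le_group hp s) (root_le_group hp (D.neg s))) (psi_mem hp.inList hs g))

theorem coe_ps {s : ℕ} (hs : s < D.nroots) (g : Matrix.SpecialLinearGroup (Fin 2) k) :
    ((ps hp hs g : ↥(D.group k)) : GL D.Idx k) = psi hp.inList k s g := rfl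

theorem ps_up {s : ℕ} (hs : s < D.nroots) (t : k) : ps hp hs (up t) = xs hp.inList s t :=
  Subtype.ext (psi_up hp.inList hs t)

theorem ps_lo {s : ℕ} (hs : s < D.nroots) (t : k) : ps hp hs (lo t) = xs hp.inList (D.neg s) t :=
  Subtype.ext (psi_lo hp.inList hs t)

theorem coe_ps_hS {s : ℕ} (hs : s < D.nroots) (t : k) :
    ((ps hp hs (hS t) : ↥(D.group k)) : GL D.Idx k) = hG hp.inList s t := by
  rw [coe_ps, psi_hS hp.inList hs]

theorem ps_hS_mem {s : ℕ} (hs : s < D.nroots) {t : k} (ht : t ≠ 0) : ps hp hs (hS t) ∈ TT D k := by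
  rw [Subgroup.mem_subgroupOf, coe_ps_hS]
  exact hG_mem_diagonal hp.inList hs ht

/-- the entries of powers of `h_s(t)` -/
theorem entry {s : ℕ} (hs : s < D.nroots) {t : k} (ht : t ≠ 0) (i : ℕ) :
    (((ps hp hs (hS t) ^ i : ↥(D.group k)) : GL D.Idx k) : Matrix D.Idx D.Idx k) =
      Matrix.diagonal (Sum.elim (fun _ => (1 : k)) (fun s' : Fin D.nroots => (t ^ expo D s s'.val) ^ i)) := by
  rw [Subgroup.coe_pow, Units.val_pow_eq_pow_val, coe_ps_hS, coe_hG,
    HMatDiagAll.hMat_eq_diagonal hp.inList hs ht, Matrix.diagonal_pow]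
  congr 1
  funext j
  rcases j with j | j
  · simp
  · simp

theorem expo_self (s : ℕ) : expo D s s = 2 := by
  rw [HMatDiagAll.expo_def, if_pos rfl]

/-- the four commutation relations -/
def Cm (D : ChevalleyDatum) (s t : ℕ) : Bool :=
  (t != s) && (t != D.neg s) && (D.neg t != s) && (D.neg t != D.neg s) && (t != D.neg (D.neg s)) &&
  (D.neg t != D.neg (D.neg s)) &&
  (D.commTerms s t).isEmpty && (D.commTerms s (D.neg t)).isEmpty && (D.commTerms (D.neg s) t).isEmpty &&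
  (D.commTerms (D.neg s) (D.neg t)).isEmpty

include hp in
theorem comm_of_Cm {s t : ℕ} (hs : s < D.nroots) (ht : t < D.nroots) (h : Cm D s t = true)
    {x y : GL D.Idx k} (hx : x ∈ D.rootSubgroup k s ⊔ D.rootSubgroup k (D.neg s))
    (hy : y ∈ D.rootSubgroup k t ⊔ D.rootSubgroup k (D.neg t)) : x * y = y * x := by
  unfold Cm at h
  simp only [Bool.and_eq_true, bne_iff_ne, ne_eq] at h
  obtain ⟨⟨⟨⟨⟨⟨⟨⟨⟨h1, h2⟩, h3⟩, h4⟩, h5⟩, h6⟩, c1⟩, c2⟩, c3⟩, c4⟩ := h
  have hs' := neg_lt hp.inList hs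
  have ht' := neg_lt hp.inList ht
  have key : ∀ {a b : ℕ}, a < D.nroots → b < D.nroots → b ≠ a → b ≠ D.neg a → (D.commTerms a b).isEmpty = true →
      ∀ x ∈ D.rootSubgroup k a, ∀ y ∈ D.rootSubgroup k b, x * y = y * x := by
    intro a b ha hb hab hab' he x hx y hy
    obtain ⟨u, rfl⟩ := (mem_rootSubgroup_iff hp.inList a x).1 hx
    obtain ⟨v, rfl⟩ := (mem_rootSubgroup_iff hp.inList b y).1 hy
    exact (Cfsg.Agent.KFacts.Mult.Chev.commute_of_empty hp ha hb hab hab' he u v).symm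
  have hle : D.rootSubgroup k s ⊔ D.rootSubgroup k (D.neg s) ≤
      Subgroup.centralizer ((D.rootSubgroup k t ⊔ D.rootSubgroup k (D.neg t) : Subgroup (GL D.Idx k)) : Set _) := by
    refine sup_le ?_ ?_
    · rw [Subgroup.le_centralizer_iff]
      refine sup_le ?_ ?_
      · intro y hy
        exact Subgroup.mem_centralizer_iff.2 fun x hx => key hs ht h1 h2 c1 x hx y hy
      · intro y hy
        exact Subgroup.mem_centralizer_iff.2 fun x hx => key hs ht' h3 h4 c2 x hx y hy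
    · rw [Subgroup.le_centralizer_iff]
      refine sup_le ?_ ?_
      · intro y hy
        exact Subgroup.mem_centralizer_iff.2 fun x hx => key hs' ht h2 h5 c3 x hx y hy
      · intro y hy
        exact Subgroup.mem_centralizer_iff.2 fun x hx => key hs' ht' h4 h6 c4 x hx y hy
  exact (Subgroup.mem_centralizer_iff.1 (hle hx) y hy).symm

theorem ps_comm {s t : ℕ} (hs : s < D.nroots) (ht : t < D.nroots) (h : Cm D s t = true)
    (x y : Matrix.SpecialLinearGroup (Fin 2) k) : ps hp hs x * ps hp ht y = ps hp ht y * ps hp hs x :=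
  Subtype.ext (comm_of_Cm hp hs ht h (psi_mem hp.inList hs x) (psi_mem hp.inList ht y))

end Ps

/-! ### the elements of order `p` -/

section Main

variable {D : ChevalleyDatum} {l : ℕ} {M : CoxeterMatrix (Fin l)} {hp : IsType D l M} {r q : ℕ}
  [hr : Fact r.Prime] {K₀ : Type v} [Group K₀] (m : MData hp r q K₀)

include hp in
theorem xs_pow_r (s : ℕ) (t : KK r) : xs hp.inList s t ^ r = 1 := by
  have key : ∀ n : ℕ, xs hp.inList s t ^ n = xs hp.inList s ((n : KK r) * t) := by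
    intro n
    induction n with
    | zero =>
      rw [pow_zero, Nat.cast_zero, zero_mul]
      exact Subtype.ext (xG_zero hp.inList s).symm
    | succ n ih =>
      rw [pow_succ, ih, Nat.cast_succ, add_mul, one_mul]
      exact Subtype.ext (xG_add hp.inList s _ _)
  rw [key, CharP.cast_eq_zero, zero_mul]
  exact Subtype.ext (xG_zero hp.inList s)

/-- **the element** `x_s` -/
theorem exists_elt {p : ℕ} [hpp : Fact p.Prime] (hp2 : p ≠ 2) (_hpr : p ≠ r) (hd : p ∣ q ^ 2 - 1) {s : ℕ}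
    (hs : s < D.nroots) (hg : m.g (vec D l s) = vec D l s) {z : KK r} (hz : IsPrimitiveRoot z p) :
    ∃ (a : K₀) (g w : Matrix.SpecialLinearGroup (Fin 2) (KK r)), m.ι a = ps hp hs g ∧ w * g * w⁻¹ = hS z := by
  have hz0 : z ≠ 0 := hz.ne_zero hpp.out.ne_zero
  have hz2 : z * z ≠ 1 := by
    intro h
    have h1 : p ∣ 2 := hz.dvd_of_pow_eq_one 2 (by rw [sq]; exact h)
    exact hp2 ((Nat.prime_dvd_prime_iff_eq hpp.out Nat.prime_two).1 h1)
  have hq2 : 2 ≤ q := by
    rw [← m.hq]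
    calc 2 ≤ r := hr.out.two_le
      _ = r ^ 1 := (pow_one r).symm
      _ ≤ r ^ m.e := Nat.pow_le_pow_right hr.out.pos m.he
  have hsub : ∀ a b : KK r, (a - b) ^ q = a ^ q - b ^ q := by
    intro a b
    rw [← m.hq]
    exact sub_pow_char_pow a b m.e
  have hadd : ∀ a b : KK r, (a + b) ^ q = a ^ q + b ^ q := by
    intro a b
    rw [← m.hq]
    exact add_pow_char_pow a b r m.e
  -- the trace
  have ht : (z + z⁻¹) ^ q = z + z⁻¹ := by
    rw [hadd]
    have h1 : p ∣ (q + 1) * (q - 1) := by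
      have h2 : q ^ 2 - 1 ^ 2 = (q + 1) * (q - 1) := Nat.sq_sub_sq q 1
      rw [one_pow] at h2
      rwa [← h2]
    rcases (Nat.Prime.dvd_mul hpp.out).1 h1 with h3 | h3
    · have h4 : z ^ (q + 1) = 1 := (hz.pow_eq_one_iff_dvd _).2 h3
      have h5 : z ^ q = z⁻¹ := by
        rw [pow_succ] at h4
        exact eq_inv_of_mul_eq_one_left h4
      rw [inv_pow, h5, inv_inv, add_comm]
    · have h4 : z ^ (q - 1) = 1 := (hz.pow_eq_one_iff_dvd _).2 h3
      have h5 : z ^ q = z := by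
        calc z ^ q = z ^ (q - 1 + 1) := by rw [Nat.sub_add_cancel (by omega)]
          _ = z := by rw [pow_succ, h4, one_mul]
      rw [inv_pow, h5]
  -- the action of the Frobenius automorphism
  obtain ⟨s', hv, hs', c, hc, h1, h2⟩ := m.act s hs
  have hss : s' = s := vec_inj hp hs' hs (hv.trans hg)
  subst hss
  obtain ⟨b, hb⟩ := IsAlgClosed.exists_pow_nat_eq c⁻¹ (show 0 < q - 1 by omega)
  have hb0 : b ≠ 0 := by
    rintro rfl
    rw [zero_pow (by omega)] at hb
    exact inv_ne_zero hc hb.symm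
  have hbq : c * b ^ q = b := by
    calc c * b ^ q = c * b ^ (q - 1 + 1) := by rw [Nat.sub_add_cancel (by omega)]
      _ = b := by rw [pow_succ, hb, mul_inv_cancel_left₀ hc]
  have hbq' : c⁻¹ * b⁻¹ ^ q = b⁻¹ := by
    rw [inv_pow, ← mul_inv, hbq]
  have e0 : ∀ t : KK r, xs hp.inList s' t ^ r ^ 1 = 1 := fun t => by rw [pow_one]; exact xs_pow_r (hp := hp) s' t
  have e0' : ∀ t : KK r, xs hp.inList (D.neg s') t ^ r ^ 1 = 1 := fun t => by rw [pow_one]; exact xs_pow_r (hp := hp) _ t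
  obtain ⟨a1, ha1⟩ := m.exists_eq (u := xs hp.inList s' (-b)) (by
    rw [h1, ← zero_sub, hsub, zero_pow (by omega), zero_sub, mul_neg, hbq, zero_sub]) ⟨1, e0 _⟩
  obtain ⟨a2, ha2⟩ := m.exists_eq (u := xs hp.inList (D.neg s') b⁻¹) (by rw [h2, hbq']) ⟨1, e0' _⟩
  obtain ⟨a3, ha3⟩ := m.exists_eq (u := xs hp.inList s' (b * (z + z⁻¹ - 1))) (by
    rw [h1, mul_pow, hsub, ht, one_pow, ← mul_assoc, hbq]) ⟨1, e0 _⟩
  refine ⟨a1 * a2 * a3, mA b (z + z⁻¹), mW hb0 hz0 hz2, ?_, mW_conj hb0 hz0 hz2⟩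
  rw [map_mul, map_mul, ha1, ha2, ha3, mA, map_mul, map_mul, ps_up, ps_lo, ps_up]

theorem order_elt {p : ℕ} [hpp : Fact p.Prime] (hp2 : p ≠ 2) {s : ℕ} (hs : s < D.nroots) {z : KK r}
    (hz : IsPrimitiveRoot z p) {a : K₀} {g w : Matrix.SpecialLinearGroup (Fin 2) (KK r)} (ha : m.ι a = ps hp hs g)
    (hw : w * g * w⁻¹ = hS z) : orderOf a = p := by
  have hz0 : z ≠ 0 := hz.ne_zero hpp.out.ne_zero
  have h1 : ps hp hs w * m.ι a * (ps hp hs w)⁻¹ = ps hp hs (hS z) := by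
    rw [ha, ← map_mul, ← map_inv, ← map_mul, hw]
  have h2 : ps hp hs (hS z) ^ p = 1 := by
    apply Subtype.ext
    rw [Subgroup.coe_pow, coe_ps_hS]
    exact Cfsg.Agent.KFacts.Mult.Chev.hG_pow hp.inList hs hz0 hz.pow_eq_one
  have h3 : m.ι a ^ p = 1 := by
    rw [← h1, conj_pow] at h2
    have h4 := mul_inv_eq_one.1 h2
    exact mul_eq_left.1 h4
  refine orderOf_eq_prime (m.inj (by rw [map_pow, h3, map_one])) ?_
  rintro rfl
  rw [map_one, mul_one, mul_inv_cancel] at h1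
  have h4 := congrArg (fun y : ↥(D.group (KK r)) => ((y : GL D.Idx (KK r)) : Matrix D.Idx D.Idx (KK r))
    (Sum.inr ⟨s, hs⟩) (Sum.inr ⟨s, hs⟩)) h1
  have h5 := entry hp hs hz0 1
  rw [pow_one] at h5
  simp only [h5, Matrix.diagonal_apply_eq, Sum.elim_inr, expo_self, pow_one] at h4
  rw [show (((1 : ↥(D.group (KK r))) : GL D.Idx (KK r)) : Matrix D.Idx D.Idx (KK r)) = 1 from rfl,
    Matrix.one_apply_eq] at h4
  have h6 : p ∣ 2 := hz.dvd_of_pow_eq_one 2 (by exact_mod_cast h4.symm)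
  exact hp2 ((Nat.prime_dvd_prime_iff_eq hpp.out Nat.prime_two).1 h6)

theorem exists_root {p : ℕ} [hpp : Fact p.Prime] (hpr : p ≠ r) : ∃ z : KK r, IsPrimitiveRoot z p := by
  have : NeZero (p : KK r) := ⟨fun h => by
    rw [CharP.cast_eq_zero_iff (KK r) r] at h
    exact hpr ((Nat.prime_dvd_prime_iff_eq hr.out hpp.out).1 h).symm⟩
  exact HasEnoughRootsOfUnity.exists_primitiveRoot (KK r) p

/-- **H9-U5, `p ∣ q² - 1`.** -/
theorem centRoot {p : ℕ} [hpp : Fact p.Prime] (hp2 : p ≠ 2) (hpr : p ≠ r) (hd : p ∣ q ^ 2 - 1) {s : ℕ}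
    (hs : s < D.nroots) (hg : m.g (vec D l s) = vec D l s) (hc : Cm D s (D.nroots - 1) = true) : CentRoot m p := by
  obtain ⟨z, hz⟩ := exists_root (r := r) hpr
  obtain ⟨a, g, w, ha, hw⟩ := exists_elt m hp2 hpr hd hs hg hz
  have ht : D.nroots - 1 < D.nroots := by omega
  refine ⟨a, order_elt m hp2 hs hz ha hw, ?_⟩
  intro u _ hu
  have h1 : ((u : ↥(D.group (KK r))) : GL D.Idx (KK r)) ∈ D.rootSubgroup (KK r) (D.nroots - 1) ⊔
      D.rootSubgroup (KK r) (D.neg (D.nroots - 1)) := by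
    rcases hu with hu | hu
    · rw [Subgroup.mem_subgroupOf, XV_vec hp _ ht] at hu
      exact Subgroup.mem_sup_left hu
    · rw [← vec_neg hp ht, Subgroup.mem_subgroupOf, XV_vec hp _ (neg_lt hp.inList ht)] at hu
      exact Subgroup.mem_sup_right hu
  rw [ha]
  exact Subtype.ext (comm_of_Cm hp hs ht hc (psi_mem hp.inList hs g) h1).symm

/-- **H9-U4, `p ∣ q² - 1`.** -/
theorem toral {p : ℕ} [hpp : Fact p.Prime] (hp2 : p ≠ 2) (hpr : p ≠ r) (hd : p ∣ q ^ 2 - 1) {s t : ℕ}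
    (hs : s < D.nroots) (ht : t < D.nroots) (hgs : m.g (vec D l s) = vec D l s) (hgt : m.g (vec D l t) = vec D l t)
    (hc : Cm D s t = true) (he : expo D t s = 0) : Toral m p := by
  obtain ⟨z, hz⟩ := exists_root (r := r) hpr
  have hz0 : z ≠ 0 := hz.ne_zero hpp.out.ne_zero
  obtain ⟨a, g, w, ha, hw⟩ := exists_elt m hp2 hpr hd hs hgs hz
  obtain ⟨b, g', w', hb, hw'⟩ := exists_elt m hp2 hpr hd ht hgt hz
  have hoa := order_elt m hp2 hs hz ha hw
  have hob := order_elt m hp2 ht hz hb hw'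
  have hab : a * b = b * a := m.inj (by rw [map_mul, map_mul, ha, hb, ps_comm hp hs ht hc])
  have h1 : ps hp hs w * m.ι a * (ps hp hs w)⁻¹ = ps hp hs (hS z) := by
    rw [ha, ← map_mul, ← map_inv, ← map_mul, hw]
  have h2 : ps hp ht w' * m.ι b * (ps hp ht w')⁻¹ = ps hp ht (hS z) := by
    rw [hb, ← map_mul, ← map_inv, ← map_mul, hw']
  set y : ↥(D.group (KK r)) := ps hp hs w * ps hp ht w' with hy
  have h3 : y * m.ι a * y⁻¹ = ps hp hs (hS z) := by
    rw [← h1, hy, ha, mul_inv_rev]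
    have e := ps_comm hp hs ht hc g w'
    calc ps hp hs w * ps hp ht w' * ps hp hs g * ((ps hp ht w')⁻¹ * (ps hp hs w)⁻¹)
        = ps hp hs w * (ps hp ht w' * ps hp hs g) * (ps hp ht w')⁻¹ * (ps hp hs w)⁻¹ := by group
      _ = ps hp hs w * (ps hp hs g * ps hp ht w') * (ps hp ht w')⁻¹ * (ps hp hs w)⁻¹ := by rw [e]
      _ = _ := by group
  have h4 : y * m.ι b * y⁻¹ = ps hp ht (hS z) := by
    have e := ps_comm hp hs ht hc w (hS z)
    calc y * m.ι b * y⁻¹ = ps hp hs w * (ps hp ht w' * m.ι b * (ps hp ht w')⁻¹) * (ps hp hs w)⁻¹ := by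
          rw [hy]; group
      _ = ps hp hs w * ps hp ht (hS z) * (ps hp hs w)⁻¹ := by rw [h2]
      _ = _ := by rw [e]; group
  refine ⟨Subgroup.zpowers a ⊔ Subgroup.zpowers b, ?_, ?_, ?_, y, ?_⟩
  · intro x hx
    have hmem : ∀ x ∈ Subgroup.zpowers a ⊔ Subgroup.zpowers b, ∃ i j : ℤ, x = a ^ i * b ^ j := by
      intro x hx
      have hle : Subgroup.zpowers a ⊔ Subgroup.zpowers b ≤
          ({ carrier := {x | ∃ i j : ℤ, x = a ^ i * b ^ j}
             one_mem' := ⟨0, 0, by simp⟩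
             mul_mem' := by
               rintro _ _ ⟨i, j, rfl⟩ ⟨i', j', rfl⟩
               refine ⟨i + i', j + j', ?_⟩
               have hC : Commute a b := hab
               rw [zpow_add, zpow_add, mul_assoc, mul_assoc, ← mul_assoc (b ^ j), ← mul_assoc (a ^ i'),
                 (hC.zpow_zpow i' j).eq]
             inv_mem' := by
               rintro _ ⟨i, j, rfl⟩
               refine ⟨-i, -j, ?_⟩
               have hC : Commute a b := hab
               rw [mul_inv_rev, zpow_neg, zpow_neg, ((hC.zpow_zpow i j).inv_inv).eq] } : Subgroup K₀) := by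
        refine sup_le ?_ ?_
        · rw [Subgroup.zpowers_le]
          exact ⟨1, 0, by simp⟩
        · rw [Subgroup.zpowers_le]
          exact ⟨0, 1, by simp⟩
      exact hle hx
    obtain ⟨i, j, rfl⟩ := hmem x hx
    have hC : Commute a b := hab
    rw [(hC.zpow_zpow i j).mul_pow, ← zpow_natCast, ← zpow_natCast, ← zpow_mul, ← zpow_mul, mul_comm i, mul_comm j,
      zpow_mul, zpow_mul, zpow_natCast, zpow_natCast, ← hoa, pow_orderOf_eq_one, hoa, ← hob, pow_orderOf_eq_one,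
      one_zpow, one_zpow, one_mul]
  · have hle : Subgroup.zpowers a ⊔ Subgroup.zpowers b ≤
        Subgroup.centralizer ((Subgroup.zpowers a ⊔ Subgroup.zpowers b : Subgroup K₀) : Set K₀) := by
      refine sup_le ?_ ?_
      · rw [Subgroup.le_centralizer_iff]
        refine sup_le ?_ ?_
        · rw [Subgroup.zpowers_le, Subgroup.mem_centralizer_iff]
          rintro _ ⟨i, rfl⟩
          exact ((Commute.refl a).zpow_left i).eq
        · rw [Subgroup.zpowers_le, Subgroup.mem_centralizer_iff]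
          rintro _ ⟨i, rfl⟩
          exact ((show Commute a b from hab).zpow_left i).eq
      · rw [Subgroup.le_centralizer_iff]
        refine sup_le ?_ ?_
        · rw [Subgroup.zpowers_le, Subgroup.mem_centralizer_iff]
          rintro _ ⟨i, rfl⟩
          exact ((show Commute b a from hab.symm).zpow_left i).eq
        · rw [Subgroup.zpowers_le, Subgroup.mem_centralizer_iff]
          rintro _ ⟨i, rfl⟩
          exact ((Commute.refl b).zpow_left i).eq
    intro x hx x' hx'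
    exact (Subgroup.mem_centralizer_iff.1 (hle hx) x' hx').symm
  · refine card_sup hoa hob hab ?_
    intro i j hij
    have h5 : ps hp hs (hS z) ^ i * ps hp ht (hS z) ^ j = 1 := by
      rw [← h3, ← h4, conj_pow, conj_pow]
      calc y * m.ι a ^ i * y⁻¹ * (y * m.ι b ^ j * y⁻¹) = y * (m.ι a ^ i * m.ι b ^ j) * y⁻¹ := by group
        _ = 1 := by rw [← map_pow, ← map_pow, ← map_mul, hij, map_one, mul_one, mul_inv_cancel]
    have h6 := congrArg (fun y : ↥(D.group (KK r)) => ((y : GL D.Idx (KK r)) : Matrix D.Idx D.Idx (KK r))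
      (Sum.inr ⟨s, hs⟩) (Sum.inr ⟨s, hs⟩)) h5
    have e1 := entry hp hs hz0 i
    have e2 := entry hp ht hz0 j
    simp only [Subgroup.coe_mul, Units.val_mul, e1, e2, Matrix.diagonal_mul_diagonal, Matrix.diagonal_apply_eq,
      Sum.elim_inr, expo_self, he, zpow_zero, one_pow, mul_one] at h6
    rw [show (((1 : ↥(D.group (KK r))) : GL D.Idx (KK r)) : Matrix D.Idx D.Idx (KK r)) = 1 from rfl,
      Matrix.one_apply_eq] at h6
    have h7 : z ^ (2 * i) = 1 := by
      rw [pow_mul]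
      exact_mod_cast h6
    rcases (Nat.Prime.dvd_mul hpp.out).1 (hz.dvd_of_pow_eq_one _ h7) with h8 | h8
    · exact absurd ((Nat.prime_dvd_prime_iff_eq hpp.out Nat.prime_two).1 h8) hp2
    · exact h8
  · have hle : Subgroup.zpowers a ⊔ Subgroup.zpowers b ≤
        (TT D (KK r)).comap ((MulAut.conj y).toMonoidHom.comp m.ι) := by
      refine sup_le ?_ ?_
      · rw [Subgroup.zpowers_le, Subgroup.mem_comap]
        show y * m.ι a * y⁻¹ ∈ TT D (KK r)
        rw [h3]
        exact ps_hS_mem hp hs hz0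
      · rw [Subgroup.zpowers_le, Subgroup.mem_comap]
        show y * m.ι b * y⁻¹ ∈ TT D (KK r)
        rw [h4]
        exact ps_hS_mem hp ht hz0
    intro x hx
    exact hle hx

end Main

end Cfsg.Agent.H81.TorOrth
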