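import Cfsg.Agent.H81.SaxSp
import Cfsg.Agent.H262.ElSympMiss

/-!
# SAX-SP8E: `PSp_2m(q)`, `m ≥ 4` even, `q` even, from the residual rows
-/

set_option autoImplicit false

namespace Cfsg.Agent.H81.SaxSp

open Cfsg Cfsg.Geo Cfsg.Agent.H396 Cfsg.Agent.H262.El Cfsg.Agent.H938.Sax

universe u

variable {F : Type u} [Field F] [Fintype F] {m : ℕ}

/-- the geometric input, from the residual rows -/
theorem geo8_of (hm : 4 ≤ m)
    (hres : ∀ R : Subgroup (PSp m F), R ≠ ⊤ → InSymplecticResidualClass (pre R) → PGap (PSp m F) R) : Geo8 m F := by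
  intro R hR
  rcases psp_miss (by omega) (by omega) (by omega) (by omega) hR with h | h | h | ⟨h2, -⟩
  · exact Or.inl h
  · exact Or.inl (hres R hR h)
  · obtain ⟨-, -, Q, hQ, hpol, hle⟩ := h
    refine Or.inr ⟨Q, hQ, hpol, fun g hg => ⟨1, fun v => ?_⟩⟩
    have h1 := (Cfsg.Agent.ClassicalGeometry.Reflection.mem_isometryGroup_iff _ _).1 (hle hg) v
    rw [h1, Units.val_one, one_mul]
  · omega

/-- **(b)** -/
theorem miss_of_res (hm : 4 ≤ m) (hme : Even m) (hF : ¬ Odd (Fintype.card F))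
    (hres : ∀ R : Subgroup (PSp m F), R ≠ ⊤ → InSymplecticResidualClass (pre R) → PGap (PSp m F) R) :
    MissMax (PSp m F) := missMax_of_geo hm hme hF (geo8_of hm hres)

/-- **(b)**, prime order version -/
theorem der_of_res (hm : 4 ≤ m) (hme : Even m) (hF : ¬ Odd (Fintype.card F))
    (hres : ∀ R : Subgroup (PSp m F), R ≠ ⊤ → InSymplecticResidualClass (pre R) → PGap (PSp m F) R)
    (R : Subgroup (PSp m F)) (hR : R ≠ ⊤) : Der (PSp m F) R := miss_of_geo hm hme hF (geo8_of hm hres) R hR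

/-- **(a)** -/
theorem section_of_res [IsSimpleGroup (PSp m F)] (hm : 4 ≤ m) (hme : Even m) (hF : ¬ Odd (Fintype.card F))
    (hres : ∀ R : Subgroup (PSp m F), R ≠ ⊤ → InSymplecticResidualClass (pre R) → PGap (PSp m F) R)
    (hgap : ∀ a b : F, (∀ z₁ z₂ : F, z₁ ^ 2 + a * z₁ * z₂ + b * z₂ ^ 2 = 0 → z₁ = 0 ∧ z₂ = 0) →
      ∀ M : Subgroup (POmega F (quadFormMinus (m - 1) F a b)), M ≠ ⊤ → PGap _ M)
    (L : Subgroup (PSp m F)) (K : Subgroup ↥L) [K.Normal]
    (h : Set.range (orderOf : (↥L ⧸ K) → ℕ) = Set.range (orderOf : PSp m F → ℕ)) : K = ⊥ :=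
  section_of_geo hm hme hF (geo8_of hm hres) hgap L K h

end Cfsg.Agent.H81.SaxSp
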