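import Cfsg.Agent.H81.PJTab

/-!
# A prime dividing the order of the centraliser of a root `SL₂` (helper81)

* `dvd_cent` : `s ∣ ∑_{w ∈ W_J} |U_w|`, `J` orthogonal to the root `b`, `s ∤ |T|`: `s` divides the order of the centraliser of any
  element of `⟨X b, X (-b)⟩`.
-/

set_option autoImplicit false
set_option linter.unusedSectionVars false

namespace Cfsg.Agent.H81.PJCent

open CoxeterSystem Cfsg.Agent.ChevalleyStructure.CoxeterGeom Cfsg.Agent.Tits.Roots Cfsg.Agent.Tits.Core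
  Cfsg.Agent.Tits.Exchange Cfsg.Agent.Nodes.Reps Cfsg.Agent.Nodes.BNOf Cfsg.Agent.Nodes.StabComb
  Cfsg.Agent.Nodes.Bruhat Cfsg.Agent.Nodes.LeviDec Cfsg.Agent.Nodes.NormalForm Cfsg.Agent.Nodes.CardSup

theorem card_sup_dvd {G : Type*} [Group G] [Finite G] {K H : Subgroup G}
    (h : H ≤ Subgroup.normalizer (K : Set G)) : Nat.card (H ⊔ K : Subgroup G) ∣ Nat.card H * Nat.card K := by
  have hKn : (K.subgroupOf (K ⊔ H)).Normal :=
    Subgroup.normal_subgroupOf_of_le_normalizer (sup_le Subgroup.le_normalizer h)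
  have h1 := Subgroup.relIndex_sup_left (H.subgroupOf (K ⊔ H)) (K.subgroupOf (K ⊔ H))
  rw [← Subgroup.subgroupOf_sup le_sup_left le_sup_right, Subgroup.subgroupOf_self,
    Subgroup.relIndex_subgroupOf le_sup_right, Subgroup.relIndex_top_right] at h1
  have h2 : Nat.card K * K.relIndex H = Nat.card (K ⊔ H : Subgroup G) := by
    rw [← h1, Subgroup.index_eq_card, ← Subgroup.card_mul_index (K.subgroupOf (K ⊔ H)), Subgroup.index_eq_card,
      Nat.card_congr (Subgroup.subgroupOfEquivOfLe (le_sup_left : K ≤ K ⊔ H)).toEquiv]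
  rw [sup_comm, ← h2, mul_comm (Nat.card H)]
  exact mul_dvd_mul_left _ (Subgroup.relIndex_dvd_card _ _)

variable {I W Y : Type*} [Fintype I] [DecidableEq I] [Group W] [Group Y] {M : CoxeterMatrix I}
  {cs : CoxeterSystem M W} {A : I → I → ℤ} {h : IsCartan M A} {p : ℕ} {T : Subgroup Y} {n : I → Y}
  {X : (I → ℤ) → Subgroup Y} (R : RGD cs h p T n X)

include R

/-- **a prime divisor of the order of a centraliser** -/
theorem dvd_cent [Finite W] [Finite Y] [hp : Fact p.Prime] {s : ℕ} (hs : s.Prime) (hsp : s ≠ p) (hT : ¬ s ∣ Nat.card ↥T)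
    {J : Set I} {b : I → ℤ} (hb : IsRoot cs h b) (hfix : ∀ j ∈ J, rep cs h (cs.simple j) b = b)
    (hcomm : ∀ j ∈ J, ∀ u ∈ X (sr j), ∀ v ∈ X b ⊔ X (-b), u * v = v * u) [Fintype ↥(WJ cs J)]
    (hsum : s ∣ ∑ w : ↥(WJ cs J), Nat.card ↥(RGD.Sup X (NW cs h (w : W)))) {z : Y} (hz : z ∈ X b ⊔ X (-b)) :
    s ∣ Nat.card ↥(Subgroup.centralizer ({z} : Set Y)) := by
  -- the group of the roots of `J`
  have hle : RGD.Sup X (RootsJ cs h J) ≤ Subgroup.centralizer ({z} : Set Y) := by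
    refine RGD.Sup_le fun x hx => ?_
    obtain ⟨v, hv, j, hj, rfl⟩ := exists_of_mem_RootsJ hx
    have hvb : rep cs h v b = b := by
      refine Subgroup.closure_induction (p := fun v _ => rep cs h v b = b) ?_ ?_ ?_ ?_ hv
      · rintro _ ⟨j, hj, rfl⟩
        exact hfix j hj
      · rw [map_one, Module.End.one_apply]
      · intro x y _ _ hx hy
        rw [rep_mul_apply, hy, hx]
      · intro x _ hx
        conv_lhs => rw [← hx]
        exact rep_inv_apply cs h x b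
    obtain ⟨g, hg⟩ := exists_rp cs R.nsys v
    have h1 : cj g (X b ⊔ X (-b)) = X b ⊔ X (-b) := by
      rw [cj_sup, R.conj_rp hg hb, R.conj_rp hg hb.neg, map_neg, hvb]
    intro u hu
    rw [← R.conj_rp hg (isRoot_sr cs h j), mem_cj] at hu
    have h2 : g⁻¹ * z * g ∈ X b ⊔ X (-b) := by
      rw [← h1, mem_cj] at hz
      exact hz
    have h3 := hcomm j hj _ hu _ h2
    rw [Subgroup.mem_centralizer_singleton_iff]
    have h4 : g * (g⁻¹ * u * g * (g⁻¹ * z * g)) * g⁻¹ = g * (g⁻¹ * z * g * (g⁻¹ * u * g)) * g⁻¹ := by rw [h3]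
    have h5 : g * (g⁻¹ * u * g * (g⁻¹ * z * g)) * g⁻¹ = u * z := by group
    have h6 : g * (g⁻¹ * z * g * (g⁻¹ * u * g)) * g⁻¹ = z * u := by group
    rw [h5, h6] at h4
    exact h4
  refine dvd_trans ?_ (Subgroup.card_dvd_of_le hle)
  -- the parabolic subgroup
  have h1 : s ∣ Nat.card ↥(PJ cs h T X J) := by
    rw [Cfsg.Agent.H296.FFourPar.card_PJ_gen R J]
    exact Dvd.dvd.mul_left hsum _
  have h2 : s ∣ Nat.card ↥(LJ cs h T X J) * Nat.card ↥(VJ cs h X J) :=
    h1.trans (card_sup_dvd (LJ_le_normalizer_VJ R J))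
  have hV : ¬ s ∣ Nat.card ↥(VJ cs h X J) := by
    intro h3
    have h4 : IsPGroup p ↥(VJ cs h X J) := R.isPGroup_Upos.to_le (VJ_le_U J)
    obtain ⟨k, hk⟩ := (IsPGroup.iff_card (p := p)).1 h4
    rw [hk] at h3
    exact hsp ((Nat.prime_dvd_prime_iff_eq hs hp.out).1 (hs.dvd_of_dvd_pow h3))
  have h3 := (hs.dvd_mul.1 h2).resolve_right hV
  have h4 : s ∣ Nat.card ↥T * Nat.card ↥(RGD.Sup X (RootsJ cs h J)) :=
    h3.trans (card_sup_dvd (R.T_le_normalizer fun x hx => hx.1))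
  exact (hs.dvd_mul.1 h4).resolve_left hT

end Cfsg.Agent.H81.PJCent
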