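import Cfsg.Agent.H628.Exc.Rows
import Cfsg.Agent.H81.DerRoot

/-!
# `CentRoot m p` for `E₆(q)` and `²E₆(q)` (S3500)

* `centRoot_E6` : the order of `q` modulo `p` is at most `6`;
* `centRoot_twE6` : it is `1`, `2`, `3`, `4`, `6` or `10`.
-/

set_option autoImplicit false
set_option linter.unusedSectionVars false

namespace Cfsg.Agent.H81.Der

open CoxeterSystem Cfsg Cfsg.Lie Cfsg.Lie.ChevalleyDatum
open Cfsg.Agent.ChevalleyStructure Cfsg.Agent.ChevalleyStructure.Elts Cfsg.Agent.ChevalleyStructure.CoxeterGeom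
  Cfsg.Agent.ChevalleyStructure.CoxeterGeomTypes Cfsg.Agent.ChevalleyStructure.NPerm
open Cfsg.Agent.Tits.Roots Cfsg.Agent.Tits.Core Cfsg.Agent.Nodes Cfsg.Agent.Nodes.Reps Cfsg.Agent.Nodes.BNOf
  Cfsg.Agent.Nodes.RGDChev Cfsg.Agent.Nodes.Bruhat
open Cfsg.Agent.KFacts.RgdField Cfsg.Agent.KFacts.RgdChevCoord Cfsg.Agent.BpExc.TorCent Cfsg.Agent.BpExc.TorChev
open Cfsg.Agent.GpExc.Field Cfsg.Agent.BpExc.Tow Cfsg.Agent.BpExc.TowChev Cfsg.Agent.BpExc.Fr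
  Cfsg.Agent.BpExc.LangFr Cfsg.Agent.H795.SetCent Cfsg.Agent.H795.Toral Cfsg.Agent.H795.Core
  Cfsg.Agent.H129.TorusChar Cfsg.Agent.H795.Untw Cfsg.Agent.H795.RowsA
  Cfsg.Agent.BpExc Cfsg.Agent.H720.TwFr Cfsg.Agent.H800.Sp Cfsg.Agent.H795.NotAbT Cfsg.Agent.H795.NotAbCert
  Cfsg.Agent.H795.NotAbData Cfsg.Agent.BpExc.RowsUntw Cfsg.Agent.H129.WData Cfsg.Agent.H795.NotAbRows
  Cfsg.Agent.H192.U4 Cfsg.Agent.H92.ExcSL2 Cfsg.Agent.H192.U5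
open Cfsg.Agent.H469.Exc (KK locFin)
open Cfsg.Agent.H316.U6 (MData CentRoot)

universe u v

section

variable {k : Type u} [Field k] {r e dd : ℕ} [hr : Fact r.Prime] [CharP k r] [IsAlgClosed k] (hk : LocFin k)
  {G : Type v} [Group G] {p : ℕ} [hpp : Fact p.Prime]

include hk in
/-- the highest root group of `E₆`, class `5` -/
theorem cent_e6_five {f : G →* ↥(chevE6.group k)} {σ : MulAut ↥(chevE6.group k)}
    (h : Dat e6T r e dd f σ (AddEquiv.refl _)) (hdd : ¬ p ∣ dd) (hpr : p ≠ r)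
    (ho : orderOf ((r ^ e : ℕ) : ZMod p) = 5) : CentP chevE6 6 f p 71 := by
  have hJ : ∀ j ∈ ([0, 2, 3, 4, 5] : List (Fin 6)), ∃ j' ∈ ([0, 2, 3, 4, 5] : List (Fin 6)),
      (AddEquiv.refl (Fin 6 → ℤ)) (sr j) = sr j' := fun j hj => ⟨j, hj, rfl⟩
  exact cent_of_cert hk h hdd hpr invC_E6 three_ne_zero E6.hA hJ (by decide) orthE6 thE6 refl_mat (hK5 ho) (by norm_num)
      [(0, ![![0, 0, 1, 0, 0, 0], ![1, 1, 1, 1, 0, 0], ![0, 0, 0, 1, 0, 0], ![0, 0, 0, 0, 1, 0],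
          ![-1, 0, -1, -1, -1, 0], ![1, 0, 1, 1, 1, 1]]),
        (2, ![![1, 0, 1, 0, 0, 0], ![0, 1, 1, 1, 0, 0], ![0, 0, 0, 1, 0, 0], ![0, 0, 0, 0, 1, 0],
          ![0, 0, -1, -1, -1, 0], ![0, 0, 1, 1, 1, 1]]),
        (3, ![![1, 0, 0, 0, 0, 0], ![0, 1, 0, 1, 0, 0], ![0, 0, 1, 1, 0, 0], ![0, 0, 0, 0, 1, 0],
          ![0, 0, 0, -1, -1, 0], ![0, 0, 0, 1, 1, 1]]),
        (4, ![![1, 0, 0, 0, 0, 0], ![0, 1, 0, 0, 0, 0], ![0, 0, 1, 0, 0, 0], ![0, 0, 0, 1, 1, 0],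
          ![0, 0, 0, 0, -1, 0], ![0, 0, 0, 0, 1, 1]])]
      ![![0, 0, 1, 0, 0, 0], ![1, 1, 1, 1, 0, 0], ![0, 0, 0, 1, 0, 0], ![0, 0, 0, 0, 1, 0],
          ![-1, 0, -1, -1, -1, 0], ![1, 0, 1, 1, 1, 1]]
      ![![-2, -1, -1, -1], ![0, 0, 1, 1], ![1, -1, 0, 0], ![0, 1, -1, 0], ![0, 0, 1, -1], ![0, 0, 0, 1]]
      ![0, 0, 1, 1, 1, 1] (by decide +kernel)

end

theorem sq_three : ∀ x : ZMod 3, x ≠ 0 → x ^ 2 = 1 := by decide

theorem not_dvd_three {p : ℕ} [hpp : Fact p.Prime] {x : ZMod p} (h2 : 2 < orderOf x) {n : ℕ} (hn : n ∣ 3) :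
    ¬ p ∣ n := by
  intro h
  have h1 : p ∣ 3 := h.trans hn
  have h3 : p = 3 := (Nat.prime_dvd_prime_iff_eq hpp.out Nat.prime_three).1 h1
  subst h3
  have h4 : x ≠ 0 := by
    rintro rfl
    have : orderOf (0 : ZMod 3) = 0 := by
      rw [orderOf_eq_zero_iff']
      intro n hn
      rw [zero_pow (by omega)]
      exact zero_ne_one
    omega
  have h5 : x ^ 2 = 1 := sq_three x h4
  have := orderOf_le_of_pow_eq_one two_pos h5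
  omega

section Untw

variable {r : ℕ} [hr : Fact r.Prime] {F : Type} [Field F] [Fintype F] [CharP F r] {p : ℕ} [hpp : Fact p.Prime]

/-- **`E₆(q)`, classes `1` to `6`.** -/
theorem centRoot_E6 {hp : IsType chevE6 6 CoxeterMatrix.E₆} (m : MData hp r (Fintype.card F) ↥(chevE6.group F))
    (hg : m.g = AddEquiv.refl _) (hdd : m.dd ∣ 3) (hp2 : p ≠ 2) (hpr : p ≠ r)
    (h0 : 0 < orderOf ((r ^ m.e : ℕ) : ZMod p)) (h6 : orderOf ((r ^ m.e : ℕ) : ZMod p) ≤ 6) : CentRoot m p := by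
  by_cases hx : orderOf ((r ^ m.e : ℕ) : ZMod p) ≤ 2
  · refine H81.TorOrth.centRoot_e6 m hg hp2 hpr (H628.Exc.Rows.dvd_of_sq m ?_)
    rw [← orderOf_dvd_iff_pow_eq_one]
    have h1 : orderOf ((r ^ m.e : ℕ) : ZMod p) = 1 ∨ orderOf ((r ^ m.e : ℕ) : ZMod p) = 2 := by omega
    rcases h1 with h1 | h1 <;> rw [h1]
    norm_num
  · have hnd := not_dvd_three (not_le.1 hx) hdd
    by_cases h5 : orderOf ((r ^ m.e : ℕ) : ZMod p) = 5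
    · obtain ⟨x, hx, hc⟩ := cent_e6_five (locFin r) (H628.Exc.Rows.dat m hg) hnd hpr h5
      exact ⟨x, hx, fun u _ hu => hc u hu⟩
    · obtain ⟨ζ, hζ, hζ1⟩ := H628.Exc.Asm.exists_zeta (KK r) (r := r) hpr
      obtain ⟨y, hy⟩ := H628.Exc.FuncRow.func_E6 hp CoxeterMatrix.E₆.toCoxeterSystem (locFin r) m.he m.frob (hg ▸ m.fr)
        hζ hζ1 (by omega)
      exact H628.Exc.Rows.centRoot_of m hnd hy

end Untw

section Tw

variable {r : ℕ} [hr : Fact r.Prime] {K : Type} [Field K] [Fintype K] [CharP K r] {q : ℕ} {p : ℕ} [hpp : Fact p.Prime]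

/-- **`²E₆(q)`, classes `1`, `2`, `3`, `4`, `6`, `10`.** -/
theorem centRoot_TE6 (m : MData Nodes.RGDTwE6.hp r q ↥(twistedE6 K q)) (hg : m.g = permE rho6) (hdd : m.dd ∣ 3)
    (hp2 : p ≠ 2) (hpr : p ≠ r)
    (hd : orderOf ((r ^ m.e : ℕ) : ZMod p) = 1 ∨ orderOf ((r ^ m.e : ℕ) : ZMod p) = 2 ∨
      orderOf ((r ^ m.e : ℕ) : ZMod p) = 3 ∨ orderOf ((r ^ m.e : ℕ) : ZMod p) = 4 ∨
      orderOf ((r ^ m.e : ℕ) : ZMod p) = 6 ∨ orderOf ((r ^ m.e : ℕ) : ZMod p) = 10) : CentRoot m p := by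
  by_cases hx : orderOf ((r ^ m.e : ℕ) : ZMod p) ≤ 2
  · refine H81.TorOrth.centRoot_twE6 m hg hp2 hpr (H628.Exc.Rows.dvd_of_sq m ?_)
    rw [← orderOf_dvd_iff_pow_eq_one]
    have h1 : orderOf ((r ^ m.e : ℕ) : ZMod p) = 1 ∨ orderOf ((r ^ m.e : ℕ) : ZMod p) = 2 := by omega
    rcases h1 with h1 | h1 <;> rw [h1]
    norm_num
  · have hnd := not_dvd_three (not_le.1 hx) hdd
    obtain ⟨ζ, hζ, hζ1⟩ := H628.Exc.Asm.exists_zeta (KK r) (r := r) hpr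
    obtain ⟨y, hy⟩ := H628.Exc.FuncRow.func_E6t hp6 CoxeterMatrix.E₆.toCoxeterSystem (locFin r) m.he m.frob
      H628.Exc.InstTw.perm_sr6 (hg ▸ m.fr) hζ hζ1 (by omega)
    exact H628.Exc.Rows.centRoot_of m hnd hy

end Tw

end Cfsg.Agent.H81.Der
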