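import Cfsg.Agent.H81.FFourCode

/-!
Fusion of the eleven non-trivial involutions `n_w`, `w = w₀ w_J`, of `N` over the prime field into the four classes of
involutions of `F₄` in characteristic 2 (helper81).  Words found by a program, checked by the kernel.
-/

set_option autoImplicit false
set_option maxRecDepth 100000

namespace Cfsg.Agent.H81.FFourFus

open Cfsg.Lie Cfsg.Agent.ChevalleyStructure.TwF4.Bits Cfsg.Agent.ChevalleyStructure.TwF4.Tables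
  Cfsg.Agent.ChevalleyStructure.Elts Cfsg.Agent.H81.FFourCode

/-- the letters of `n_i` -/
def nl : ℕ → List ℕ
  | 0 => [33, 14, 33]
  | 1 => [27, 20, 27]
  | 2 => [25, 22, 25]
  | _ => [24, 23, 24]

/-- the letters of the product of the `n_i` -/
def nW (w : List ℕ) : List ℕ := w.flatMap nl

/-- the four representatives -/
def reps : List (List ℕ) := [[47], [44], [47, 44], [39, 45]]

/-- the check: `h * n_w * h⁻¹` is one of the four representatives -/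
def chk (w h b : List ℕ) : Bool :=
  okW (h ++ nW w ++ h.reverse) && okW b && Nat.beq (wc (h ++ nW w ++ h.reverse) idN) (wc b idN)

theorem conj_of_chk {K : Type*} [Field K] [CharP K 2] {w h b : List ℕ} (hc : chk w h b = true) :
    wG K h * wG K (nW w) * (wG K h)⁻¹ = wG K b := by
  unfold chk at hc
  rw [Bool.and_eq_true, Bool.and_eq_true] at hc
  exact conj_of_code hc.1.1 hc.1.2 hc.2

/-- J = [] -/
theorem chk0 : chk [3, 2, 1, 2, 0, 1, 2, 3, 2, 1, 2, 0, 1, 2, 3, 2, 1, 2, 0, 1, 2, 0, 1, 0]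
    [25, 22, 25, 27, 20, 27, 25, 22, 25, 33, 14, 33, 27, 20, 27, 25, 22, 25, 24, 23, 24, 32, 42, 29, 24, 23, 24, 25, 22, 25, 33, 14, 33, 27, 20, 27, 25, 22, 25, 24, 23, 24, 25, 22, 25, 33, 14, 33, 27, 20, 27, 33, 14, 33, 35, 38, 41, 27, 20, 27, 25, 22, 25, 24, 23, 24, 27, 20, 27, 25, 22, 25, 33, 14, 33, 27, 20, 27, 25, 22, 25, 24, 23, 24, 25, 22, 25, 33, 14, 33, 27, 20, 27, 25, 22, 25, 33, 14, 33, 27, 20, 27, 27, 28, 41, 47]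
    [39, 45] = true := by decide +kernel

/-- J = [0] -/
theorem chk1 : chk [3, 2, 1, 2, 0, 1, 2, 3, 2, 1, 2, 0, 1, 2, 3, 2, 1, 2, 0, 1, 2, 0, 1]
    [25, 22, 25, 27, 20, 27, 25, 22, 25, 33, 14, 33, 27, 20, 27, 25, 22, 25, 24, 23, 24, 32, 42, 29, 25, 22, 25, 27, 20, 27, 25, 22, 25, 33, 14, 33, 27, 20, 27, 25, 22, 25, 24, 23, 24, 25, 22, 25, 27, 20, 27, 25, 22, 25, 33, 14, 33, 27, 20, 27, 25, 22, 25, 24, 23, 24, 33, 14, 33, 27, 20, 27, 24, 45, 39]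
    [39, 45] = true := by decide +kernel

/-- J = [1] -/
theorem chk2 : chk [3, 2, 1, 2, 0, 1, 2, 3, 2, 1, 2, 0, 1, 2, 3, 2, 1, 2, 0, 1, 2, 1, 0]
    [25, 22, 25, 27, 20, 27, 25, 22, 25, 33, 14, 33, 27, 20, 27, 25, 22, 25, 24, 23, 24, 32, 42, 29, 25, 22, 25, 27, 20, 27, 25, 22, 25, 33, 14, 33, 27, 20, 27, 25, 22, 25, 24, 23, 24, 25, 22, 25, 27, 20, 27, 25, 22, 25, 33, 14, 33, 27, 20, 27, 25, 22, 25, 24, 23, 24, 24, 32, 44]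
    [39, 45] = true := by decide +kernel

/-- J = [2] -/
theorem chk4 : chk [3, 2, 1, 2, 0, 1, 2, 3, 2, 1, 2, 0, 1, 2, 3, 1, 2, 0, 1, 2, 0, 1, 0]
    [27, 20, 27, 25, 22, 25, 24, 23, 24, 27, 20, 27, 25, 22, 25, 33, 14, 33, 27, 20, 27, 33, 14, 33, 35, 38, 41, 24, 23, 24, 25, 22, 25, 27, 20, 27, 25, 22, 25, 33, 14, 33, 27, 20, 27, 25, 22, 25, 24, 23, 24, 25, 22, 25, 27, 20, 27, 25, 22, 25, 33, 14, 33, 27, 20, 27, 25, 22, 25, 24, 23, 24, 25, 22, 25, 27, 20, 27, 29, 44, 30]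
    [39, 45] = true := by decide +kernel

/-- J = [0, 2] -/
theorem chk5 : chk [3, 2, 1, 2, 0, 1, 2, 3, 2, 1, 2, 0, 1, 2, 3, 1, 2, 0, 1, 2, 0, 1]
    [27, 20, 27, 25, 22, 25, 33, 14, 33, 27, 20, 27, 25, 22, 25, 24, 23, 24, 25, 22, 25, 27, 20, 27, 25, 22, 25, 33, 14, 33, 27, 20, 27, 25, 22, 25, 24, 23, 24, 27, 20, 27, 25, 22, 25, 33, 14, 33, 27, 20, 27, 25, 22, 25, 33, 14, 33, 27, 20, 27, 37, 47]
    [39, 45] = true := by decide +kernel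

/-- J = [1, 2] -/
theorem chk6 : chk [3, 2, 1, 2, 0, 1, 2, 3, 2, 1, 2, 0, 1, 2, 3, 0, 1, 2, 1, 0]
    [33, 14, 33, 27, 20, 27, 25, 22, 25, 27, 20, 27, 33, 14, 33, 41, 24, 23, 24, 25, 22, 25, 27, 20, 27, 25, 22, 25, 33, 14, 33, 27, 20, 27, 25, 22, 25, 24, 23, 24, 25, 22, 25, 27, 20, 27, 25, 22, 25, 33, 14, 33, 27, 20, 27, 25, 22, 25, 24, 23, 24, 29, 44]
    [47, 44] = true := by decide +kernel

/-- J = [0, 1, 2] -/
theorem chk7 : chk [3, 2, 1, 2, 0, 1, 2, 3, 2, 1, 2, 0, 1, 2, 3]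
    [24, 23, 24, 25, 22, 25, 27, 20, 27, 25, 22, 25, 33, 14, 33, 27, 20, 27, 25, 22, 25, 24, 23, 24, 25, 22, 25, 27, 20, 27, 25, 22, 25, 33, 14, 33, 27, 20, 27, 25, 22, 25, 24, 23, 24, 47]
    [47] = true := by decide +kernel

/-- J = [3] -/
theorem chk8 : chk [2, 1, 2, 0, 1, 2, 3, 2, 1, 2, 0, 1, 2, 3, 2, 1, 2, 0, 1, 2, 0, 1, 0]
    [27, 20, 27, 25, 22, 25, 24, 23, 24, 27, 20, 27, 25, 22, 25, 33, 14, 33, 27, 20, 27, 33, 14, 33, 35, 38, 41, 25, 22, 25, 24, 23, 24, 25, 22, 25, 27, 20, 27, 25, 22, 25, 33, 14, 33, 27, 20, 27, 25, 22, 25, 24, 23, 24, 25, 22, 25, 33, 14, 33, 27, 20, 27, 25, 22, 25, 33, 14, 33, 27, 20, 27, 27, 44, 32]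
    [39, 45] = true := by decide +kernel

/-- J = [0, 3] -/
theorem chk9 : chk [2, 1, 2, 0, 1, 2, 3, 2, 1, 2, 0, 1, 2, 3, 2, 1, 2, 0, 1, 2, 0, 1]
    [25, 22, 25, 27, 20, 27, 25, 22, 25, 33, 14, 33, 27, 20, 27, 25, 22, 25, 24, 23, 24, 25, 22, 25, 27, 20, 27, 25, 22, 25, 33, 14, 33, 27, 20, 27, 25, 22, 25, 24, 23, 24, 25, 22, 25, 27, 20, 27, 25, 22, 25, 33, 14, 33, 27, 20, 27, 25, 22, 25, 33, 14, 33, 27, 20, 27, 39, 45]
    [39, 45] = true := by decide +kernel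

/-- J = [1, 3] -/
theorem chk10 : chk [2, 1, 2, 0, 1, 2, 3, 2, 1, 2, 0, 1, 2, 3, 2, 1, 2, 0, 1, 2, 1, 0]
    [25, 22, 25, 27, 20, 27, 25, 22, 25, 33, 14, 33, 27, 20, 27, 25, 22, 25, 24, 23, 24, 25, 22, 25, 27, 20, 27, 25, 22, 25, 33, 14, 33, 27, 20, 27, 25, 22, 25, 24, 23, 24, 25, 22, 25, 27, 20, 27, 25, 22, 25, 33, 14, 33, 27, 20, 27, 25, 22, 25, 44, 32]
    [39, 45] = true := by decide +kernel

/-- J = [1, 2, 3] -/
theorem chk14 : chk [0, 1, 2, 3, 1, 2, 0, 1, 2, 3, 0, 1, 2, 1, 0]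
    [33, 14, 33, 27, 20, 27, 25, 22, 25, 24, 23, 24, 27, 20, 27, 25, 22, 25, 33, 14, 33, 27, 20, 27, 25, 22, 25, 24, 23, 24, 33, 14, 33, 27, 20, 27, 25, 22, 25, 27, 20, 27, 33, 14, 33, 44]
    [44] = true := by decide +kernel

end Cfsg.Agent.H81.FFourFus
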