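import Cfsg.Agent.H81.FFourCode

/-!
The four representatives of the involutions of `F₄` in characteristic 2 are pairwise not conjugate (helper81):
ranks of `y - 1` on the 52-dimensional module and on its 26-dimensional submodule (short roots).
-/

set_option autoImplicit false
set_option maxRecDepth 100000

namespace Cfsg.Agent.H81.FFourRank

open Cfsg.Lie Cfsg.Agent.ChevalleyStructure.TwF4.Bits Cfsg.Agent.ChevalleyStructure.TwF4.Tables
  Cfsg.Agent.ChevalleyStructure.Elts Cfsg.Agent.H81.FFourCode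

universe u

/-- diagonal positions -/
def dgS (S : List ℕ) : Sparse := S.map fun i => (i, i)

/-- packed diagonal projection -/
def PN (S : List ℕ) : ℕ := lmul (dgS S) idN

/-- the check that `S` is a set of positions -/
def okP (S : List ℕ) : Bool := (S.all fun i => Nat.blt i 52) && decide S.Nodup

variable {K : Type u} [Field K]

/-- the diagonal projection -/
def Pm (K : Type u) [Field K] (S : List ℕ) : Matrix chevF4.Idx chevF4.Idx K :=
  Matrix.diagonal fun i => if pos i ∈ S then 1 else 0

theorem okP_lt {S : List ℕ} (h : okP S = true) : (∀ i ∈ S, i < 52) ∧ S.Nodup := by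
  unfold okP at h
  rw [Bool.and_eq_true, List.all_eq_true, decide_eq_true_iff] at h
  exact ⟨fun i hi => by simpa [Nat.blt_eq] using h.1 i hi, h.2⟩

theorem okS_dgS {S : List ℕ} (h : okP S = true) : okS (dgS S) = true := by
  unfold okS dgS
  rw [List.all_eq_true]
  intro e he
  rw [List.mem_map] at he
  obtain ⟨i, hi, rfl⟩ := he
  exact decide_eq_true ((okP_lt h).1 i hi)

theorem semS_dgS {S : List ℕ} (h : S.Nodup) : semS pos K (dgS S) = Pm K S := by
  ext i j
  rw [semS_apply, Pm, Matrix.diagonal_apply]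
  unfold dgS
  rw [List.map_map]
  by_cases hij : i = j
  · subst hij
    rw [if_pos rfl]
    induction S with
    | nil => simp
    | cons a S ih =>
      rw [List.nodup_cons] at h
      rw [List.map_cons, List.sum_cons, ih h.2]
      by_cases ha : a = pos i
      · subst ha
        simp [h.1]
      · have : ¬ (pos i = a) := fun e => ha e.symm
        simp [ha, this]
  · rw [if_neg hij]
    apply List.sum_eq_zero
    intro x hx
    rw [List.mem_map] at hx
    obtain ⟨a, _, rfl⟩ := hx
    have : ¬ (a = pos i ∧ a = pos j) := fun e => hij (posOK.inj (e.1.symm.trans e.2))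
    simp [this]

theorem sem_PN [CharP K 2] {S : List ℕ} (h : okP S = true) : sem pos K (PN S) = Pm K S := by
  rw [PN, sem_lmul posOK _ (okS_dgS h), sem_idN, mul_one, semS_dgS (okP_lt h).2]

theorem rank_Pm {S : List ℕ} (h : okP S = true) : (Pm K S).rank = S.length := by
  classical
  obtain ⟨h1, h2⟩ := okP_lt h
  rw [Pm, Matrix.rank_diagonal]
  have e : {i : chevF4.Idx // (if pos i ∈ S then (1 : K) else 0) ≠ 0} ≃ {n : ℕ // n ∈ S.toFinset} := by
    refine Equiv.ofBijective (fun i => ⟨pos i.1, ?_⟩) ⟨?_, ?_⟩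
    · rw [List.mem_toFinset]
      by_contra hc
      exact i.2 (if_neg hc)
    · intro i j hij
      exact Subtype.ext (posOK.inj (Subtype.ext_iff.1 hij))
    · rintro ⟨n, hn⟩
      rw [List.mem_toFinset] at hn
      obtain ⟨i, hi⟩ := posOK.surj n (h1 n hn)
      refine ⟨⟨i, ?_⟩, Subtype.ext hi⟩
      rw [hi, if_pos hn]
      exact one_ne_zero
  rw [Fintype.card_congr e, Fintype.card_coe, List.toFinset_card_of_nodup h2]

theorem Pm_mul_self {S C : List ℕ} (h : ∀ i ∈ C, i ∈ S) : Pm K S * Pm K C = Pm K C := by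
  unfold Pm
  rw [Matrix.diagonal_mul_diagonal]
  congr 1
  funext i
  by_cases hi : pos i ∈ C
  · rw [if_pos hi, if_pos (h _ hi), mul_one]
  · rw [if_neg hi, mul_zero]

/-- `sub w M` codes `(y - 1) * M` -/
theorem sem_sub [CharP K 2] {w : List ℕ} (hw : okW w = true) (M : ℕ) :
    sem pos K (wc w M ^^^ M) = ((wG K w : Matrix chevF4.Idx chevF4.Idx K) - 1) * sem pos K M := by
  rw [sem_xor, sem_wc hw, sub_mul, one_mul, sub_eq_add_neg]
  congr 1
  ext i j
  rw [Matrix.neg_apply, CharTwo.neg_eq]

/-- lower bound for the rank of `(y - 1) P_S` -/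
theorem rank_ge [CharP K 2] {w S C : List ℕ} {L : Sparse} (hw : okW w = true) (hL : okS L = true)
    (hC : okP C = true) (hS : ∀ i ∈ C, i ∈ S)
    (hc : Nat.beq (lmul L (wc w (PN C) ^^^ PN C)) (PN C) = true) :
    C.length ≤ (((wG K w : Matrix chevF4.Idx chevF4.Idx K) - 1) * Pm K S).rank := by
  have h1 := congrArg (sem pos K) (Nat.eq_of_beq_eq_true hc)
  rw [sem_lmul posOK _ hL, sem_sub hw, sem_PN hC, ← Pm_mul_self hS] at h1
  calc C.length = (Pm K C).rank := (rank_Pm hC).symm
    _ = (semS pos K L * (((wG K w : Matrix chevF4.Idx chevF4.Idx K) - 1) * Pm K S * Pm K C)).rank := by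
        rw [mul_assoc, h1, Pm_mul_self hS]
    _ ≤ _ := (Matrix.rank_mul_le_right _ _).trans (Matrix.rank_mul_le_left _ _)

/-- upper bound for the rank of `(y - 1) P_S` -/
theorem rank_le [CharP K 2] {w S C : List ℕ} (hw : okW w = true) (hC : okP C = true) (hS : okP S = true)
    (hc : Nat.beq (wc w (PN S) ^^^ PN S) (wc w (PN C) ^^^ PN C) = true) :
    (((wG K w : Matrix chevF4.Idx chevF4.Idx K) - 1) * Pm K S).rank ≤ C.length := by
  have h1 := congrArg (sem pos K) (Nat.eq_of_beq_eq_true hc)
  rw [sem_sub hw, sem_sub hw, sem_PN hC, sem_PN hS] at h1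
  rw [h1, ← rank_Pm (K := K) hC]
  exact Matrix.rank_mul_le_right _ _

/-- all positions -/
def AL : List ℕ := List.range 52

/-- the positions of the short part -/
def SH : List ℕ := [0, 1, 7, 11, 12, 13, 14, 15, 16, 17, 18, 22, 23, 24, 31, 32, 33, 37, 38, 39, 40, 41, 42, 43, 44, 48]

theorem Pm_AL : Pm K AL = 1 := by
  unfold Pm
  rw [← Matrix.diagonal_one]
  congr 1
  funext i
  exact if_pos (List.mem_range.2 (posOK.lt i))

theorem stab_mul {R : Type*} [Ring R] {a b p : R} (ha : a * p = p * a * p) (hb : b * p = p * b * p) :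
    a * b * p = p * (a * b) * p := by
  calc a * b * p = a * (b * p) := mul_assoc _ _ _
    _ = a * (p * b * p) := congrArg (a * ·) hb
    _ = (a * p) * (b * p) := by simp only [mul_assoc]
    _ = (p * a * p) * (b * p) := congrArg (· * (b * p)) ha
    _ = (p * a) * (p * b * p) := by simp only [mul_assoc]
    _ = (p * a) * (b * p) := congrArg ((p * a) * ·) hb.symm
    _ = p * (a * b) * p := by simp only [mul_assoc]

/-- `h` stabilises the image of the projection -/
def Stab (K : Type u) [Field K] (S : List ℕ) (h : GL chevF4.Idx K) : Prop :=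
  (h : Matrix chevF4.Idx chevF4.Idx K) * Pm K S = Pm K S * (h : Matrix chevF4.Idx chevF4.Idx K) * Pm K S

theorem Stab.one (S : List ℕ) : Stab K S 1 := by
  unfold Stab
  rw [Units.val_one, one_mul, mul_one, Pm_mul_self fun i hi => hi]

theorem Stab.mul {S : List ℕ} {g h : GL chevF4.Idx K} (hg : Stab K S g) (hh : Stab K S h) : Stab K S (g * h) := by
  unfold Stab at *
  rw [Units.val_mul]
  exact stab_mul hg hh

theorem Stab.pow {S : List ℕ} {g : GL chevF4.Idx K} (hg : Stab K S g) (n : ℕ) : Stab K S (g ^ n) := by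
  induction n with
  | zero => rw [pow_zero]; exact Stab.one S
  | succ n ih => rw [pow_succ]; exact ih.mul hg

theorem Stab.inv [Finite K] {S : List ℕ} {g : GL chevF4.Idx K} (hg : Stab K S g) : Stab K S g⁻¹ := by
  have : Finite (GL chevF4.Idx K) := inferInstance
  have h : g⁻¹ = g ^ (orderOf g - 1) := by
    rw [inv_eq_iff_mul_eq_one, ← pow_succ', Nat.sub_add_cancel (orderOf_pos g), pow_orderOf_eq_one]
  rw [h]
  exact hg.pow _

/-- the check that the root elements stabilise the short part -/
def chkStab : Bool := (List.range 48).all fun r =>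
  Nat.beq (lmul (Els r) (PN SH)) (lmul (dgS SH) (lmul (Els r) (PN SH))) &&
    Nat.beq (lmul (Fls r) (PN SH)) (lmul (dgS SH) (lmul (Fls r) (PN SH)))

theorem chkStab_true : chkStab = true := by decide +kernel

theorem okP_SH : okP SH = true := by decide +kernel

theorem stab_xG [CharP K 2] {r : ℕ} (hr : r < 48) (t : K) : Stab K SH (xG hF r t) := by
  have h := chkStab_true
  unfold chkStab at h
  rw [List.all_eq_true] at h
  have h1 := h r (List.mem_range.2 hr)
  rw [Bool.and_eq_true] at h1
  have e1 := congrArg (sem pos K) (Nat.eq_of_beq_eq_true h1.1)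
  have e2 := congrArg (sem pos K) (Nat.eq_of_beq_eq_true h1.2)
  rw [sem_lmul posOK _ (okS_dgS okP_SH), sem_lmul posOK _ (okS_Els r), sem_PN okP_SH,
    semS_dgS (okP_lt okP_SH).2] at e1
  rw [sem_lmul posOK _ (okS_dgS okP_SH), sem_lmul posOK _ (okS_Fls r), sem_PN okP_SH,
    semS_dgS (okP_lt okP_SH).2] at e2
  unfold Stab
  rw [coe_xG, x_eq r hr, mul_assoc]
  simp only [add_mul, mul_add, one_mul, Matrix.smul_mul, Matrix.mul_smul]
  rw [← e1, ← e2, Pm_mul_self fun i hi => hi]

theorem stab_of_mem [Finite K] [CharP K 2] {h : GL chevF4.Idx K} (hh : h ∈ chevF4.group K) : Stab K SH h := by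
  unfold ChevalleyDatum.group at hh
  induction hh using Subgroup.closure_induction with
  | mem x hx =>
    obtain ⟨r, t, hx⟩ := hx
    have : x = xG hF r.val t := by
      rw [eq_xG_iff, hx, x_of_lt r.2]
    rw [this]
    exact stab_xG r.2 t
  | one => exact Stab.one _
  | mul x y _ _ hx hy => exact hx.mul hy
  | inv x _ hx => exact hx.inv

/-- conjugate elements: equal ranks on a stable subspace -/
theorem rank_le_of_conj {S : List ℕ} {h y z : GL chevF4.Idx K} (hh : Stab K S h⁻¹) (e : h * y * h⁻¹ = z) :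
    (((z : Matrix chevF4.Idx chevF4.Idx K) - 1) * Pm K S).rank ≤
      (((y : Matrix chevF4.Idx chevF4.Idx K) - 1) * Pm K S).rank := by
  have h1 : (z : Matrix chevF4.Idx chevF4.Idx K) - 1 = (h : Matrix chevF4.Idx chevF4.Idx K) *
      ((y : Matrix chevF4.Idx chevF4.Idx K) - 1) * ((h⁻¹ : GL chevF4.Idx K) : Matrix chevF4.Idx chevF4.Idx K) := by
    rw [mul_sub, sub_mul, mul_one, ← Units.val_mul, ← Units.val_mul, ← Units.val_mul, e, mul_inv_cancel,
      Units.val_one]
  unfold Stab at hh
  have h2 : ((z : Matrix chevF4.Idx chevF4.Idx K) - 1) * Pm K S = (h : Matrix chevF4.Idx chevF4.Idx K) *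
      (((y : Matrix chevF4.Idx chevF4.Idx K) - 1) * Pm K S *
        (((h⁻¹ : GL chevF4.Idx K) : Matrix chevF4.Idx chevF4.Idx K) * Pm K S)) := by
    calc ((z : Matrix chevF4.Idx chevF4.Idx K) - 1) * Pm K S
        = (h : Matrix chevF4.Idx chevF4.Idx K) * (((y : Matrix chevF4.Idx chevF4.Idx K) - 1) *
          (((h⁻¹ : GL chevF4.Idx K) : Matrix chevF4.Idx chevF4.Idx K) * Pm K S)) := by rw [h1]; simp only [mul_assoc]
      _ = (h : Matrix chevF4.Idx chevF4.Idx K) * (((y : Matrix chevF4.Idx chevF4.Idx K) - 1) *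
          (Pm K S * ((h⁻¹ : GL chevF4.Idx K) : Matrix chevF4.Idx chevF4.Idx K) * Pm K S)) := by rw [← hh]
      _ = _ := by simp only [mul_assoc]
  rw [h2]
  exact (Matrix.rank_mul_le_right _ _).trans (Matrix.rank_mul_le_left _ _)

end Cfsg.Agent.H81.FFourRank
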