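import Mathlib
import Cfsg.Agent.ChevalleyStructure.SparseAct

/-!
Ranks over a field of characteristic 2 from bit masks (helper81).

* `vec D K m` : the 0/1 vector with the bits of `m`;
* `elim l` : echelon form of a list of masks; `finrank_span` : the span of the vectors has dimension `(elim l).length`;
* `okT D r T` : check that the table `T` gives `x_r(1)`, `mulVec_x`;
* `rank_word` : the rank of `x_{r₁}(1) ⋯ x_{r_k}(1) - 1`.
-/

set_option autoImplicit false
set_option linter.unusedSectionVars false

namespace Cfsg.Agent.H81.RankTwo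

open Cfsg.Lie Cfsg.Agent.ChevalleyStructure.SparseAct

universe u

/-! ### Echelon form of masks -/

/-- reduction of a mask by a list of (pivot, mask), the oldest first -/
def red : List (ℕ × ℕ) → ℕ → ℕ
  | [], m => m
  | b :: B, m => if (red B m).testBit b.1 then red B m ^^^ b.2 else red B m

/-- echelon form of a list of masks -/
def elim : List ℕ → List (ℕ × ℕ)
  | [] => []
  | m :: l => if red (elim l) m = 0 then elim l else (Nat.log2 (red (elim l) m), red (elim l) m) :: elim l

/-- a sorted echelon system: later masks vanish at the earlier pivots -/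
inductive Ech : List (ℕ × ℕ) → Prop
  | nil : Ech []
  | cons {B : List (ℕ × ℕ)} {p m : ℕ} (h : Ech B) (hp : m.testBit p = true) (h0 : ∀ b ∈ B, m.testBit b.1 = false) :
      Ech ((p, m) :: B)

theorem red_bit {B : List (ℕ × ℕ)} (h : Ech B) (m : ℕ) : ∀ b ∈ B, (red B m).testBit b.1 = false := by
  induction h with
  | nil => intro b hb; simp at hb
  | @cons B p x hB hp h0 ih =>
    intro b hb
    rw [red]
    rcases List.mem_cons.1 hb with rfl | hb
    · by_cases hc : (red B m).testBit p = true
      · rw [if_pos hc, Nat.testBit_xor, hc, hp]; rfl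
      · rw [if_neg hc]
        exact Bool.eq_false_iff.2 hc
    · by_cases hc : (red B m).testBit p = true
      · rw [if_pos hc, Nat.testBit_xor, ih b hb, h0 b hb]; rfl
      · rw [if_neg hc]
        exact ih b hb

theorem testBit_log2 {m : ℕ} (h : m ≠ 0) : m.testBit (Nat.log2 m) = true := by
  have h1 : 2 ^ Nat.log2 m ≤ m := Nat.log2_self_le h
  have h2 : m < 2 ^ (Nat.log2 m + 1) := Nat.lt_log2_self
  rw [Nat.testBit_eq_decide_div_mod_eq, decide_eq_true_eq]
  have h3 : m / 2 ^ Nat.log2 m = 1 := by
    rw [pow_succ] at h2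
    have hpos : 0 < 2 ^ Nat.log2 m := by positivity
    apply Nat.le_antisymm
    · exact Nat.le_of_lt_succ ((Nat.div_lt_iff_lt_mul hpos).2 (by omega))
    · exact (Nat.le_div_iff_mul_le hpos).2 (by omega)
  rw [h3]

theorem ech_elim (l : List ℕ) : Ech (elim l) := by
  induction l with
  | nil => exact Ech.nil
  | cons m l ih =>
    rw [elim]
    split_ifs with h
    · exact ih
    · exact Ech.cons ih (testBit_log2 h) (red_bit ih m)

section Vec

variable (D : ChevalleyDatum) (K : Type u) [Field K]

/-- the 0/1 vector of a mask -/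
def vec (m : ℕ) : D.Idx → K := fun i => if m.testBit (code D i) then 1 else 0

theorem vec_apply (m : ℕ) (i : D.Idx) : vec D K m i = if m.testBit (code D i) then 1 else 0 := rfl

theorem vec_zero : vec D K 0 = 0 := by
  funext i
  rw [vec_apply, Nat.zero_testBit]
  rfl

theorem vec_xor [CharP K 2] (a b : ℕ) : vec D K (a ^^^ b) = vec D K a + vec D K b := by
  funext i
  rw [Pi.add_apply, vec_apply, vec_apply, vec_apply, Nat.testBit_xor]
  cases a.testBit (code D i) <;> cases b.testBit (code D i) <;> simp [CharTwo.add_self_eq_zero]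

/-- the bits of the mask lie below the dimension -/
def N : ℕ := D.rank + D.nroots

variable {D K}

theorem vec_eq_zero {m : ℕ} (hm : m < 2 ^ N D) (h : vec D K m = 0) : m = 0 := by
  apply Nat.eq_of_testBit_eq
  intro i
  rw [Nat.zero_testBit]
  by_cases hi : i < N D
  · obtain ⟨j, hj⟩ := exists_code D hi
    have := congrFun h j
    rw [vec_apply, hj, Pi.zero_apply] at this
    by_contra hc
    rw [if_pos (by simpa using hc)] at this
    exact one_ne_zero this
  · exact Nat.testBit_lt_two_pow (lt_of_lt_of_le hm (Nat.pow_le_pow_right (by norm_num) (not_lt.1 hi)))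

/-- the span of the vectors of the masks of an echelon system -/
def spanB (D : ChevalleyDatum) (K : Type u) [Field K] (B : List (ℕ × ℕ)) : Submodule K (D.Idx → K) :=
  Submodule.span K {v | ∃ b ∈ B, v = vec D K b.2}

theorem spanB_cons (b : ℕ × ℕ) (B : List (ℕ × ℕ)) :
    spanB D K (b :: B) = Submodule.span K {vec D K b.2} ⊔ spanB D K B := by
  unfold spanB
  rw [← Submodule.span_union]
  congr 1
  ext v
  simp only [Set.mem_ofPred_eq, List.mem_cons, exists_eq_or_imp, Set.mem_union, Set.mem_singleton_iff]

theorem spanB_nil : spanB D K [] = ⊥ := by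
  unfold spanB
  rw [Submodule.span_eq_bot]
  rintro v ⟨b, hb, -⟩
  simp at hb

/-- a vector of the span vanishing at the pivots is zero -/
theorem eq_zero_of_pivots {B : List (ℕ × ℕ)} (h : Ech B) (hN : ∀ b ∈ B, b.1 < N D) :
    ∀ v ∈ spanB D K B, (∀ b ∈ B, ∀ i : D.Idx, code D i = b.1 → v i = 0) → v = 0 := by
  induction h with
  | nil =>
    intro v hv _
    rw [spanB_nil, Submodule.mem_bot] at hv
    exact hv
  | @cons B p x hB hp h0 ih =>
    intro v hv hz
    rw [spanB_cons, Submodule.mem_sup] at hv
    obtain ⟨a, ha, w, hw, rfl⟩ := hv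
    rw [Submodule.mem_span_singleton] at ha
    obtain ⟨c, rfl⟩ := ha
    have hw0 : w = 0 := by
      refine ih (fun b hb => hN b (by simp [hb])) w hw fun b hb i hi => ?_
      have h1 := hz b (by simp [hb]) i hi
      rw [Pi.add_apply, Pi.smul_apply, vec_apply, hi, h0 b hb] at h1
      simpa using h1
    subst hw0
    obtain ⟨i, hi⟩ := exists_code D (hN (p, x) (by simp))
    have h1 := hz (p, x) (by simp) i hi
    rw [add_zero, Pi.smul_apply, vec_apply, hi, hp] at h1
    have hc : c = 0 := by simpa using h1
    rw [hc, zero_smul, zero_add]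

theorem finrank_spanB {B : List (ℕ × ℕ)} (h : Ech B) (hN : ∀ b ∈ B, b.1 < N D) :
    Module.finrank K (spanB D K B) = B.length := by
  induction h with
  | nil => rw [spanB_nil, finrank_bot]; rfl
  | @cons B p x hB hp h0 ih =>
    have hN' : ∀ b ∈ B, b.1 < N D := fun b hb => hN b (by simp [hb])
    rw [spanB_cons, List.length_cons, ← ih hN']
    obtain ⟨i, hi⟩ := exists_code D (hN (p, x) (by simp))
    have hne : vec D K x ≠ 0 := by
      intro h1
      have := congrFun h1 i
      rw [vec_apply, hi, hp] at this
      simp at this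
    have hinf : Submodule.span K {vec D K x} ⊓ spanB D K B = ⊥ := by
      rw [eq_bot_iff]
      intro v hv
      obtain ⟨hv1, hv2⟩ := Submodule.mem_inf.1 hv
      rw [Submodule.mem_bot]
      refine eq_zero_of_pivots hB hN' v hv2 fun b hb j hj => ?_
      rw [Submodule.mem_span_singleton] at hv1
      obtain ⟨c, rfl⟩ := hv1
      rw [Pi.smul_apply, vec_apply, hj, h0 b hb]
      simp
    have h2 := Submodule.finrank_sup_add_finrank_inf_eq (Submodule.span K {vec D K x}) (spanB D K B)
    rw [hinf, finrank_bot, add_zero, finrank_span_singleton hne] at h2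
    show Module.finrank K ↥(Submodule.span K {vec D K (p, x).2} ⊔ spanB D K B) = _
    rw [h2, add_comm]

theorem vec_red [CharP K 2] (B : List (ℕ × ℕ)) (m : ℕ) :
    ∃ w ∈ spanB D K B, vec D K (red B m) = vec D K m + w := by
  induction B with
  | nil => exact ⟨0, zero_mem _, by rw [red, add_zero]⟩
  | cons b B ih =>
    obtain ⟨w, hw, e⟩ := ih
    have h1 : spanB D K B ≤ spanB D K (b :: B) := by rw [spanB_cons]; exact le_sup_right
    rw [red]
    split_ifs with hc
    · refine ⟨w + vec D K b.2, add_mem (h1 hw) ?_, ?_⟩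
      · rw [spanB_cons]
        exact Submodule.mem_sup_left (Submodule.mem_span_singleton_self _)
      · rw [vec_xor, e, add_assoc]
    · exact ⟨w, h1 hw, e⟩

/-- the span of the vectors of a list of masks -/
def spanL (D : ChevalleyDatum) (K : Type u) [Field K] (l : List ℕ) : Submodule K (D.Idx → K) :=
  Submodule.span K {v | ∃ m ∈ l, v = vec D K m}

theorem spanL_cons (m : ℕ) (l : List ℕ) :
    spanL D K (m :: l) = Submodule.span K {vec D K m} ⊔ spanL D K l := by
  unfold spanL
  rw [← Submodule.span_union]
  congr 1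
  ext v
  simp only [Set.mem_ofPred_eq, List.mem_cons, exists_eq_or_imp, Set.mem_union, Set.mem_singleton_iff]

theorem spanB_elim [CharP K 2] (l : List ℕ) : spanB D K (elim l) = spanL D K l := by
  induction l with
  | nil =>
    rw [elim, spanB_nil, spanL]
    symm
    rw [Submodule.span_eq_bot]
    rintro v ⟨b, hb, -⟩
    simp at hb
  | cons m l ih =>
    obtain ⟨w, hw, e⟩ := vec_red (K := K) (D := D) (elim l) m
    rw [spanL_cons, ← ih, elim]
    split_ifs with h
    · rw [h, vec_zero] at e
      have h1 : vec D K m = -w := by rw [eq_neg_iff_add_eq_zero]; exact e.symm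
      have h2 : Submodule.span K {vec D K m} ≤ spanB D K (elim l) := by
        rw [Submodule.span_singleton_le_iff_mem, h1]
        exact neg_mem hw
      rw [sup_eq_right.2 h2]
    · rw [spanB_cons]
      apply le_antisymm
      · refine sup_le ?_ le_sup_right
        rw [Submodule.span_singleton_le_iff_mem]
        show vec D K (red (elim l) m) ∈ _
        rw [e]
        exact add_mem (Submodule.mem_sup_left (Submodule.mem_span_singleton_self _)) (Submodule.mem_sup_right hw)
      · refine sup_le ?_ le_sup_right
        rw [Submodule.span_singleton_le_iff_mem]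
        have h1 : vec D K m = vec D K (red (elim l) m) - w := by rw [e, add_sub_cancel_right]
        rw [h1]
        exact sub_mem (Submodule.mem_sup_left (Submodule.mem_span_singleton_self _)) (Submodule.mem_sup_right hw)

/-- **The dimension of the span of the vectors of a list of masks.** -/
theorem finrank_spanL [CharP K 2] {l : List ℕ} (h : (elim l).all (fun b => Nat.blt b.1 (N D)) = true) :
    Module.finrank K (spanL D K l) = (elim l).length := by
  rw [← spanB_elim]
  refine finrank_spanB (ech_elim l) fun b hb => ?_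
  rw [List.all_eq_true] at h
  simpa [Nat.blt_eq] using h b hb

end Vec

/-! ### The action of `x_r(1)` -/

/-- the mask of a list of terms (code, exponent, coefficient) modulo 2 -/
def maskL (l : List (ℕ × ℕ × ℤ)) : ℕ :=
  l.foldr (fun (q : ℕ × ℕ × ℤ) (m : ℕ) => if q.2.2 % 2 = 0 then m else m ^^^ (1 <<< q.1)) 0

/-- the mask of the column with code `j` of `x_r(1)` modulo 2 -/
def cmask (D : ChevalleyDatum) (r j : ℕ) : ℕ := maskL (col D r j)

/-- the action of a table of (code, mask of the image minus the identity) on a mask -/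
def actT (T : List (ℕ × ℕ)) (m : ℕ) : ℕ := T.foldr (fun e a => if m.testBit e.1 then a ^^^ e.2 else a) m

/-- the table is right -/
def okT (D : ChevalleyDatum) (r : ℕ) (T : List (ℕ × ℕ)) : Bool :=
  Nat.blt r D.nroots && (T.all (fun e => Nat.blt e.1 (N D)) &&
    (List.range (N D)).all fun j => Nat.beq (actT T (1 <<< j)) (cmask D r j))

section Act

variable {D : ChevalleyDatum} {K : Type u} [Field K] [CharP K 2]

theorem cast_even {c : ℤ} (h : c % 2 = 0) : (c : K) = 0 := by
  obtain ⟨k, rfl⟩ := Int.dvd_of_emod_eq_zero h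
  rw [Int.cast_mul, Int.cast_ofNat, CharTwo.two_eq_zero, zero_mul]

theorem cast_odd {c : ℤ} (h : c % 2 ≠ 0) : (c : K) = 1 := by
  have h0 : (c - 1) % 2 = 0 := by omega
  have h2 := cast_even (K := K) h0
  rw [Int.cast_sub, Int.cast_one, sub_eq_zero] at h2
  exact h2

theorem testBit_one_shiftLeft (a i : ℕ) : (1 <<< a).testBit i = decide (a = i) := by
  rw [Nat.one_shiftLeft, Nat.testBit_two_pow]

theorem sum_mask (l : List (ℕ × ℕ × ℤ)) (k : ℕ) :
    (l.map fun q : ℕ × ℕ × ℤ => if q.1 = k then (q.2.2 : K) * 1 ^ q.2.1 else 0).sum =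
      if (maskL l).testBit k then 1 else 0 := by
  induction l with
  | nil => simp [maskL]
  | cons q l ih =>
    have e : maskL (q :: l) = if q.2.2 % 2 = 0 then maskL l else maskL l ^^^ (1 <<< q.1) := rfl
    rw [List.map_cons, List.sum_cons, ih, e, one_pow, mul_one]
    by_cases h : q.2.2 % 2 = 0
    · rw [if_pos h, cast_even h, ite_self, zero_add]
    · rw [if_neg h, cast_odd h, Nat.testBit_xor, testBit_one_shiftLeft]
      by_cases h1 : q.1 = k
      · cases hb : (maskL l).testBit k <;>
          simp [h1, CharTwo.add_self_eq_zero]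
      · simp [h1]

theorem xMat_one_apply (r : Fin D.nroots) (a c : D.Idx) :
    D.xMat K r 1 a c = vec D K (cmask D r.val (code D c)) a := by
  rw [xMat_apply, sum_mask, vec_apply]
  rfl

theorem vec_actT (T : List (ℕ × ℕ)) (m : ℕ) :
    vec D K (actT T m) = vec D K m + (T.map fun e => if m.testBit e.1 then vec D K e.2 else 0).sum := by
  unfold actT
  induction T with
  | nil => simp
  | cons e T ih =>
    rw [List.foldr_cons, List.map_cons, List.sum_cons]
    by_cases h : m.testBit e.1 = true
    · rw [if_pos h, if_pos h, vec_xor, ih]; abel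
    · rw [if_neg h, if_neg h, ih, zero_add]

theorem vec_single (c : D.Idx) : vec D K (1 <<< code D c) = Pi.single c 1 := by
  funext i
  rw [vec_apply, testBit_one_shiftLeft, Pi.single_apply]
  by_cases h : i = c
  · subst h; simp
  · have : ¬ code D c = code D i := fun h1 => h (code_injective D h1).symm
    simp [h, this]

/-- `x_r(1)` acts on masks by its table -/
theorem mulVec_x {r : ℕ} {T : List (ℕ × ℕ)} (h : okT D r T = true) (m : ℕ) :
    (D.x K r 1).mulVec (vec D K m) = vec D K (actT T m) := by
  unfold okT at h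
  rw [Bool.and_eq_true, Bool.and_eq_true, List.all_eq_true, List.all_eq_true] at h
  obtain ⟨h1, h2, h3⟩ := h
  have hr : r < D.nroots := by simpa [Nat.blt_eq] using h1
  rw [ChevalleyDatum.x, dif_pos hr]
  funext a
  rw [Matrix.mulVec, dotProduct]
  have e1 : ∀ c : D.Idx, D.xMat K ⟨r, hr⟩ 1 a c =
      (Pi.single c (1 : K) : D.Idx → K) a + (T.map fun e => if e.1 = code D c then vec D K e.2 a else 0).sum := by
    intro c
    have e2 := Nat.eq_of_beq_eq_true (h3 (code D c) (List.mem_range.2 (code_lt D c)))
    rw [xMat_one_apply]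
    show vec D K (cmask D r (code D c)) a = _
    rw [← e2, vec_actT, Pi.add_apply, vec_single]
    congr 1
    clear h2 h3 e2
    induction T with
    | nil => rfl
    | cons e T ih =>
      rw [List.map_cons, List.sum_cons, List.map_cons, List.sum_cons, Pi.add_apply, ih, testBit_one_shiftLeft]
      congr 1
      by_cases hc : e.1 = code D c
      · simp [hc]
      · have : ¬ code D c = e.1 := fun h => hc h.symm
        simp [hc, this]
  have e3 : ∀ c : D.Idx, D.xMat K ⟨r, hr⟩ 1 a c * vec D K m c =
      (Pi.single c (1 : K) : D.Idx → K) a * vec D K m c +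
        (T.map fun e => if e.1 = code D c then vec D K e.2 a * vec D K m c else 0).sum := by
    intro c
    rw [e1, add_mul]
    congr 1
    clear h2 h3 e1
    induction T with
    | nil => simp
    | cons e T ih =>
      rw [List.map_cons, List.sum_cons, List.map_cons, List.sum_cons, add_mul, ih]
      congr 1
      split_ifs <;> simp
  rw [Finset.sum_congr rfl fun c _ => e3 c, Finset.sum_add_distrib, vec_actT, Pi.add_apply]
  congr 1
  · rw [Finset.sum_eq_single a]
    · rw [Pi.single_eq_same, one_mul]
    · intro c _ hc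
      rw [Pi.single_eq_of_ne hc.symm, zero_mul]
    · intro hc; exact absurd (Finset.mem_univ _) hc
  · clear h3 e1 e3
    induction T with
    | nil => simp
    | cons e T ih =>
      simp only [List.map_cons, List.sum_cons, Finset.sum_add_distrib]
      rw [Pi.add_apply, ih fun x hx => h2 x (by simp [hx])]
      congr 1
      have he : e.1 < N D := by simpa [Nat.blt_eq] using h2 e (by simp)
      obtain ⟨i, hi⟩ := exists_code D he
      rw [Finset.sum_eq_single i]
      · rw [if_pos hi.symm, vec_apply D K m i, hi]
        by_cases h5 : m.testBit e.1 = true <;> simp [h5]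
      · intro c _ hc
        rw [if_neg]
        intro h4
        exact hc (code_injective D (hi.trans h4).symm)
      · intro hc; exact absurd (Finset.mem_univ _) hc

/-! ### Words -/

/-- the action of a product of root elements given by their tables -/
def actW (L : List (ℕ × List (ℕ × ℕ))) (m : ℕ) : ℕ := L.foldr (fun e a => actT e.2 a) m

/-- the product of the root elements `x_r(1)` -/
def wmat (D : ChevalleyDatum) (K : Type u) [Field K] (L : List ℕ) : Matrix D.Idx D.Idx K :=
  (L.map fun r => D.x K r 1).prod

theorem wmat_cons (r : ℕ) (L : List ℕ) : wmat D K (r :: L) = D.x K r 1 * wmat D K L := by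
  unfold wmat
  rw [List.map_cons, List.prod_cons]

theorem mulVec_wmat {L : List (ℕ × List (ℕ × ℕ))} (h : ∀ e ∈ L, okT D e.1 e.2 = true) (m : ℕ) :
    (wmat D K (L.map Prod.fst)).mulVec (vec D K m) = vec D K (actW L m) := by
  induction L with
  | nil => rw [List.map_nil, wmat, List.map_nil, List.prod_nil, Matrix.one_mulVec]; rfl
  | cons e L ih =>
    rw [List.map_cons, wmat_cons, ← Matrix.mulVec_mulVec, ih fun x hx => h x (by simp [hx]),
      mulVec_x (h e (by simp))]
    rfl

/-- the masks of the columns of `y - 1` -/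
def cols (D : ChevalleyDatum) (L : List (ℕ × List (ℕ × ℕ))) : List ℕ :=
  (List.range (N D)).map fun j => actW L (1 <<< j) ^^^ (1 <<< j)

/-- the check for the rank -/
def rkchk (D : ChevalleyDatum) (L : List (ℕ × List (ℕ × ℕ))) (k : ℕ) : Bool :=
  (L.all fun e => okT D e.1 e.2) &&
    ((elim (cols D L)).all (fun b => Nat.blt b.1 (N D)) && Nat.beq (elim (cols D L)).length k)

/-- **The rank of `y - 1`, `y` a product of root elements `x_r(1)`.** -/
theorem rank_wmat {L : List (ℕ × List (ℕ × ℕ))} {k : ℕ} (h : rkchk D L k = true) :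
    (wmat D K (L.map Prod.fst) - 1).rank = k := by
  unfold rkchk at h
  rw [Bool.and_eq_true, Bool.and_eq_true, List.all_eq_true] at h
  obtain ⟨h1, h2, h3⟩ := h
  rw [← Nat.eq_of_beq_eq_true h3, ← finrank_spanL (K := K) h2, Matrix.rank_eq_finrank_span_cols]
  have key : ∀ c : D.Idx, (wmat D K (L.map Prod.fst) - 1).col c =
      vec D K (actW L (1 <<< code D c) ^^^ (1 <<< code D c)) := by
    intro c
    rw [vec_xor, ← mulVec_wmat h1, vec_single]
    funext a
    rw [Matrix.col_apply, Matrix.sub_apply, Pi.add_apply, Matrix.mulVec_single_one, Matrix.col_apply,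
      Matrix.one_apply, Pi.single_apply, CharTwo.sub_eq_add]
  have hset : Set.range (wmat D K (L.map Prod.fst) - 1).col = {v | ∃ m ∈ cols D L, v = vec D K m} := by
   ext v
   constructor
   · rintro ⟨c, rfl⟩
     refine ⟨_, List.mem_map.2 ⟨code D c, List.mem_range.2 (code_lt D c), rfl⟩, key c⟩
   · rintro ⟨m, hm, rfl⟩
     obtain ⟨j, hj, rfl⟩ := List.mem_map.1 hm
     obtain ⟨c, rfl⟩ := exists_code D (List.mem_range.1 hj)
     exact ⟨c, key c⟩
  rw [hset]
  rfl

/-- conjugate elements have the same rank -/
theorem rank_conj {g y z : GL D.Idx K} (h : g * y * g⁻¹ = z) :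
    ((z : Matrix D.Idx D.Idx K) - 1).rank = ((y : Matrix D.Idx D.Idx K) - 1).rank := by
  have key : ∀ {g y z : GL D.Idx K}, g * y * g⁻¹ = z →
      ((z : Matrix D.Idx D.Idx K) - 1).rank ≤ ((y : Matrix D.Idx D.Idx K) - 1).rank := by
    intro g y z h
    have e : (z : Matrix D.Idx D.Idx K) - 1 = (g : Matrix D.Idx D.Idx K) * ((y : Matrix D.Idx D.Idx K) - 1) *
        ((g⁻¹ : GL D.Idx K) : Matrix D.Idx D.Idx K) := by
      rw [mul_sub, mul_one, sub_mul, ← Units.val_mul, ← Units.val_mul, ← Units.val_mul, h, mul_inv_cancel,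
        Units.val_one]
    rw [e]
    exact (Matrix.rank_mul_le_left _ _).trans (Matrix.rank_mul_le_right _ _)
  refine le_antisymm (key h) (key (g := g⁻¹) (y := z) ?_)
  rw [← h]
  group

end Act

end Cfsg.Agent.H81.RankTwo
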