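import Mathlib
import Cfsg.Agent.H81.RankTwo
import Cfsg.Agent.H83.RedGen

/-!
Classes of involutions of a Chevalley group in characteristic 2 from the checks of `H83.RedGen` and ranks (helper81).
-/

set_option autoImplicit false

namespace Cfsg.Agent.H81.InvGen

open Cfsg.Lie Cfsg.Agent.ChevalleyStructure Cfsg.Agent.ChevalleyStructure.Elts Cfsg.Agent.Nodes.RGDChev
  Cfsg.Agent.H81.RankTwo Cfsg.Agent.H83.ChevInv Cfsg.Agent.H83.OrthRed Cfsg.Agent.H83.RedGen

universe u

variable {D : ChevalleyDatum} {K : Type u} [Field K]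

theorem coe_PX (hD : InList D) (L : List ℕ) : ((PX hD K L : GL D.Idx K) : Matrix D.Idx D.Idx K) = wmat D K L := by
  induction L with
  | nil => rw [PX_nil, wmat, List.map_nil, List.prod_nil, Units.val_one]
  | cons r L ih => rw [PX_cons, Units.val_mul, ih, coe_xG, wmat, wmat, List.map_cons, List.prod_cons]

variable [CharP K 2]

/-- equivalent lists have the same rank -/
theorem rank_of_eqv {hD : InList D} {A B : List ℕ} (h : Eqv hD K A B) :
    (wmat D K B - 1).rank = (wmat D K A - 1).rank := by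
  obtain ⟨g, -, e⟩ := h
  have := rank_conj e
  rw [coe_PX, coe_PX] at this
  exact this

/-- a word maps `A` to `R` -/
theorem eqv_of_word {hD : InList D} {A R w : List ℕ} (hw : (w.all fun a => Nat.blt a D.rank) = true)
    (hA : (A.all fun a => Nat.blt a D.nroots) = true)
    (h : decide (A.map (RootWord.wact D w) = R) = true) : Eqv hD K A R := by
  rw [List.all_eq_true] at hw hA
  have h1 := of_decide_eq_true h
  rw [← h1]
  exact Eqv.word (fun a ha => by simpa [Nat.blt_eq] using hw a ha) (fun a ha => by simpa [Nat.blt_eq] using hA a ha)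

/-- `OL` from a check -/
def olchk (D : ChevalleyDatum) (L : List ℕ) : Bool :=
  (L.all fun a => Nat.blt a D.nroots) && decide (L.Pairwise fun r s => Orth D r s)

theorem ol_of_chk {L : List ℕ} (h : olchk D L = true) : OL D L := by
  unfold olchk at h
  rw [Bool.and_eq_true, List.all_eq_true, decide_eq_true_eq] at h
  exact ⟨fun a ha => by simpa [Nat.blt_eq] using h.1 a ha, h.2⟩

/-- **The classes of involutions.** -/
theorem main [Finite K] {l : ℕ} {M : CoxeterMatrix (Fin l)} (hp : IsType D l M) {certs : List Cert}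
    {words reps : List (List ℕ)} {n : ℕ} (hall : allchk D certs words reps n = true) (Ls : List (List ℕ))
    (hr : ∀ R ∈ reps, R = [] ∨ ∃ A ∈ Ls, Eqv hp.inList K R A)
    (hO : ∀ A ∈ Ls, OL D A)
    (hrk : ∀ A ∈ Ls, ∀ B ∈ Ls, (wmat D K A - 1).rank = (wmat D K B - 1).rank → A = B)
    (h0 : ∀ A ∈ Ls, (wmat D K A - 1).rank ≠ 0) :
    (∀ y : GL D.Idx K, (y : Matrix D.Idx D.Idx K) ∈ Ls.map (wmat D K) → y ∈ D.group K ∧ orderOf y = 2) ∧
    (∀ g ∈ D.group K, orderOf g = 2 → ∃ y ∈ D.group K, (y : Matrix D.Idx D.Idx K) ∈ Ls.map (wmat D K) ∧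
      ∃ h ∈ D.group K, h * g * h⁻¹ = y) ∧
    (∀ y₁ ∈ D.group K, ∀ y₂ ∈ D.group K, (y₁ : Matrix D.Idx D.Idx K) ∈ Ls.map (wmat D K) →
      (y₂ : Matrix D.Idx D.Idx K) ∈ Ls.map (wmat D K) → (∃ h ∈ D.group K, h * y₁ * h⁻¹ = y₂) →
      (y₁ : Matrix D.Idx D.Idx K) = (y₂ : Matrix D.Idx D.Idx K)) := by
  refine ⟨?_, ?_, ?_⟩
  · intro y hy
    obtain ⟨A, hA, e⟩ := List.mem_map.1 hy
    have e1 : y = PX hp.inList K A := Units.ext (by rw [coe_PX, e])
    rw [e1]
    refine ⟨PX_mem _ _ _, orderOf_eq_prime ?_ ?_⟩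
    · rw [pow_two]; exact PX_sq (hO A hA)
    · intro h1
      apply h0 A hA
      rw [← coe_PX hp.inList, h1, Units.val_one, sub_self, Matrix.rank_zero]
  · intro g hg ho
    have h1 : g ≠ 1 := by
      rintro rfl
      rw [orderOf_one] at ho
      exact absurd ho (by norm_num)
    have h2 : g * g = 1 := by rw [← pow_two, ← ho, pow_orderOf_eq_one]
    let cs : CoxeterSystem M M.Group := M.toCoxeterSystem
    obtain ⟨y, hy, L, hL, e⟩ := exists_orth' hp cs hg h2
    obtain ⟨R, hR, hE⟩ := classify (hD := hp.inList) (K := K) hall L.length L le_rfl hL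
    rcases hr R hR with rfl | ⟨A, hA, hE'⟩
    · exfalso
      obtain ⟨z, hz, e'⟩ := hE
      rw [PX_nil] at e'
      have h3 : PX hp.inList K L = 1 := by
        have := mul_inv_eq_one.1 e'
        exact mul_left_cancel (a := z) (by rw [this, mul_one])
      rw [h3] at e
      have := mul_inv_eq_one.1 e
      exact h1 (mul_left_cancel (a := y) (by rw [this, mul_one]))
    · obtain ⟨z, hz, e'⟩ := hE.trans hE'
      refine ⟨PX hp.inList K A, PX_mem _ _ _, List.mem_map.2 ⟨A, hA, (coe_PX _ _).symm⟩, z * y, mul_mem hz hy, ?_⟩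
      rw [← e', ← e]
      group
  · rintro y₁ - y₂ - hy₁ hy₂ ⟨h, -, e⟩
    obtain ⟨A, hA, e1⟩ := List.mem_map.1 hy₁
    obtain ⟨B, hB, e2⟩ := List.mem_map.1 hy₂
    have h1 := rank_conj e
    rw [← e1, ← e2] at h1
    rw [← e1, ← e2, hrk A hA B hB h1.symm]

end Cfsg.Agent.H81.InvGen
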