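import Cfsg.Agent.H296.FFourPar
import Cfsg.Agent.H612.WModel
import Cfsg.Agent.H554.RG

/-!
# The order of parabolic subgroups as a product over cosets (helper81)

* `card_word` : `|U_w| = ∏ |X (sr i)|` over a reduced word;
* `sum_eq` : `∑_{w ∈ W_J} |U_w| = (∑_{v ∈ W_K} |U_v|) · (∑ table)`, the table being the orbit of a dominant functional.
-/

set_option autoImplicit false
set_option linter.unusedSectionVars false

namespace Cfsg.Agent.H81.PJSum

open CoxeterSystem Cfsg.Agent.ChevalleyStructure.CoxeterGeom Cfsg.Agent.Tits.Roots Cfsg.Agent.Tits.Core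
  Cfsg.Agent.Tits.Exchange Cfsg.Agent.Nodes.Reps Cfsg.Agent.Nodes.BNOf Cfsg.Agent.Nodes.StabComb
  Cfsg.Agent.Nodes.Bruhat Cfsg.Agent.Nodes.LeviDec Cfsg.Agent.Nodes.NormalForm Cfsg.Agent.Nodes.CardSup
  Cfsg.Agent.H612.WModel

variable {I W Y : Type*} [Fintype I] [DecidableEq I] [Group W] [Group Y] {M : CoxeterMatrix I}
  {cs : CoxeterSystem M W} {A : I → I → ℤ} {h : IsCartan M A} {p : ℕ} {T : Subgroup Y} {n : I → Y}
  {X : (I → ℤ) → Subgroup Y}

theorem NW_mul_simple {w : W} {i : I} (hi : cs.length w < cs.length (w * cs.simple i)) :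
    NW cs h (w * cs.simple i) = insert (sr i) (rep cs h (cs.simple i) '' NW cs h w) := by
  have hpos : 0 ≤ rep cs h w (sr i) := (lt_iff' cs h w i).1 hi
  have hne : ∀ y ∈ NW cs h w, y ≠ sr i := by
    rintro y hy rfl
    exact ((isRoot_sr cs h i).act w).not_pos_neg hpos hy.2.2
  ext x
  constructor
  · rintro ⟨hx, h0, h1⟩
    by_cases hxi : x = sr i
    · exact Or.inl hxi
    · right
      refine ⟨rep cs h (cs.simple i) x, ⟨hx.act _, hx.simple_nonneg h0 i hxi, ?_⟩, ?_⟩
      · rwa [← rep_mul_apply]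
      · rw [← rep_mul_apply, simple_mul_simple_self, map_one, Module.End.one_apply]
  · rintro (rfl | ⟨y, hy, rfl⟩)
    · refine ⟨isRoot_sr cs h i, sr_nonneg i, ?_⟩
      rw [rep_mul_apply, rep_simple_sr, map_neg]
      exact neg_nonpos.2 hpos
    · refine ⟨hy.1.act _, hy.1.simple_nonneg hy.2.1 i (hne y hy), ?_⟩
      rw [← rep_mul_apply, mul_assoc, simple_mul_simple_self, mul_one]
      exact hy.2.2

variable (R : RGD cs h p T n X)

include R

theorem card_NW [Finite W] (w : W) :
    Nat.card ↥(RGD.Sup X (NW cs h w)) = ∏ᶠ x ∈ NW cs h w, Nat.card ↥(X x) := by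
  classical
  have hfin : (NW cs h w).Finite := (RGD.finite_roots (cs := cs) (h := h)).subset fun _ hx => hx.1
  have h1 := card_sup R (s := hfin.toFinset) (by
    rw [Set.Finite.coe_toFinset]
    exact fun x hx => ⟨hx.1, hx.2.1⟩) (by
    rw [Set.Finite.coe_toFinset]
    exact Cfsg.Agent.SigZero.RgdCount.closed_NW w)
  rw [Set.Finite.coe_toFinset] at h1
  rw [h1, finprod_mem_eq_finite_toFinset_prod _ hfin]

omit R in
theorem card_NW0 : Nat.card ↥(RGD.Sup X (∅ : Set (I → ℤ))) = 1 := by
  have h1 : RGD.Sup X (∅ : Set (I → ℤ)) = ⊥ := by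
    rw [eq_bot_iff]
    exact RGD.Sup_le fun z hz => absurd hz (Set.notMem_empty z)
  rw [h1, Subgroup.card_bot]

theorem card_mul_simple [Finite W] {w : W} {i : I} (hi : cs.length w < cs.length (w * cs.simple i)) :
    Nat.card ↥(RGD.Sup X (NW cs h (w * cs.simple i))) =
      Nat.card ↥(RGD.Sup X (NW cs h w)) * Nat.card ↥(X (sr i)) := by
  have hpos : 0 ≤ rep cs h w (sr i) := (lt_iff' cs h w i).1 hi
  have hfin : (NW cs h w).Finite := (RGD.finite_roots (cs := cs) (h := h)).subset fun _ hx => hx.1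
  rw [card_NW R, card_NW R, NW_mul_simple hi, finprod_mem_insert _ _ (hfin.image _), mul_comm,
    finprod_mem_image (rep_injective_apply cs h _).injOn]
  · congr 1
    exact finprod_mem_congr rfl fun x hx => card_X_rep R _ hx.1
  · rintro ⟨y, hy, e⟩
    have h1 : y = -sr i := by
      have h2 := congrArg (rep cs h (cs.simple i)) e
      rw [← rep_mul_apply, simple_mul_simple_self, map_one, Module.End.one_apply, rep_simple_sr] at h2
      exact h2
    rw [h1] at hy
    exact (isRoot_sr cs h i).ne_zero (le_antisymm (neg_nonneg.1 hy.2.1) (sr_nonneg i))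

theorem card_word [Finite W] {ω : List I} (hω : cs.IsReduced ω) :
    Nat.card ↥(RGD.Sup X (NW cs h (cs.wordProd ω))) = (ω.map fun i => Nat.card ↥(X (sr i))).prod := by
  induction ω using List.reverseRecOn with
  | nil =>
    have h1 : NW cs h (1 : W) = ∅ := by
      ext x
      simp only [Set.mem_empty_iff_false, iff_false]
      rintro ⟨hx, h0, h1⟩
      rw [map_one, Module.End.one_apply] at h1
      exact hx.not_pos_neg h0 h1
    rw [wordProd_nil, h1, card_NW0]
    simp
  | append_singleton ω i ih =>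
    have h1 : cs.IsReduced ω := by
      have := hω.take ω.length
      rwa [List.take_left'] at this
      rfl
    have h2 := hω.eq
    rw [wordProd_append, List.length_append, List.length_singleton, wordProd_singleton] at h2
    rw [wordProd_append, wordProd_singleton, card_mul_simple R (by rw [h2, h1.eq]; omega), ih h1, List.map_append,
      List.prod_append]
    simp

theorem card_mul [Finite W] {u v : W} (huv : cs.length (u * v) = cs.length u + cs.length v) :
    Nat.card ↥(RGD.Sup X (NW cs h (u * v))) =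
      Nat.card ↥(RGD.Sup X (NW cs h u)) * Nat.card ↥(RGD.Sup X (NW cs h v)) := by
  obtain ⟨ω, hω, rfl⟩ := cs.exists_isReduced u
  obtain ⟨β, hβ, rfl⟩ := cs.exists_isReduced v
  have h1 : cs.IsReduced (ω ++ β) := by
    unfold CoxeterSystem.IsReduced
    rw [wordProd_append, huv, hω.eq, hβ.eq, List.length_append]
  rw [← wordProd_append, card_word R h1, card_word R hω, card_word R hβ, List.map_append, List.prod_append]

/-- the order of `U_w` -/
noncomputable def f (cs : CoxeterSystem M W) (h : IsCartan M A) (X : (I → ℤ) → Subgroup Y) (w : W) : ℕ :=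
  Nat.card ↥(RGD.Sup X (NW cs h w))

/-- **The sum over `W_J` is divisible by the sum over an orbit.** -/
theorem sum_eq [Finite W] {ι : Type*} [Fintype ι] (d : ι → W) {l : I → ℤ} (h0 : ∀ i, 0 ≤ l i) {J : Set I}
    (hK : ∀ i, l i = 0 → i ∈ J) (hdJ : ∀ a, d a ∈ WJ cs J) (hmin : ∀ a, IsMinL cs {i | l i = 0} (d a))
    (hinj : ∀ a b, fl cs h l (d a) = fl cs h l (d b) → a = b)
    (hcl : ∀ w ∈ WJ cs J, ∃ a, fl cs h l w = fl cs h l (d a)) [Fintype ↥(WJ cs J)]
    [Fintype ↥(WJ cs {i | l i = 0})] :
    ∑ w : ↥(WJ cs J), f cs h X (w : W) = (∑ v : ↥(WJ cs {i | l i = 0}), f cs h X (v : W)) * ∑ a, f cs h X (d a) := by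
  classical
  set K : Set I := {i | l i = 0} with hKd
  have hKJ : WJ cs K ≤ WJ cs J := WJ_mono cs hK
  let F : ↥(WJ cs K) × ι → ↥(WJ cs J) := fun x => ⟨(x.1 : W) * d x.2, mul_mem (hKJ x.1.2) (hdJ x.2)⟩
  have hfl : ∀ (v : ↥(WJ cs K)) (a : ι), fl cs h l ((v : W) * d a) = fl cs h l (d a) := fun v a =>
    fl_mul_left cs h (J := K) (fun j hj => hj) v.2 _
  have hF : Function.Bijective F := by
    constructor
    · rintro ⟨v, a⟩ ⟨v', a'⟩ e
      have e1 : (v : W) * d a = v' * d a' := congrArg Subtype.val e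
      have h1 : a = a' := hinj a a' (by rw [← hfl v a, e1, hfl])
      subst h1
      have h2 : v = v' := Subtype.ext (mul_right_cancel e1)
      rw [h2]
    · rintro ⟨w, hw⟩
      obtain ⟨a, ha⟩ := hcl w hw
      have h1 := (fl_eq_iff cs h h0).1 ha
      exact ⟨(⟨_, h1⟩, a), Subtype.ext (inv_mul_cancel_right w (d a))⟩
  rw [← (Equiv.ofBijective F hF).sum_comp, Fintype.sum_prod_type, Finset.sum_mul]
  refine Finset.sum_congr (by ext; simp) fun v _ => ?_
  rw [Finset.mul_sum]
  refine Finset.sum_congr rfl fun a _ => ?_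
  exact card_mul R (hmin a v v.2)

omit R in
/-- an ascending step -/
theorem min_step {l : I → ℤ} {w : W} {j : I} (h0 : ∀ i, 0 ≤ l i) (hw : IsMinL cs {i | l i = 0} w)
    (hj : 0 < fl cs h l w j) :
    IsMinL cs {i | l i = 0} (w * cs.simple j) ∧ cs.length (w * cs.simple j) = cs.length w + 1 := by
  have hpos : 0 ≤ rep cs h w (sr j) := by
    rcases ((isRoot_sr cs h j).act w).pos_or_neg with h1 | h1
    · exact h1
    · exfalso
      have h2 : fl cs h l w j ≤ 0 := Finset.sum_nonpos fun i _ => mul_nonpos_of_nonneg_of_nonpos (h0 i) (h1 i)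
      omega
  have hlt : cs.length w < cs.length (w * cs.simple j) := (lt_iff' cs h w j).2 hpos
  have hlen : cs.length (w * cs.simple j) = cs.length w + 1 := by
    rcases cs.length_mul_simple w j with h1 | h1 <;> omega
  refine ⟨(isMinL_iff cs).2 fun i hi => ?_, hlen⟩
  have h1 := (isMinL_iff cs).1 hw i hi
  by_contra hcon
  have h2 : cs.length (cs.simple i * w) = cs.length w + 1 := by
    rcases cs.length_simple_mul w i with h3 | h3 <;> omega
  have h3 : cs.length (cs.simple i * w * cs.simple j) < cs.length (cs.simple i * w) := by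
    have h4 : cs.length (cs.simple i * (w * cs.simple j)) ≠ cs.length (w * cs.simple j) := by
      rcases cs.length_simple_mul (w * cs.simple j) i with h3 | h3 <;> omega
    rw [mul_assoc, h2]
    omega
  have h4 : rep cs h (cs.simple i * w) (sr j) ≤ 0 := nonpos_of_lt cs h _ j h3
  rw [rep_mul_apply] at h4
  -- `w α_j = α_i`
  have h5 : rep cs h w (sr j) = sr i := by
    by_contra hne
    have h6 := ((isRoot_sr cs h j).act w).simple_nonneg hpos i hne
    exact (((isRoot_sr cs h j).act w).act (cs.simple i)).not_pos_neg h6 h4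
  have h6 : fl cs h l w j = l i := by
    unfold fl
    rw [h5, Finset.sum_eq_single i]
    · rw [sr_self, mul_one]
    · intro b _ hb
      rw [sr_ne hb, mul_zero]
    · intro hb
      exact absurd (Finset.mem_univ i) hb
  have h7 : l i = 0 := hi
  omega

end Cfsg.Agent.H81.PJSum
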